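import Mathlib
import Cfsg.Prelude.Def_Sporadic_a
import Cfsg.Agent.Helper7.LinearCard

/-!
# S2916 / L33U, piece P10: `PSL(3, ZMod 3)` acts on the 13 points of the projective plane
preserving a Steiner system `S(2,4,13)` (helper1)
-/

set_option autoImplicit false

namespace Cfsg.Agent.L33U

open scoped LinearAlgebra.Projectivization Matrix

/-- A group acting on 13 points and preserving a Steiner system `S(2,4,13)`. -/
structure PlaneAction (G Ω : Type*) [Group G] [MulAction G Ω] [Fintype Ω] [DecidableEq Ω] where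
  /-- the blocks -/
  B : Finset (Finset Ω)
  card_pts : Fintype.card Ω = 13
  card_blk : ∀ b ∈ B, b.card = 4
  steiner : ∀ x y : Ω, x ≠ y → ∃! b, b ∈ B ∧ x ∈ b ∧ y ∈ b
  inv : ∀ (g : G), ∀ b ∈ B, b.image (fun x => g • x) ∈ B

/-- the vector space -/
abbrev V3 := Fin 3 → ZMod 3

/-- the points -/
abbrev Pts := ℙ (ZMod 3) (Fin 3 → ZMod 3)

/-- the group -/
abbrev PSL33 := Matrix.ProjectiveSpecialLinearGroup (Fin 3) (ZMod 3)

noncomputable instance : Fintype Pts := Fintype.ofFinite _

noncomputable instance : DecidableEq Pts := Classical.decEq _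

theorem h1_card_pts : Fintype.card Pts = 13 := by
  rw [← Nat.card_eq_fintype_card]
  have h : Module.finrank (ZMod 3) (Fin 3 → ZMod 3) = 3 := by simp
  rw [Projectivization.card_of_finrank (ZMod 3) (Fin 3 → ZMod 3) h]
  simp [Finset.sum_range_succ]

theorem h1_card_PSL33 : Nat.card PSL33 = 5616 := by
  have h1 := Matrix.card_GL_field (𝔽 := ZMod 3) 3
  have h2 := Cfsg.Agent.Helper7.card_units_mul_card_SL (n := Fin 3) (F := ZMod 3)
  have h3 := Cfsg.Agent.Helper7.card_center_mul_card_PSL (F := ZMod 3) 3 (by norm_num)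
  have hF : Fintype.card (ZMod 3) = 3 := ZMod.card 3
  rw [hF] at h1 h2 h3
  have h1' : Nat.card (GL (Fin 3) (ZMod 3)) = 11232 := by
    rw [h1]; simp [Fin.prod_univ_succ]
  have h3' : Nat.gcd 3 (3 - 1) = 1 := by norm_num
  rw [h3', one_mul] at h3
  rw [h1'] at h2
  show Nat.card (Matrix.ProjectiveSpecialLinearGroup (Fin 3) (ZMod 3)) = 5616
  omega

/-- the linear functional `v ↦ w ⬝ᵥ v` -/
def h1_dot (w : V3) : V3 →ₗ[ZMod 3] ZMod 3 where
  toFun v := w ⬝ᵥ v
  map_add' := dotProduct_add w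
  map_smul' c v := by simp [dotProduct_smul]

theorem h1_dot_apply (w v : V3) : h1_dot w v = w ⬝ᵥ v := rfl

/-- the block of the vector `w` -/
noncomputable def h1_blk (w : V3) : Finset Pts := Finset.univ.filter (fun p => w ⬝ᵥ p.rep = 0)

theorem h1_mem_blk (w : V3) (p : Pts) : p ∈ h1_blk w ↔ w ⬝ᵥ p.rep = 0 := by
  simp [h1_blk]

theorem h1_mem_blk_mk (w v : V3) (hv : v ≠ 0) :
    Projectivization.mk (ZMod 3) v hv ∈ h1_blk w ↔ w ⬝ᵥ v = 0 := by
  rw [h1_mem_blk]
  obtain ⟨a, ha⟩ := Projectivization.exists_smul_eq_mk_rep (ZMod 3) v hv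
  rw [← ha, Units.smul_def, dotProduct_smul, smul_eq_mul]
  constructor
  · intro h
    rcases mul_eq_zero.mp h with h | h
    · exact absurd h a.ne_zero
    · exact h
  · intro h; rw [h, mul_zero]

theorem h1_finrank_ker (w : V3) (hw : w ≠ 0) :
    Module.finrank (ZMod 3) (LinearMap.ker (h1_dot w)) = 2 := by
  have hsurj : Function.Surjective (h1_dot w) := by
    obtain ⟨i, hi⟩ : ∃ i, w i ≠ 0 := by
      by_contra h
      push Not at h
      exact hw (funext h)
    intro c
    refine ⟨Pi.single i (c * (w i)⁻¹), ?_⟩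
    rw [h1_dot_apply, dotProduct_single]
    field_simp
  have h1 := LinearMap.finrank_range_add_finrank_ker (h1_dot w)
  rw [LinearMap.range_eq_top.mpr hsurj] at h1
  simp at h1
  omega

theorem h1_card_blk (w : V3) (hw : w ≠ 0) : (h1_blk w).card = 4 := by
  classical
  have hc : Nat.card (ℙ (ZMod 3) (LinearMap.ker (h1_dot w))) = 4 := by
    rw [Projectivization.card_of_finrank_two (ZMod 3) _ (h1_finrank_ker w hw)]
    simp
  have : Fintype (ℙ (ZMod 3) (LinearMap.ker (h1_dot w))) := Fintype.ofFinite _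
  have hinj : Function.Injective
      (Projectivization.map (LinearMap.ker (h1_dot w)).subtype
        (Submodule.injective_subtype (LinearMap.ker (h1_dot w)))) :=
    Projectivization.map_injective _ _
  have himg : h1_blk w = Finset.univ.image
      (Projectivization.map (LinearMap.ker (h1_dot w)).subtype
        (Submodule.injective_subtype (LinearMap.ker (h1_dot w)))) := by
    ext p
    rw [Finset.mem_image]
    constructor
    · intro hp
      have hrep : p.rep ∈ LinearMap.ker (h1_dot w) := by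
        rw [LinearMap.mem_ker, h1_dot_apply]
        exact (h1_mem_blk w p).mp hp
      have hne : (⟨p.rep, hrep⟩ : LinearMap.ker (h1_dot w)) ≠ 0 := by
        intro h
        exact p.rep_nonzero (congrArg Subtype.val h)
      refine ⟨Projectivization.mk (ZMod 3) ⟨p.rep, hrep⟩ hne, Finset.mem_univ _, ?_⟩
      rw [Projectivization.map_mk]
      exact Projectivization.mk_rep p
    · rintro ⟨q, -, rfl⟩
      induction q using Projectivization.ind with | _ x hx =>
      rw [Projectivization.map_mk, h1_mem_blk_mk]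
      have := x.2
      rw [LinearMap.mem_ker, h1_dot_apply] at this
      exact this
  rw [himg, Finset.card_image_of_injective _ hinj, Finset.card_univ, ← Nat.card_eq_fintype_card, hc]

theorem h1_blk_smul (c : ZMod 3) (hc : c ≠ 0) (w : V3) : h1_blk (c • w) = h1_blk w := by
  ext p
  rw [h1_mem_blk, h1_mem_blk, smul_dotProduct, smul_eq_mul]
  constructor
  · intro h
    rcases mul_eq_zero.mp h with h | h
    · exact absurd h hc
    · exact h
  · intro h; rw [h, mul_zero]

/-- the blocks -/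
noncomputable def h1_B : Finset (Finset Pts) :=
  (Finset.univ.filter (fun w : V3 => w ≠ 0)).image h1_blk

theorem h1_mem_B (b : Finset Pts) : b ∈ h1_B ↔ ∃ w : V3, w ≠ 0 ∧ h1_blk w = b := by
  simp [h1_B]

theorem h1_steiner (p q : Pts) (hpq : p ≠ q) : ∃! b, b ∈ h1_B ∧ p ∈ b ∧ q ∈ b := by
  have hind : LinearIndependent (ZMod 3) ![p.rep, q.rep] := by
    rw [← Projectivization.independent_mk_iff_LinearIndependent p.rep_nonzero q.rep_nonzero,
      Projectivization.mk_rep, Projectivization.mk_rep, Projectivization.independent_pair_iff_ne]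
    exact hpq
  have hw : p.rep ⨯₃ q.rep ≠ 0 := crossProduct_ne_zero_iff_linearIndependent.mpr hind
  refine ⟨h1_blk (p.rep ⨯₃ q.rep), ⟨(h1_mem_B _).mpr ⟨_, hw, rfl⟩, ?_, ?_⟩, ?_⟩
  · rw [h1_mem_blk, dotProduct_comm]; exact dot_self_cross _ _
  · rw [h1_mem_blk, dotProduct_comm]; exact dot_cross_self _ _
  · rintro b ⟨hb, hpb, hqb⟩
    obtain ⟨w', hw', rfl⟩ := (h1_mem_B b).mp hb
    rw [h1_mem_blk] at hpb hqb
    have hz : w' ⨯₃ (p.rep ⨯₃ q.rep) = 0 := by
      rw [cross_cross_eq_smul_sub_smul', hqb, dotProduct_comm, hpb, zero_smul, zero_smul, sub_zero]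
    have hni : ¬ LinearIndependent (ZMod 3) ![w', p.rep ⨯₃ q.rep] := by
      rw [← crossProduct_ne_zero_iff_linearIndependent]
      simpa using hz
    rw [LinearIndependent.pair_iff' hw'] at hni
    push Not at hni
    obtain ⟨a, ha⟩ := hni
    have ha0 : a ≠ 0 := by
      rintro rfl
      rw [zero_smul] at ha
      exact hw ha.symm
    rw [← ha, h1_blk_smul a ha0]

theorem h1_inv (g : PSL33) (b : Finset Pts) (hb : b ∈ h1_B) :
    b.image (fun x => g • x) ∈ h1_B := by
  obtain ⟨A, rfl⟩ := QuotientGroup.mk_surjective g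
  obtain ⟨w, hw, rfl⟩ := (h1_mem_B b).mp hb
  have hAA : (A⁻¹).1 * A.1 = 1 := by
    have h : (A⁻¹ * A).1 = (1 : Matrix.SpecialLinearGroup (Fin 3) (ZMod 3)).1 :=
      congrArg Subtype.val (inv_mul_cancel A)
    rw [Matrix.SpecialLinearGroup.coe_mul, Matrix.SpecialLinearGroup.coe_one] at h
    exact h
  have hw'A : (w ᵥ* (A⁻¹).1) ᵥ* A.1 = w := by
    rw [Matrix.vecMul_vecMul, hAA, Matrix.vecMul_one]
  have hw'0 : w ᵥ* (A⁻¹).1 ≠ 0 := by
    intro h; rw [h, Matrix.zero_vecMul] at hw'A; exact hw hw'A.symm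
  rw [h1_mem_B]
  refine ⟨w ᵥ* (A⁻¹).1, hw'0, ?_⟩
  symm
  apply Finset.eq_of_subset_of_card_le
  · intro q hq
    obtain ⟨p, hp, rfl⟩ := Finset.mem_image.mp hq
    induction p using Projectivization.ind with | _ v hv =>
    rw [h1_mem_blk_mk] at hp
    show ((A : PSL33) • Projectivization.mk (ZMod 3) v hv) ∈ h1_blk (w ᵥ* (A⁻¹).1)
    rw [Matrix.ProjectiveSpecialLinearGroup.smul_proj_mk, Projectivization.smul_mk, h1_mem_blk_mk,
      Matrix.SpecialLinearGroup.smul_def, Matrix.smul_eq_mulVec, Matrix.dotProduct_mulVec, hw'A, hp]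
  · rw [h1_card_blk _ hw'0, Finset.card_image_of_injective _ (MulAction.injective _),
      h1_card_blk w hw]

/-- **P10**: the projective plane of order 3 with its `PSL(3,3)`-action. -/
noncomputable def pslPlane : PlaneAction PSL33 Pts where
  B := h1_B
  card_pts := h1_card_pts
  card_blk := by
    intro b hb
    obtain ⟨w, hw, rfl⟩ := (h1_mem_B b).mp hb
    exact h1_card_blk w hw
  steiner := h1_steiner
  inv := h1_inv

/-- the blocks of the plane form a Steiner system `S(2,4,13)` in the Prelude's sense -/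
theorem h1_psl_steiner : Cfsg.IsSteinerSystem 2 4 (↑h1_B : Set (Finset Pts)) := by
  refine ⟨?_, ?_⟩
  · intro b hb
    obtain ⟨w, hw, rfl⟩ := (h1_mem_B b).mp (Finset.mem_coe.mp hb)
    exact h1_card_blk w hw
  · intro s hs
    obtain ⟨p, q, hpq, rfl⟩ := Finset.card_eq_two.mp hs
    obtain ⟨b, ⟨hb, hp, hq⟩, huniq⟩ := h1_steiner p q hpq
    refine ⟨b, ⟨Finset.mem_coe.mpr hb, ?_⟩, ?_⟩
    · intro x hx
      rw [Finset.mem_insert, Finset.mem_singleton] at hx
      rcases hx with rfl | rfl
      · exact hp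
      · exact hq
    · rintro b' ⟨hb', hsub⟩
      exact huniq b' ⟨Finset.mem_coe.mp hb', hsub (by simp), hsub (by simp)⟩

/-- the action of `PSL(3,3)` preserves the blocks (Prelude-shaped) -/
theorem h1_psl_inv (g : PSL33) (b : Finset Pts) (hb : b ∈ (↑h1_B : Set (Finset Pts))) :
    b.image (fun x => g • x) ∈ (↑h1_B : Set (Finset Pts)) :=
  Finset.mem_coe.mpr (h1_inv g b (Finset.mem_coe.mp hb))

/-- the action of `PSL(3,3)` on the 13 points is faithful -/
theorem h1_psl_faithful (g : PSL33) (hg : ∀ p : Pts, g • p = p) : g = 1 := by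
  apply FaithfulSMul.eq_of_smul_eq_smul (α := Pts)
  intro p
  rw [hg p, one_smul]

end Cfsg.Agent.L33U
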