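import Cfsg.Agent.L33U.H9_Plane
import Cfsg.Agent.L33U.H1_Model

/-!
# S2916, pieces P9 + P10 glued: a group of order 5616 acting faithfully on an S(2,4,13)
is `PSL(3,3)`.
-/

set_option autoImplicit false

namespace Cfsg.Agent.L33U

open Cfsg
open scoped Pointwise

/-- the 13 translates of `{0,1,3,9}` in `ZMod 13` (the architect's name for `h9_B0`). -/
abbrev B13 : Set (Finset (ZMod 13)) := h9_B0

/-- **P9** in the architect's shape. -/
theorem plane_iso {G : Type*} [Group G] [Finite G] (hcard : Nat.card G = 5616) {Ω : Type*}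
    [Fintype Ω] [DecidableEq Ω] [MulAction G Ω] [FaithfulSMul G Ω] (hΩ : Fintype.card Ω = 13)
    (B : Set (Finset Ω)) (hB : Cfsg.IsSteinerSystem 2 4 B)
    (hinv : ∀ g : G, ∀ b ∈ B, b.image (fun ω => g • ω) ∈ B) :
    Nonempty (G ≃* ↥(Cfsg.setSystemAut B13)) :=
  h9_plane hΩ hcard B hB hinv

/-- **P10** in the architect's shape (for `ZMod 3`). -/
theorem psl_iso :
    Nonempty (Matrix.ProjectiveSpecialLinearGroup (Fin 3) (ZMod 3) ≃* ↥(Cfsg.setSystemAut B13)) :=
  h9_plane (G := PSL33) (Ω := Pts) h1_card_pts h1_card_PSL33 (↑h1_B : Set (Finset Pts))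
    h1_psl_steiner h1_psl_inv

/-- **P9 + P10.**  A group of order 5616 acting faithfully on 13 points and preserving a Steiner
system `S(2,4,13)` is isomorphic to `PSL(3, ZMod 3)`. -/
theorem iso_of_plane {G : Type*} [Group G] {Ω : Type*} [Fintype Ω] [DecidableEq Ω] [MulAction G Ω]
    [FaithfulSMul G Ω] (hcard : Nat.card G = 5616) (hΩ : Fintype.card Ω = 13)
    (B : Set (Finset Ω)) (hB : Cfsg.IsSteinerSystem 2 4 B)
    (hinv : ∀ g : G, ∀ b ∈ B, b.image (fun ω => g • ω) ∈ B) :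
    Nonempty (G ≃* Matrix.ProjectiveSpecialLinearGroup (Fin 3) (ZMod 3)) := by
  obtain ⟨e1⟩ := h9_plane hΩ hcard B hB hinv
  obtain ⟨e2⟩ := psl_iso
  exact ⟨e1.trans e2.symm⟩

/-- the conclusion in the shape of the first disjunct of S2916. -/
theorem iso_of_plane' {G : Type*} [Group G] {Ω : Type*} [Fintype Ω] [DecidableEq Ω] [MulAction G Ω]
    [FaithfulSMul G Ω] (hcard : Nat.card G = 5616) (hΩ : Fintype.card Ω = 13)
    (B : Set (Finset Ω)) (hB : Cfsg.IsSteinerSystem 2 4 B)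
    (hinv : ∀ g : G, ∀ b ∈ B, b.image (fun ω => g • ω) ∈ B) :
    ∃ (F : Type) (_ : Field F) (_ : Fintype F), Fintype.card F = 3 ∧
      Nonempty (G ≃* Matrix.ProjectiveSpecialLinearGroup (Fin 3) F) :=
  ⟨ZMod 3, inferInstance, inferInstance, ZMod.card 3, iso_of_plane hcard hΩ B hB hinv⟩

end Cfsg.Agent.L33U
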