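import Mathlib
import Cfsg.Prelude.Def_Characters
import Cfsg.Agent.S0197.H5_Frame

/-!
# S2916, the 5616 branch: base definitions (architect helper2)

`Ctx G`: `G` simple of order 5616, `N = C_G(t)` identified with the model `M48` of `GL(2,3)`
(`t = S.ι tt`), one class of involutions.  `Table C`: the character table of `G` on `1` and on the
singular classes of `C(t)` (output of P2).  `Cfg C`: the 3-local configuration (output of P4).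
Never import `Helper6.ClassMult` into this directory.
-/

set_option autoImplicit false

namespace Cfsg.Agent.L33U

open Cfsg.Agent.S0197 Cfsg.Agent.Helper6 Cfsg.Agent.Helper6.H72
open scoped ComplexConjugate

universe u

/-- an element of order `3` of the model -/
def x3 : M48 := ⟨((1, 1), (0, 1)), by decide⟩
/-- `diag(1,-1)` -/
def rA : M48 := ⟨((1, 0), (0, 2)), by decide⟩
/-- `diag(-1,1) = tt * rA` -/
def rB : M48 := ⟨((2, 0), (0, 1)), by decide⟩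

theorem x3_facts : c3 x3 = true ∧ x3 * x3 * x3 = 1 ∧ x3 ≠ 1 ∧ cR rA = true ∧ cR rB = true ∧
    rB = tt * rA ∧ rA * x3 * rA⁻¹ = x3⁻¹ ∧ rB * x3 * rB⁻¹ = x3⁻¹ := by decide +kernel

theorem conj_of_c3 : ∀ m : M48, c3 m = true → ∃ c : M48, c * x3 * c⁻¹ = m := by decide +kernel

theorem sing_of_class : ∀ m : M48, (cT m = true ∨ c6 m = true ∨ c4 m = true ∨ c8a m = true ∨
    c8b m = true) → sing m = true := by decide +kernel

/-- The context of the 5616 branch. -/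
structure Ctx (G : Type u) [Group G] [Fintype G] where
  /-- `N = C_G(t)` with its identification with the model -/
  S : GSetup G M48 sing
  hN : S.N = Subgroup.centralizer ({S.ι tt} : Set G)
  simple : IsSimpleGroup G
  card : Nat.card G = 5616
  conj2 : ∀ u : G, orderOf u = 2 → IsConj (S.ι tt) u

variable {G : Type u} [Group G] [Fintype G]

/-- the central involution -/
def Ctx.t (C : Ctx G) : G := C.S.ι tt
/-- the element of order three -/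
def Ctx.x (C : Ctx G) : G := C.S.ι x3

/-- **P2 output.**  The character table of `G` on `1` and on the singular classes of `C(t)`:
for each character the degree and the values at `tt, r4, r6, r8a, r8b`. -/
structure Table (C : Ctx G) where
  xU : Cfsg.IrrCharacter G
  xV : Cfsg.IrrCharacter G
  xP : Cfsg.IrrCharacter G
  xQ : Cfsg.IrrCharacter G
  xS : Cfsg.IrrCharacter G
  xR : Cfsg.IrrCharacter G
  xE : Cfsg.IrrCharacter G
  hnd : [Cfsg.Agent.S0197.trivIrr G, xU, xV, xP, xQ, xS, xR, xE].Nodup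
  hU : (xU : G → ℂ) 1 = 12 ∧ (xU : G → ℂ) (C.S.ι tt) = 4 ∧ (xU : G → ℂ) (C.S.ι r4) = 0 ∧
    (xU : G → ℂ) (C.S.ι r6) = 1 ∧ (xU : G → ℂ) (C.S.ι r8a) = 0 ∧ (xU : G → ℂ) (C.S.ι r8b) = 0
  hV : (xV : G → ℂ) 1 = 13 ∧ (xV : G → ℂ) (C.S.ι tt) = -3 ∧ (xV : G → ℂ) (C.S.ι r4) = 1 ∧
    (xV : G → ℂ) (C.S.ι r6) = 0 ∧ (xV : G → ℂ) (C.S.ι r8a) = -1 ∧ (xV : G → ℂ) (C.S.ι r8b) = -1
  hP : (xP : G → ℂ) 1 = 26 ∧ (xP : G → ℂ) (C.S.ι tt) = 2 ∧ (xP : G → ℂ) (C.S.ι r4) = 2 ∧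
    (xP : G → ℂ) (C.S.ι r6) = -1 ∧ (xP : G → ℂ) (C.S.ι r8a) = 0 ∧ (xP : G → ℂ) (C.S.ι r8b) = 0
  hQ : (xQ : G → ℂ) 1 = 26 ∧ (xQ : G → ℂ) (C.S.ι tt) = -2 ∧ (xQ : G → ℂ) (C.S.ι r4) = 0 ∧
    (xQ : G → ℂ) (C.S.ι r6) = 1 ∧ (xQ : G → ℂ) (C.S.ι r8a) = s2 ∧ (xQ : G → ℂ) (C.S.ι r8b) = -s2
  hS : (xS : G → ℂ) 1 = 26 ∧ (xS : G → ℂ) (C.S.ι tt) = -2 ∧ (xS : G → ℂ) (C.S.ι r4) = 0 ∧
    (xS : G → ℂ) (C.S.ι r6) = 1 ∧ (xS : G → ℂ) (C.S.ι r8a) = -s2 ∧ (xS : G → ℂ) (C.S.ι r8b) = s2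
  hR : (xR : G → ℂ) 1 = 27 ∧ (xR : G → ℂ) (C.S.ι tt) = 3 ∧ (xR : G → ℂ) (C.S.ι r4) = -1 ∧
    (xR : G → ℂ) (C.S.ι r6) = 0 ∧ (xR : G → ℂ) (C.S.ι r8a) = -1 ∧ (xR : G → ℂ) (C.S.ι r8b) = -1
  hE : (xE : G → ℂ) 1 = 39 ∧ (xE : G → ℂ) (C.S.ι tt) = -1 ∧ (xE : G → ℂ) (C.S.ι r4) = -1 ∧
    (xE : G → ℂ) (C.S.ι r6) = -1 ∧ (xE : G → ℂ) (C.S.ι r8a) = 1 ∧ (xE : G → ℂ) (C.S.ι r8b) = 1
  hoth : ∀ χ : Cfsg.IrrCharacter G,
    χ ∉ [Cfsg.Agent.S0197.trivIrr G, xU, xV, xP, xQ, xS, xR, xE] →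
    (χ : G → ℂ) 1 = 16 ∧ ∀ m : M48, sing m = true → (χ : G → ℂ) (C.S.ι m) = 0
  hcard : Nat.card (Cfsg.IrrCharacter G) = 12

/-- **P4 output.**  `r0 ∈ {rA, rB}` and an element `x'` of order three commuting with `x` and with
`ι r0`, inverted by `t`. -/
structure Cfg (C : Ctx G) where
  r0 : M48
  hr0 : r0 = rA ∨ r0 = rB
  x' : G
  hx'3 : orderOf x' = 3
  hcomm : x' * C.x = C.x * x'
  hr : C.S.ι r0 * x' = x' * C.S.ι r0
  ht : C.t * x' * C.t⁻¹ = x'⁻¹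

/-- the subgroup of index 13 -/
def Cfg.P1 {C : Ctx G} (K : Cfg C) : Subgroup G := C.S.N ⊔ Subgroup.zpowers K.x'

open Classical in
/-- `χ` has a nonzero vector fixed by `X`: the sum of `χ` over `X` is `d |X|` with `d > 0`
(shape of helper3's `M11U.exists_char_sum`) -/
def HasFixed (χ : Cfsg.IrrCharacter G) (X : Subgroup G) : Prop :=
  ∃ d : ℕ, 0 < d ∧ ∑ g : G, (if g ∈ X then (χ : G → ℂ) g else 0) = (d : ℂ) * (Nat.card X : ℂ)

theorem isConj_ι (C : Ctx G) (m c : M48) : IsConj (C.S.ι m) (C.S.ι (c * m * c⁻¹)) := by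
  rw [isConj_iff]
  exact ⟨C.S.ι c, by rw [map_mul, map_mul, map_inv]⟩

omit [Fintype G] in
theorem char_conj (χ : Cfsg.IrrCharacter G) {a b : G} (h : IsConj a b) :
    (χ : G → ℂ) a = (χ : G → ℂ) b := by
  obtain ⟨c, hc⟩ := isConj_iff.mp h
  rw [← hc]
  exact (IsCharacter.isClassFunction (IsIrrCharacter.isCharacter χ.2) a c).symm

/-- every element of `C(t)` has the value of its class representative -/
theorem value_of_class (C : Ctx G) (χ : Cfsg.IrrCharacter G) (m : M48) :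
    (cT m = true → (χ : G → ℂ) (C.S.ι m) = (χ : G → ℂ) (C.S.ι tt)) ∧
    (cR m = true → (χ : G → ℂ) (C.S.ι m) = (χ : G → ℂ) (C.S.ι tt)) ∧
    (c4 m = true → (χ : G → ℂ) (C.S.ι m) = (χ : G → ℂ) (C.S.ι r4)) ∧
    (c6 m = true → (χ : G → ℂ) (C.S.ι m) = (χ : G → ℂ) (C.S.ι r6)) ∧
    (c8a m = true → (χ : G → ℂ) (C.S.ι m) = (χ : G → ℂ) (C.S.ι r8a)) ∧
    (c8b m = true → (χ : G → ℂ) (C.S.ι m) = (χ : G → ℂ) (C.S.ι r8b)) ∧
    (c3 m = true → (χ : G → ℂ) (C.S.ι m) = (χ : G → ℂ) C.x) := by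
  refine ⟨?_, ?_, ?_, ?_, ?_, ?_, ?_⟩
  · intro h
    rw [eq_of_cT m h]
  · intro h
    obtain ⟨hsq, hne⟩ := sq_of_cR m h
    have ho : orderOf (C.S.ι m) = 2 := by
      apply orderOf_eq_prime
      · rw [sq, ← map_mul, hsq, map_one]
      · intro h1
        exact hne ((C.S.ι_eq_one_iff m).mp h1)
    exact (char_conj χ (C.conj2 _ ho)).symm
  · intro h
    obtain ⟨c, hc⟩ := conj_of_c4 m h
    rw [← hc]
    exact (char_conj χ (isConj_ι C r4 c)).symm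
  · intro h
    obtain ⟨c, hc⟩ := conj_of_c6 m h
    rw [← hc]
    exact (char_conj χ (isConj_ι C r6 c)).symm
  · intro h
    obtain ⟨c, hc⟩ := conj_of_c8a m h
    rw [← hc]
    exact (char_conj χ (isConj_ι C r8a c)).symm
  · intro h
    obtain ⟨c, hc⟩ := conj_of_c8b m h
    rw [← hc]
    exact (char_conj χ (isConj_ι C r8b c)).symm
  · intro h
    obtain ⟨c, hc⟩ := conj_of_c3 m h
    rw [← hc]
    exact (char_conj χ (isConj_ι C x3 c)).symm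

end Cfsg.Agent.L33U
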