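import Mathlib
import Cfsg.Prelude.Def_Sporadic_a
import Cfsg.Agent.Helper4.Burnside
import Cfsg.Agent.L33U.Base

/-!
# S2916 / L33U, piece P8: the Steiner system `S(2,4,13)` of fixed-point sets (helper1)

`B := {Fix(y) : y ~ x}`.  The permutation character `1 + χ_U` has norm 2, so the action is
2-transitive and a two-point stabilizer has order 36.  Two commuting nonidentity 3-elements fixing
`a ≠ b` have the same four fixed points; two Sylow 3-subgroups (order 9, abelian) of the two-point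
stabilizer (order 36) meet nontrivially.
-/

set_option autoImplicit false

namespace Cfsg.Agent.L33U

open MulAction
open scoped ComplexConjugate

universe u

section action

variable {G : Type*} [Group G] {Ω : Type*} [MulAction G Ω]

theorem h1_card_fixedBy_prod (g : G) :
    Nat.card (fixedBy (Ω × Ω) g) = Nat.card (fixedBy Ω g) * Nat.card (fixedBy Ω g) := by
  rw [← Nat.card_prod]
  apply Nat.card_congr
  exact
    { toFun := fun p => (⟨p.1.1, congrArg Prod.fst p.2⟩, ⟨p.1.2, congrArg Prod.snd p.2⟩)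
      invFun := fun q => ⟨(q.1.1, q.2.1), Prod.ext q.1.2 q.2.2⟩
      left_inv := fun p => rfl
      right_inv := fun q => rfl }

/-- norm 2 of the permutation character gives 2-transitivity -/
theorem h1_two_trans [Fintype G] [Finite Ω] [IsPretransitive G Ω]
    (hsum : ∑ g : G, Nat.card (fixedBy Ω g) * Nat.card (fixedBy Ω g) = 2 * Nat.card G)
    {a b c d : Ω} (hab : a ≠ b) (hcd : c ≠ d) : ∃ g : G, g • a = c ∧ g • b = d := by
  have hB := Cfsg.Agent.Helper4.burnside_natCard (G := G) (X := Ω × Ω)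
  simp_rw [h1_card_fixedBy_prod] at hB
  rw [hsum] at hB
  have hG : 0 < Nat.card G := Nat.card_pos
  have h2 : Nat.card (orbitRel.Quotient G (Ω × Ω)) = 2 :=
    (Nat.eq_of_mul_eq_mul_right hG hB).symm
  have hdiag : ∀ u v : Ω, u ≠ v →
      (Quotient.mk'' (u, v) : orbitRel.Quotient G (Ω × Ω)) ≠ Quotient.mk'' (a, a) := by
    intro u v huv h
    rw [Quotient.eq''] at h
    obtain ⟨g, hg⟩ := h
    have h1 : g • a = u := congrArg Prod.fst hg
    have h2 : g • a = v := congrArg Prod.snd hg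
    exact huv (h1.symm.trans h2)
  obtain ⟨q, -, hq⟩ := (Nat.card_eq_two_iff' (Quotient.mk'' (a, a) :
    orbitRel.Quotient G (Ω × Ω))).mp h2
  have h3 : (Quotient.mk'' (c, d) : orbitRel.Quotient G (Ω × Ω)) = Quotient.mk'' (a, b) :=
    (hq _ (hdiag c d hcd)).trans (hq _ (hdiag a b hab)).symm
  rw [Quotient.eq''] at h3
  obtain ⟨g, hg⟩ := h3
  exact ⟨g, congrArg Prod.fst hg, congrArg Prod.snd hg⟩

/-- the order of a two-point stabilizer of a 2-transitive action -/
theorem h1_card_stab_pair [Finite G] [Fintype Ω] [DecidableEq Ω]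
    (h2t : ∀ a b c d : Ω, a ≠ b → c ≠ d → ∃ g : G, g • a = c ∧ g • b = d)
    (a b : Ω) (hab : a ≠ b) :
    (Fintype.card Ω * Fintype.card Ω - Fintype.card Ω) *
      Nat.card ↥(stabilizer G a ⊓ stabilizer G b) = Nat.card G := by
  have horb : orbit G ((a, b) : Ω × Ω) = ↑((Finset.univ : Finset Ω).offDiag) := by
    ext ⟨c, d⟩
    rw [Finset.mem_coe, Finset.mem_offDiag]
    constructor
    · rintro ⟨g, hg⟩
      have h1 : g • a = c := congrArg Prod.fst hg
      have h2 : g • b = d := congrArg Prod.snd hg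
      refine ⟨Finset.mem_univ _, Finset.mem_univ _, ?_⟩
      rw [← h1, ← h2]
      intro h
      exact hab (MulAction.injective g h)
    · rintro ⟨-, -, hcd⟩
      obtain ⟨g, h1, h2⟩ := h2t a b c d hab hcd
      exact ⟨g, Prod.ext h1 h2⟩
  have hstab : stabilizer G ((a, b) : Ω × Ω) = stabilizer G a ⊓ stabilizer G b := by
    ext g
    rw [mem_stabilizer_iff, Subgroup.mem_inf, mem_stabilizer_iff, mem_stabilizer_iff,
      Prod.smul_mk, Prod.mk.injEq]
  have h := Nat.card_congr (MulAction.orbitProdStabilizerEquivGroup G ((a, b) : Ω × Ω))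
  rw [Nat.card_prod, horb, hstab] at h
  rw [← h]
  congr 1
  rw [Nat.card_coe_set_eq, Set.ncard_coe_finset, Finset.offDiag_card, Finset.card_univ]

theorem h1_card_fixedBy [Fintype Ω] [DecidableEq Ω] (y : G) :
    Nat.card (fixedBy Ω y) = (Finset.univ.filter (fun ω : Ω => y • ω = ω)).card := by
  have h : fixedBy Ω y = ↑(Finset.univ.filter (fun ω : Ω => y • ω = ω)) := by
    ext ω
    simp [mem_fixedBy]
  rw [h, Nat.card_coe_set_eq, Set.ncard_coe_finset]

/-- an injective self-map of a 2-element set is an involution on it -/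
theorem h1_fix_of_two {α : Type*} [DecidableEq α] (f : α → α) (hinj : Function.Injective f)
    (s : Finset α) (hs : s.card = 2) (hmap : ∀ c ∈ s, f c ∈ s) (c : α) (hc : c ∈ s) :
    f (f c) = c := by
  obtain ⟨u, v, huv, rfl⟩ := Finset.card_eq_two.mp hs
  have hu := hmap u (by simp)
  have hv := hmap v (by simp)
  rw [Finset.mem_insert, Finset.mem_singleton] at hu hv hc
  rcases hc with h | h
  · rw [h]
    rcases hu with hu | hu
    · rw [hu, hu]
    · rcases hv with hv | hv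
      · rw [hu, hv]
      · exact absurd (hinj (hu.trans hv.symm)) huv
  · rw [h]
    rcases hv with hv | hv
    · rcases hu with hu | hu
      · exact absurd (hinj (hu.trans hv.symm)) huv
      · rw [hv, hu]
    · rw [hv, hv]

/-- a 3-element whose square fixes a point fixes the point -/
theorem h1_smul_eq_of_sq (z : G) (c : Ω) (k : ℕ) (hz3 : z ^ 3 ^ k = 1) (hz2 : z • z • c = c) :
    z • c = c := by
  have hodd : Odd (3 ^ k) := Odd.pow (by decide)
  obtain ⟨m, hm⟩ := hodd
  have h2 : z ^ 2 ∈ stabilizer G c := by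
    rw [mem_stabilizer_iff, pow_two, mul_smul]
    exact hz2
  have h3 : (z ^ 2) ^ m ∈ stabilizer G c := Subgroup.pow_mem _ h2 m
  have h4 : z * (z ^ 2) ^ m = 1 := by
    rw [← pow_mul, ← pow_succ', ← hm]
    exact hz3
  have h5 : z = ((z ^ 2) ^ m)⁻¹ := eq_inv_of_mul_eq_one_left h4
  have h6 : z ∈ stabilizer G c := by
    rw [h5]
    exact Subgroup.inv_mem _ h3
  exact h6

/-- commuting 3-elements fixing two points: the four fixed points of one are fixed by the other -/
theorem h1_fix_sub [Fintype Ω] [DecidableEq Ω] (y z : G) (hyz : y * z = z * y) (k : ℕ)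
    (hz3 : z ^ 3 ^ k = 1) (a b : Ω) (hab : a ≠ b) (hya : y • a = a) (hyb : y • b = b)
    (hza : z • a = a) (hzb : z • b = b)
    (hy4 : (Finset.univ.filter (fun ω : Ω => y • ω = ω)).card = 4) (c : Ω) (hc : y • c = c) :
    z • c = c := by
  by_cases hca : c = a
  · rw [hca]; exact hza
  by_cases hcb : c = b
  · rw [hcb]; exact hzb
  have haF : a ∈ Finset.univ.filter (fun ω : Ω => y • ω = ω) := by simp [hya]
  have hbF : b ∈ (Finset.univ.filter (fun ω : Ω => y • ω = ω)).erase a := by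
    rw [Finset.mem_erase]
    exact ⟨hab.symm, by simp [hyb]⟩
  have hs2 : (((Finset.univ.filter (fun ω : Ω => y • ω = ω)).erase a).erase b).card = 2 := by
    rw [Finset.card_erase_of_mem hbF, Finset.card_erase_of_mem haF, hy4]
  have hmap : ∀ c ∈ ((Finset.univ.filter (fun ω : Ω => y • ω = ω)).erase a).erase b,
      z • c ∈ ((Finset.univ.filter (fun ω : Ω => y • ω = ω)).erase a).erase b := by
    intro c hc
    rw [Finset.mem_erase, Finset.mem_erase, Finset.mem_filter] at hc ⊢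
    obtain ⟨hcb, hca, -, hyc⟩ := hc
    refine ⟨?_, ?_, Finset.mem_univ _, ?_⟩
    · intro h
      exact hcb (MulAction.injective z (h.trans hzb.symm))
    · intro h
      exact hca (MulAction.injective z (h.trans hza.symm))
    · rw [← mul_smul, hyz, mul_smul, hyc]
  have hcs : c ∈ ((Finset.univ.filter (fun ω : Ω => y • ω = ω)).erase a).erase b := by
    rw [Finset.mem_erase, Finset.mem_erase, Finset.mem_filter]
    exact ⟨hcb, hca, Finset.mem_univ _, hc⟩
  have h := h1_fix_of_two (fun ω => z • ω) (MulAction.injective z) _ hs2 hmap c hcs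
  exact h1_smul_eq_of_sq z c k hz3 h

end action

section sylow

variable {K : Type*} [Group K] [Finite K]

omit [Finite K] in
theorem h1_sylow_mem (y : K) (k : ℕ) (hy : y ^ 3 ^ k = 1) : ∃ S : Sylow 3 K, y ∈ S := by
  have hdvd : orderOf y ∣ 3 ^ k := orderOf_dvd_of_pow_eq_one hy
  obtain ⟨j, -, hj⟩ := (Nat.dvd_prime_pow Nat.prime_three).mp hdvd
  have hP : IsPGroup 3 (Subgroup.zpowers y) :=
    IsPGroup.of_card (n := j) (by rw [Nat.card_zpowers, hj])
  obtain ⟨S, hS⟩ := hP.exists_le_sylow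
  exact ⟨S, hS (Subgroup.mem_zpowers y)⟩

theorem h1_sylow_card (h36 : Nat.card K = 36) (S : Sylow 3 K) : Nat.card S = 9 := by
  obtain ⟨k, hk⟩ := IsPGroup.iff_card.mp S.isPGroup'
  have hmul := (S : Subgroup K).card_mul_index
  rw [h36] at hmul
  have hidx : ¬ 3 ∣ (S : Subgroup K).index := S.not_dvd_index
  rw [hk] at hmul ⊢
  have hk3 : k < 3 := by
    by_contra h
    push Not at h
    have h27 : 3 ^ 3 ∣ 3 ^ k := pow_dvd_pow 3 h
    have : 3 ^ 3 ∣ 36 := h27.trans (Dvd.intro _ hmul)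
    norm_num at this
  interval_cases k
  · exfalso
    apply hidx
    rw [pow_zero, one_mul] at hmul
    rw [hmul]
    norm_num
  · exfalso
    apply hidx
    have : (S : Subgroup K).index = 12 := by omega
    rw [this]
    norm_num
  · norm_num

theorem h1_meet (h36 : Nat.card K = 36) (S S' : Subgroup K) (hS : Nat.card S = 9)
    (hS' : Nat.card S' = 9) : ∃ z : K, z ∈ S ∧ z ∈ S' ∧ z ≠ 1 := by
  by_contra hcon
  push Not at hcon
  have hinj : Function.Injective (fun p : S × S' => (p.1 : K) * (p.2 : K)) := by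
    rintro ⟨s₁, s₁'⟩ ⟨s₂, s₂'⟩ h
    simp only at h
    have h1 : (s₂ : K)⁻¹ * s₁ = s₂' * (s₁' : K)⁻¹ := by
      rw [inv_mul_eq_iff_eq_mul, ← mul_assoc, eq_mul_inv_iff_mul_eq]
      exact h
    have h2 : (s₂ : K)⁻¹ * s₁ = 1 :=
      hcon _ (S.mul_mem (S.inv_mem s₂.2) s₁.2)
        (by rw [h1]; exact S'.mul_mem s₂'.2 (S'.inv_mem s₁'.2))
    have h3 : (s₁ : K) = s₂ := by
      rw [inv_mul_eq_one] at h2
      exact h2.symm
    have h4 : (s₁' : K) = s₂' := by
      rw [h3] at h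
      exact mul_left_cancel h
    exact Prod.ext (Subtype.ext h3) (Subtype.ext h4)
  have := Nat.card_le_card_of_injective _ hinj
  rw [Nat.card_prod, hS, hS', h36] at this
  omega

end sylow

section action2

variable {G : Type*} [Group G] {Ω : Type*} [MulAction G Ω]

/-- two nonidentity 3-elements fixing `a ≠ b` have the same fixed points -/
theorem h1_fix_eq [Finite G] [Fintype Ω] [DecidableEq Ω] (a b : Ω) (hab : a ≠ b)
    (h36 : Nat.card ↥(stabilizer G a ⊓ stabilizer G b) = 36)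
    (h4 : ∀ y : G, (∃ k : ℕ, y ^ 3 ^ k = 1) → y ≠ 1 → y • a = a → y • b = b →
      (Finset.univ.filter (fun ω : Ω => y • ω = ω)).card = 4)
    (y y' : G) (hy : ∃ k : ℕ, y ^ 3 ^ k = 1) (hy1 : y ≠ 1) (hya : y • a = a) (hyb : y • b = b)
    (hy' : ∃ k : ℕ, y' ^ 3 ^ k = 1) (hy'1 : y' ≠ 1) (hy'a : y' • a = a) (hy'b : y' • b = b) :
    Finset.univ.filter (fun ω : Ω => y • ω = ω) =
      Finset.univ.filter (fun ω : Ω => y' • ω = ω) := by
  obtain ⟨k, hk⟩ := hy
  obtain ⟨k', hk'⟩ := hy'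
  have hyK : y ∈ stabilizer G a ⊓ stabilizer G b := Subgroup.mem_inf.mpr ⟨hya, hyb⟩
  have hy'K : y' ∈ stabilizer G a ⊓ stabilizer G b := Subgroup.mem_inf.mpr ⟨hy'a, hy'b⟩
  obtain ⟨S, hS⟩ := h1_sylow_mem (⟨y, hyK⟩ : ↥(stabilizer G a ⊓ stabilizer G b)) k
    (Subtype.ext (by simpa using hk))
  obtain ⟨S', hS'⟩ := h1_sylow_mem (⟨y', hy'K⟩ : ↥(stabilizer G a ⊓ stabilizer G b)) k'
    (Subtype.ext (by simpa using hk'))
  have c9 := h1_sylow_card h36 S
  have c9' := h1_sylow_card h36 S'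
  obtain ⟨z, hzS, hzS', hz1⟩ := h1_meet h36 (S : Subgroup _) (S' : Subgroup _) c9 c9'
  have hz3 : (z : G) ^ 3 ^ 2 = 1 := by
    have h1 := pow_card_eq_one' (G := ↥(S : Subgroup _)) (x := ⟨z, hzS⟩)
    rw [c9] at h1
    have h2 : z ^ 9 = 1 := congrArg Subtype.val h1
    have h3 : (z : G) ^ 9 = 1 := by exact_mod_cast congrArg Subtype.val h2
    norm_num
    exact h3
  have hz1' : (z : G) ≠ 1 := fun h => hz1 (Subtype.ext h)
  have hza : (z : G) • a = a := (Subgroup.mem_inf.mp z.2).1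
  have hzb : (z : G) • b = b := (Subgroup.mem_inf.mp z.2).2
  have comm : ∀ (T : Sylow 3 ↥(stabilizer G a ⊓ stabilizer G b)), Nat.card T = 9 →
      ∀ u v : ↥(stabilizer G a ⊓ stabilizer G b), u ∈ T → v ∈ T → (u : G) * v = v * u := by
    intro T hT u v hu hv
    have hc := IsPGroup.isMulCommutative_of_card_eq_prime_sq (p := 3)
      (G := ↥(T.toSubgroup)) (by rw [hT]; norm_num)
    have h1 := hc.is_comm.comm ⟨u, hu⟩ ⟨v, hv⟩
    have h2 : u * v = v * u := congrArg Subtype.val h1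
    exact_mod_cast congrArg Subtype.val h2
  have hy4 := h4 y ⟨k, hk⟩ hy1 hya hyb
  have hy'4 := h4 y' ⟨k', hk'⟩ hy'1 hy'a hy'b
  have hz4 := h4 z ⟨2, hz3⟩ hz1' hza hzb
  have e1 : Finset.univ.filter (fun ω : Ω => y • ω = ω) =
      Finset.univ.filter (fun ω : Ω => (z : G) • ω = ω) := by
    apply Finset.eq_of_subset_of_card_le
    · intro c hc
      rw [Finset.mem_filter] at hc ⊢
      exact ⟨Finset.mem_univ _, h1_fix_sub y z (comm S c9 _ _ hS hzS) 2 hz3 a b hab hya hyb hza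
        hzb hy4 c hc.2⟩
    · rw [hy4, hz4]
  have e2 : Finset.univ.filter (fun ω : Ω => y' • ω = ω) =
      Finset.univ.filter (fun ω : Ω => (z : G) • ω = ω) := by
    apply Finset.eq_of_subset_of_card_le
    · intro c hc
      rw [Finset.mem_filter] at hc ⊢
      exact ⟨Finset.mem_univ _, h1_fix_sub y' z (comm S' c9' _ _ hS' hzS') 2 hz3 a b hab hy'a
        hy'b hza hzb hy'4 c hc.2⟩
    · rw [hy'4, hz4]
  rw [e1, e2]

end action2

section main

open Cfsg.Agent.Helper6

variable {G : Type u} [Group G] [Fintype G]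

/-- the permutation character `1 + χ_U` has norm 2 -/
theorem h1_sum_sq (C : Ctx G) (T : Table C) {Ω : Type*} [MulAction G Ω]
    (hπ : ∀ g : G, (Nat.card (MulAction.fixedBy Ω g) : ℂ) = 1 + (T.xU : G → ℂ) g) :
    ∑ g : G, Nat.card (fixedBy Ω g) * Nat.card (fixedBy Ω g) = 2 * Nat.card G := by
  have hne : (fun _ : G => (1 : ℂ)) ≠ (T.xU : G → ℂ) := by
    intro h
    have h1 := congrFun h 1
    rw [T.hU.1] at h1
    norm_num at h1
  have i1 : Cfsg.IsIrrCharacter G (fun _ : G => (1 : ℂ)) := isIrrCharacter_one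
  have h11 := classInner_irr_self i1
  have hxx := classInner_irr_self T.xU.2
  have h1x := classInner_irr_ne i1 T.xU.2 hne
  have hx1 := classInner_irr_ne T.xU.2 i1 hne.symm
  have h2 : Cfsg.classInner ((fun _ : G => (1 : ℂ)) + (T.xU : G → ℂ))
      ((fun _ : G => (1 : ℂ)) + (T.xU : G → ℂ)) = 2 := by
    rw [classInner_add_left, classInner_add_right, classInner_add_right, h11, hxx, h1x, hx1]
    norm_num
  rw [classInner_def] at h2
  have h3 : ∀ g : G, ((fun _ : G => (1 : ℂ)) + (T.xU : G → ℂ)) g *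
      conj (((fun _ : G => (1 : ℂ)) + (T.xU : G → ℂ)) g) =
      ((Nat.card (fixedBy Ω g) * Nat.card (fixedBy Ω g) : ℕ) : ℂ) := by
    intro g
    rw [Pi.add_apply, ← hπ g, Complex.conj_natCast, Nat.cast_mul]
  simp_rw [h3] at h2
  rw [← Nat.cast_sum] at h2
  have hG : (Nat.card G : ℂ) ≠ 0 := by exact_mod_cast Nat.card_pos.ne'
  have h4 : ((∑ g : G, Nat.card (fixedBy Ω g) * Nat.card (fixedBy Ω g) : ℕ) : ℂ) =
      ((2 * Nat.card G : ℕ) : ℂ) := by
    rw [Nat.cast_mul, Nat.cast_ofNat]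
    field_simp at h2
    linear_combination h2
  exact_mod_cast h4

/-- **P8**: the fixed-point sets of the conjugates of `x` form a `G`-invariant `S(2,4,13)`. -/
theorem exists_steiner (C : Ctx G) (T : Table C)
    {Ω : Type*} [Fintype Ω] [DecidableEq Ω] [MulAction G Ω] [FaithfulSMul G Ω]
    [MulAction.IsPretransitive G Ω] (hΩ : Fintype.card Ω = 13)
    (hπ : ∀ g : G, (Nat.card (MulAction.fixedBy Ω g) : ℂ) = 1 + (T.xU : G → ℂ) g)
    (hfix3 : ∀ y : G, (∃ k : ℕ, y ^ 3 ^ k = 1) → y ≠ 1 →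
      (IsConj C.x y ∧ Nat.card (MulAction.fixedBy Ω y) = 4) ∨
        (¬ IsConj C.x y ∧ Nat.card (MulAction.fixedBy Ω y) ≤ 1)) :
    ∃ B : Set (Finset Ω), Cfsg.IsSteinerSystem 2 4 B ∧
      ∀ g : G, ∀ b ∈ B, b.image (fun ω => g • ω) ∈ B := by
  have hx3 : C.x ^ 3 = 1 := by
    have h := x3_facts.2.1
    show (C.S.ι x3) ^ 3 = 1
    rw [← map_pow, pow_succ, pow_two, h, map_one]
  have hx1 : C.x ≠ 1 := fun h => x3_facts.2.2.1 ((C.S.ι_eq_one_iff x3).mp h)
  have hconj3 : ∀ y : G, IsConj C.x y → y ^ 3 ^ 1 = 1 ∧ y ≠ 1 := by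
    intro y hy
    obtain ⟨c, hc⟩ := isConj_iff.mp hy
    constructor
    · rw [← hc, pow_one, conj_pow, hx3, mul_one, mul_inv_cancel]
    · intro h
      rw [← hc] at h
      exact hx1 (conj_eq_one_iff.mp h)
  have hsum := h1_sum_sq C T hπ
  have h2t : ∀ a b c d : Ω, a ≠ b → c ≠ d → ∃ g : G, g • a = c ∧ g • b = d :=
    fun a b c d hab hcd => h1_two_trans hsum hab hcd
  have h36 : ∀ a b : Ω, a ≠ b → Nat.card ↥(stabilizer G a ⊓ stabilizer G b) = 36 := by
    intro a b hab
    have h := h1_card_stab_pair h2t a b hab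
    rw [hΩ, C.card] at h
    omega
  have h4 : ∀ a b : Ω, a ≠ b → ∀ y : G, (∃ k : ℕ, y ^ 3 ^ k = 1) → y ≠ 1 → y • a = a →
      y • b = b → IsConj C.x y ∧ (Finset.univ.filter (fun ω : Ω => y • ω = ω)).card = 4 := by
    intro a b hab y hy hy1 hya hyb
    rcases hfix3 y hy hy1 with ⟨hc, h⟩ | ⟨-, h⟩
    · exact ⟨hc, by rw [← h1_card_fixedBy]; exact h⟩
    · exfalso
      rw [h1_card_fixedBy] at h
      have : 1 < (Finset.univ.filter (fun ω : Ω => y • ω = ω)).card :=
        Finset.one_lt_card.mpr ⟨a, by simp [hya], b, by simp [hyb], hab⟩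
      omega
  refine ⟨{b | ∃ y : G, IsConj C.x y ∧ b = Finset.univ.filter (fun ω : Ω => y • ω = ω)},
    ⟨?_, ?_⟩, ?_⟩
  · rintro b ⟨y, hy, rfl⟩
    obtain ⟨h3, h1⟩ := hconj3 y hy
    rcases hfix3 y ⟨1, h3⟩ h1 with ⟨-, h⟩ | ⟨hn, -⟩
    · rw [← h1_card_fixedBy]
      exact h
    · exact absurd hy hn
  · intro s hs
    obtain ⟨a, b, hab, rfl⟩ := Finset.card_eq_two.mp hs
    have hK := h36 a b hab
    obtain ⟨y0, hy0⟩ := exists_prime_orderOf_dvd_card'
      (G := ↥(stabilizer G a ⊓ stabilizer G b)) 3 (by rw [hK]; norm_num)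
    have hy3 : (y0 : G) ^ 3 ^ 1 = 1 := by
      rw [pow_one]
      have h := pow_orderOf_eq_one y0
      rw [hy0] at h
      exact_mod_cast congrArg Subtype.val h
    have hy1 : (y0 : G) ≠ 1 := by
      intro h
      have h' : y0 = 1 := Subtype.ext h
      rw [h', orderOf_one] at hy0
      norm_num at hy0
    have hya : (y0 : G) • a = a := (Subgroup.mem_inf.mp y0.2).1
    have hyb : (y0 : G) • b = b := (Subgroup.mem_inf.mp y0.2).2
    obtain ⟨hyc, hy4⟩ := h4 a b hab y0 ⟨1, hy3⟩ hy1 hya hyb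
    refine ⟨Finset.univ.filter (fun ω => (y0 : G) • ω = ω), ⟨⟨y0, hyc, rfl⟩, ?_⟩, ?_⟩
    · intro ω hω
      rw [Finset.mem_insert, Finset.mem_singleton] at hω
      rcases hω with h | h
      · rw [h]; simp [hya]
      · rw [h]; simp [hyb]
    · rintro b' ⟨⟨y', hy'c, rfl⟩, hsub⟩
      have hy'a : y' • a = a := by
        have := hsub (Finset.mem_insert_self a {b})
        simpa using this
      have hy'b : y' • b = b := by
        have := hsub (Finset.mem_insert_of_mem (Finset.mem_singleton_self b))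
        simpa using this
      obtain ⟨h3', h1'⟩ := hconj3 y' hy'c
      exact h1_fix_eq a b hab hK (fun z hz hz1 hza hzb => (h4 a b hab z hz hz1 hza hzb).2)
        y' y0 ⟨1, h3'⟩ h1' hy'a hy'b ⟨1, hy3⟩ hy1 hya hyb
  · rintro g b ⟨y, hy, rfl⟩
    refine ⟨g * y * g⁻¹, hy.trans (isConj_iff.mpr ⟨g, rfl⟩), ?_⟩
    ext ω
    rw [Finset.mem_image, Finset.mem_filter]
    constructor
    · rintro ⟨c, hc, rfl⟩
      rw [Finset.mem_filter] at hc
      refine ⟨Finset.mem_univ _, ?_⟩
      rw [← mul_smul, inv_mul_cancel_right, mul_smul, hc.2]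
    · rintro ⟨-, h⟩
      refine ⟨g⁻¹ • ω, ?_, smul_inv_smul g ω⟩
      rw [Finset.mem_filter]
      refine ⟨Finset.mem_univ _, ?_⟩
      have h' : g⁻¹ • (g * y * g⁻¹) • ω = g⁻¹ • ω := by rw [h]
      rw [← mul_smul, ← mul_assoc, ← mul_assoc, inv_mul_cancel, one_mul, mul_smul] at h'
      exact h'

end main

end Cfsg.Agent.L33U
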