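import Mathlib
import Cfsg.Agent.L33U.Base
import Cfsg.Agent.L33U.H1_Steiner

/-!
# S2916 / L33U, piece P6: `P1 = N ⊔ ⟨x'⟩` has index 13 (helper1)

`|P1| = 48 k`, `k ∣ 117`.  Index `1`: `∑_G χ_U = 0` against the fixed vector.  Index `3, 9`:
`13 ∣ |G| ∣ index !` for a simple group.  Index `117`: `x' ∈ N`.  Index `39`: the three cosets of
`N` in `P1` are `N, x'N, x'⁻¹N`; `s = ι r4 ∈ N` permutes the last two, so `t = s²` fixes `x'N`; but
`t x' N = x'⁻¹ t N = x'⁻¹ N`.
-/

set_option autoImplicit false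

namespace Cfsg.Agent.L33U

open Cfsg.Agent.S0197 Cfsg.Agent.Helper6 Cfsg.Agent.Helper6.H72
open scoped ComplexConjugate

universe u

variable {G : Type u} [Group G] [Fintype G]

theorem h1_card_N (C : Ctx G) : Nat.card C.S.N = 48 := by
  rw [C.S.card_N, card_M48]

theorem h1_index_N (C : Ctx G) : C.S.N.index = 117 := by
  have h := C.S.N.index_mul_card
  rw [h1_card_N, C.card] at h
  omega

theorem h1_t_mul_x' (C : Ctx G) (K : Cfg C) : C.t * K.x' = K.x'⁻¹ * C.t := by
  rw [← K.ht, inv_mul_cancel_right]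

theorem h1_x'_not_mem (C : Ctx G) (K : Cfg C) : K.x' ∉ C.S.N := by
  intro h
  rw [C.hN, Subgroup.mem_centralizer_iff] at h
  have h1 : C.t * K.x' = K.x' * C.t := h _ (Set.mem_singleton _)
  have h2 : K.x'⁻¹ = K.x' := by
    rw [← K.ht, h1, mul_inv_cancel_right]
  have h3 : K.x' ^ 2 = 1 := by
    rw [pow_two]
    nth_rewrite 1 [← h2]
    exact inv_mul_cancel _
  have h4 := orderOf_dvd_of_pow_eq_one h3
  rw [K.hx'3] at h4
  norm_num at h4

theorem h1_P1_ne_top (C : Ctx G) (T : Table C) (K : Cfg C) (hfix : HasFixed T.xU K.P1) :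
    K.P1 ≠ ⊤ := by
  intro htop
  obtain ⟨d, hd, hsum⟩ := hfix
  rw [htop] at hsum
  have hne : (T.xU : G → ℂ) ≠ (fun _ : G => (1 : ℂ)) := by
    intro h
    have h1 := congrFun h 1
    rw [T.hU.1] at h1
    norm_num at h1
  have h0 := classInner_irr_ne T.xU.2 isIrrCharacter_one hne
  rw [classInner_def] at h0
  have hG : (Nat.card G : ℂ) ≠ 0 := by exact_mod_cast Nat.card_pos.ne'
  have h1 : ∑ g : G, (T.xU : G → ℂ) g = 0 := by
    rcases mul_eq_zero.mp h0 with h | h
    · exact absurd (inv_eq_zero.mp h) hG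
    · simpa using h
  simp only [Subgroup.mem_top, if_true] at hsum
  rw [h1] at hsum
  have hd' : (d : ℂ) ≠ 0 := by exact_mod_cast hd.ne'
  have hc : (Nat.card (⊤ : Subgroup G) : ℂ) ≠ 0 := by exact_mod_cast Nat.card_pos.ne'
  exact mul_ne_zero hd' hc hsum.symm

/-- in a simple group of order `5616` a proper subgroup has index at least `13` -/
theorem h1_index_ge (C : Ctx G) (H : Subgroup G) (hH : H ≠ ⊤) : 13 ≤ H.index := by
  have := C.simple
  have hker : (MulAction.toPermHom G (G ⧸ H)).ker = ⊥ := by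
    rcases (MonoidHom.normal_ker (MulAction.toPermHom G (G ⧸ H))).eq_bot_or_eq_top with h | h
    · exact h
    · exfalso
      apply hH
      rw [eq_top_iff, ← h, ← Subgroup.normalCore_eq_ker]
      exact Subgroup.normalCore_le H
  have hinj : Function.Injective (MulAction.toPermHom G (G ⧸ H)) :=
    (MonoidHom.ker_eq_bot_iff _).mp hker
  have h1 := Subgroup.card_dvd_of_injective _ hinj
  rw [Nat.card_perm, C.card] at h1
  have h13 : 13 ∣ (Nat.card (G ⧸ H)).factorial := Dvd.dvd.trans (by norm_num) h1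
  exact (Nat.Prime.dvd_factorial (by norm_num)).mp h13

/-- the case of index `39` -/
theorem h1_relindex_ne_three (C : Ctx G) (K : Cfg C) : C.S.N.relIndex K.P1 ≠ 3 := by
  classical
  intro h3
  have hNP : C.S.N ≤ K.P1 := le_sup_left
  have hx'P : K.x' ∈ K.P1 := (le_sup_right : Subgroup.zpowers K.x' ≤ K.P1)
    (Subgroup.mem_zpowers K.x')
  have hsN : C.S.ι r4 ∈ C.S.N := C.S.ι_mem r4
  have htN : C.t ∈ C.S.N := C.S.ι_mem tt
  -- elements of `P1`
  set y : ↥K.P1 := ⟨K.x', hx'P⟩ with hy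
  set s : ↥K.P1 := ⟨C.S.ι r4, hNP hsN⟩ with hs
  set t1 : ↥K.P1 := ⟨C.t, hNP htN⟩ with ht1
  have hts : t1 = s * s := by
    apply Subtype.ext
    show C.S.ι tt = C.S.ι r4 * C.S.ι r4
    rw [← map_mul]
    congr 1
  have hty : t1 * y = y⁻¹ * t1 := Subtype.ext (h1_t_mul_x' C K)
  have hsH : s ∈ C.S.N.subgroupOf K.P1 := Subgroup.mem_subgroupOf.mpr hsN
  have htH : t1 ∈ C.S.N.subgroupOf K.P1 := Subgroup.mem_subgroupOf.mpr htN
  have hyH : y ∉ C.S.N.subgroupOf K.P1 := fun h =>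
    h1_x'_not_mem C K (Subgroup.mem_subgroupOf.mp h)
  have hyiH : y⁻¹ ∉ C.S.N.subgroupOf K.P1 := fun h => hyH (by simpa using Subgroup.inv_mem _ h)
  -- the three cosets
  have hcard : Nat.card (↥K.P1 ⧸ C.S.N.subgroupOf K.P1) = 3 := h3
  have : Fintype (↥K.P1 ⧸ C.S.N.subgroupOf K.P1) := Fintype.ofFinite _
  have hcard' : Fintype.card (↥K.P1 ⧸ C.S.N.subgroupOf K.P1) = 3 := by
    rw [← Nat.card_eq_fintype_card]; exact hcard
  set q0 : ↥K.P1 ⧸ C.S.N.subgroupOf K.P1 := ((1 : ↥K.P1) : ↥K.P1 ⧸ C.S.N.subgroupOf K.P1)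
    with hq0
  set q1 : ↥K.P1 ⧸ C.S.N.subgroupOf K.P1 := (y : ↥K.P1 ⧸ C.S.N.subgroupOf K.P1) with hq1
  set q2 : ↥K.P1 ⧸ C.S.N.subgroupOf K.P1 :=
    ((y⁻¹ : ↥K.P1) : ↥K.P1 ⧸ C.S.N.subgroupOf K.P1) with hq2
  have h10 : q1 ≠ q0 := by
    intro h
    rw [hq1, hq0, QuotientGroup.eq, mul_one] at h
    exact hyiH h
  have h20 : q2 ≠ q0 := by
    intro h
    rw [hq2, hq0, QuotientGroup.eq, mul_one, inv_inv] at h
    exact hyH h
  have h12 : q1 ≠ q2 := by
    intro h
    rw [hq1, hq2, QuotientGroup.eq] at h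
    -- y⁻¹ * y⁻¹ = y
    have h3' : y⁻¹ * y⁻¹ = y := by
      apply Subtype.ext
      show K.x'⁻¹ * K.x'⁻¹ = K.x'
      have hc : K.x' ^ 3 = 1 := by rw [← K.hx'3]; exact pow_orderOf_eq_one _
      rw [← mul_inv_rev, inv_eq_iff_eq_inv, eq_inv_iff_mul_eq_one, ← pow_two, ← pow_succ]
      exact hc
    rw [h3'] at h
    exact hyH h
  have hall : ∀ q : ↥K.P1 ⧸ C.S.N.subgroupOf K.P1, q = q0 ∨ q = q1 ∨ q = q2 := by
    intro q
    by_contra hcon
    push Not at hcon
    have h4 : ({q0, q1, q2, q} : Finset (↥K.P1 ⧸ C.S.N.subgroupOf K.P1)).card = 4 := by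
      rw [Finset.card_insert_of_notMem, Finset.card_insert_of_notMem,
        Finset.card_insert_of_notMem, Finset.card_singleton]
      · simp only [Finset.mem_singleton]; exact fun h => hcon.2.2 h.symm
      · simp only [Finset.mem_insert, Finset.mem_singleton, not_or]
        exact ⟨h12, fun h => hcon.2.1 h.symm⟩
      · simp only [Finset.mem_insert, Finset.mem_singleton, not_or]
        exact ⟨h10.symm, h20.symm, fun h => hcon.1 h.symm⟩
    have := Finset.card_le_univ ({q0, q1, q2, q} : Finset (↥K.P1 ⧸ C.S.N.subgroupOf K.P1))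
    rw [h4, hcard'] at this
    omega
  -- `s` fixes `q0`
  have hs0 : s • q0 = q0 := by
    rw [hq0, MulAction.Quotient.smul_coe, QuotientGroup.eq, smul_eq_mul, mul_one, mul_one]
    exact Subgroup.inv_mem _ hsH
  have hmap : ∀ c ∈ ({q1, q2} : Finset (↥K.P1 ⧸ C.S.N.subgroupOf K.P1)),
      s • c ∈ ({q1, q2} : Finset (↥K.P1 ⧸ C.S.N.subgroupOf K.P1)) := by
    intro c hc
    rw [Finset.mem_insert, Finset.mem_singleton]
    rcases hall (s • c) with h | h | h
    · exfalso
      have hc0 : c = q0 := MulAction.injective s (h.trans hs0.symm)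
      rw [Finset.mem_insert, Finset.mem_singleton] at hc
      rcases hc with hc | hc
      · exact h10 (hc.symm.trans hc0)
      · exact h20 (hc.symm.trans hc0)
    · exact Or.inl h
    · exact Or.inr h
  have h2c : ({q1, q2} : Finset (↥K.P1 ⧸ C.S.N.subgroupOf K.P1)).card = 2 :=
    Finset.card_pair h12
  have hfix := h1_fix_of_two (fun c => s • c) (MulAction.injective s) _ h2c hmap q1
    (Finset.mem_insert_self _ _)
  -- `t1 • q1 = q1` but also `= q2`
  have ht1q : t1 • q1 = q1 := by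
    rw [hts, mul_smul]
    exact hfix
  have ht2q : t1 • q1 = q2 := by
    rw [hq1, hq2, MulAction.Quotient.smul_coe, smul_eq_mul, hty, QuotientGroup.eq, mul_inv_rev,
      inv_inv, mul_assoc, mul_inv_cancel, mul_one]
    exact Subgroup.inv_mem _ htH
  exact h12 (ht1q.symm.trans ht2q)

/-- **P6**: `P1` has index 13. -/
theorem index_thirteen (C : Ctx G) (T : Table C) (K : Cfg C)
    (hfix : HasFixed T.xU K.P1) : K.P1.index = 13 := by
  have hNP : C.S.N ≤ K.P1 := le_sup_left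
  have hne := h1_P1_ne_top C T K hfix
  have hge := h1_index_ge C K.P1 hne
  have hmul := Subgroup.relIndex_mul_index hNP
  rw [h1_index_N] at hmul
  have h3 := h1_relindex_ne_three C K
  have h1 : C.S.N.relIndex K.P1 ≠ 1 := by
    intro h
    rw [Subgroup.relIndex_eq_one] at h
    exact h1_x'_not_mem C K (h ((le_sup_right : Subgroup.zpowers K.x' ≤ K.P1)
      (Subgroup.mem_zpowers K.x')))
  have hdvd : K.P1.index ∣ 117 := Dvd.intro_left _ hmul
  have hle : K.P1.index ≤ 117 := Nat.le_of_dvd (by norm_num) hdvd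
  generalize K.P1.index = i at *
  generalize C.S.N.relIndex K.P1 = k at *
  interval_cases i <;> first | rfl | omega

end Cfsg.Agent.L33U
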