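import Mathlib
import Cfsg.Agent.L33U.Base
import Cfsg.Agent.GL23U.H4_Local

/-!
# S2916: the context of the 5616 branch from the hypotheses
-/

set_option autoImplicit false

namespace Cfsg.Agent.L33U

open Cfsg.Agent.S0197 Cfsg.Agent.Helper6 Cfsg.Agent.Helper6.H72 Cfsg.Agent.GL23U

universe u

/-- the context, from a simple group of order 5616 with an involution centralizer `GL(2,3)` -/
theorem exists_ctx {G : Type u} [Group G] [Fintype G] [hs : IsSimpleGroup G] (t : G)
    (ht : orderOf t = 2) (e : ↥(Subgroup.centralizer ({t} : Set G)) ≃* GL23)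
    (hcard : Nat.card G = 5616) : ∃ C : Ctx G, C.t = t ∧ C.S.N = Subgroup.centralizer ({t} : Set G) := by
  have hι : (setup197 t ht e).ι tt = t := setup197_ι_tt t ht e
  refine ⟨⟨setup197 t ht e, ?_, hs, hcard, ?_⟩, hι, setup197_N t ht e⟩
  · rw [hι]
    exact setup197_N t ht e
  · rw [hι]
    exact isConj_invol197 t ht e

end Cfsg.Agent.L33U
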