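import Mathlib
import Cfsg.Agent.L33U.Base

/-!
# S2916, piece P4: the 3-local configuration

`exists_cfg`: from `|C_G(x)| = 54` the Sylow 3-subgroup `Q` of `C_G(x)` (order 27, normal) is
normalized by `t`, `ι rA`, `ι rB`; the two involutions `ι rA`, `ι rB` cannot both act without fixed
points on `Q` (they would invert it and `t = ι rB * ι rA` would centralize it); a fixed point `x'`
of one of them is inverted by `t`.
-/

set_option autoImplicit false

namespace Cfsg.Agent.L33U

open Cfsg.Agent.S0197 Cfsg.Agent.Helper6 Cfsg.Agent.Helper6.H72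

universe u

/-- an involution normalizing a finite subgroup without nontrivial fixed points inverts it -/
theorem h2_inverts {G : Type*} [Group G] (R : Subgroup G) [Finite R] (τ : G) (hτ : τ * τ = 1)
    (hnorm : ∀ q ∈ R, τ * q * τ⁻¹ ∈ R) (hfix : ∀ q ∈ R, τ * q = q * τ → q = 1) :
    ∀ q ∈ R, τ * q * τ⁻¹ = q⁻¹ := by
  have hτinv : τ⁻¹ = τ := inv_eq_of_mul_eq_one_right hτ
  rw [hτinv] at hnorm ⊢
  let f : R → R := fun q => ⟨(q : G)⁻¹ * (τ * q * τ), R.mul_mem (R.inv_mem q.2) (hnorm q q.2)⟩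
  have hinj : Function.Injective f := by
    intro p q hpq
    have h : (p : G)⁻¹ * (τ * p * τ) = (q : G)⁻¹ * (τ * q * τ) := congrArg Subtype.val hpq
    have hc : τ * ((q : G) * (p : G)⁻¹) = ((q : G) * (p : G)⁻¹) * τ := by
      have h1 : τ * (p : G) * τ = (p : G) * ((q : G)⁻¹ * (τ * q * τ)) := by
        rw [← h]; group
      have h2 : τ * (q : G) = (q : G) * (p : G)⁻¹ * (τ * p * τ) * τ := by
        rw [h1]
        simp only [mul_assoc, hτ, mul_one, inv_mul_cancel_left, mul_inv_cancel_left]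
      calc τ * ((q : G) * (p : G)⁻¹) = τ * (q : G) * (p : G)⁻¹ := by rw [mul_assoc]
        _ = (q : G) * (p : G)⁻¹ * (τ * p * τ) * τ * (p : G)⁻¹ := by rw [h2]
        _ = (q : G) * (p : G)⁻¹ * τ := by
          simp only [mul_assoc, hτ, mul_one, mul_inv_cancel]
    have h1 := hfix _ (R.mul_mem q.2 (R.inv_mem p.2)) hc
    have h2 : (q : G) = p := by rwa [mul_inv_eq_one] at h1
    exact Subtype.ext h2.symm
  have hsurj := Finite.surjective_of_injective hinj
  intro z hz
  obtain ⟨q, hq⟩ := hsurj ⟨z, hz⟩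
  have hz' : z = (q : G)⁻¹ * (τ * q * τ) := (congrArg Subtype.val hq).symm
  rw [hz']
  simp only [mul_inv_rev, inv_inv, hτinv, mul_assoc, hτ, mul_one]

/-- model facts -/
theorem h2_model_cent : ∀ m : M48, m * x3 = x3 * m → m ^ 27 = 1 → m = 1 ∨ m = x3 ∨ m = x3⁻¹ := by
  decide +kernel

theorem h2_model_invol : rA * rA = 1 ∧ rB * rB = 1 ∧ tt * rA = rA * tt ∧ tt * rB = rB * tt ∧
    rB * rA = tt ∧ x3⁻¹ ≠ x3 ∧ rA * x3 ≠ x3 * rA ∧ rB * x3 ≠ x3 * rB ∧ rA * x3⁻¹ ≠ x3⁻¹ * rA ∧
    rB * x3⁻¹ ≠ x3⁻¹ * rB := by decide +kernel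

variable {G : Type u} [Group G] [Fintype G]

set_option maxHeartbeats 1600000 in
/-- **P4.** -/
theorem exists_cfg (C : Ctx G)
    (h54 : Nat.card (Subgroup.centralizer ({C.x} : Set G)) = 54) : Nonempty (Cfg C) := by
  classical
  have : Fact (Nat.Prime 3) := ⟨by norm_num⟩
  obtain ⟨hA2, hB2, htA, htB, hBA, hxne, hAx, hBx, hAxi, hBxi⟩ := h2_model_invol
  obtain ⟨-, hx33, hx1, -, -, -, hAinv, hBinv⟩ := x3_facts
  set x : G := C.x with hx
  set t : G := C.t with ht
  have hxdef : x = C.S.ι x3 := rfl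
  have htdef : t = C.S.ι tt := rfl
  have ht2 : t * t = 1 := by rw [htdef, ← map_mul, tt_mul_self, map_one]
  have htx : t * x = x * t := by rw [htdef, hxdef, ← map_mul, ← map_mul, tt_central]
  have htxc : t * x * t⁻¹ = x := by rw [htx, mul_inv_cancel_right]
  -- the centralizer of x and its subgroup of order 27
  set Cx : Subgroup G := Subgroup.centralizer ({x} : Set G) with hCx
  have hmemCx : ∀ g : G, g ∈ Cx ↔ g * x = x * g := by
    intro g
    rw [hCx, Subgroup.mem_centralizer_iff]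
    constructor
    · intro h
      exact (h x rfl).symm
    · intro h y hy
      rw [Set.mem_singleton_iff] at hy
      rw [hy]
      exact h.symm
  have hdvd : 3 ^ 3 ∣ Nat.card Cx := by rw [h54]; norm_num
  obtain ⟨Q0, hQ0⟩ := Sylow.exists_subgroup_card_pow_prime 3 hdvd
  have hidx : Q0.index = 2 := by
    have h := Q0.card_mul_index
    rw [hQ0, h54] at h
    omega
  set Q : Subgroup G := Q0.map Cx.subtype with hQ
  have hQcard : Nat.card Q = 27 := by
    rw [hQ, Subgroup.card_map_of_injective Cx.subtype_injective, hQ0]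
    norm_num
  have hQ_of : ∀ g : G, g ∈ Cx → g ^ 27 = 1 → g ∈ Q := by
    intro g hg h27
    refine ⟨⟨g, hg⟩, ?_, rfl⟩
    have h1 : (⟨g, hg⟩ : Cx) = ((⟨g, hg⟩ : Cx) ^ 2) ^ 14 := by
      apply Subtype.ext
      rw [← pow_mul]
      show g = g ^ 28
      rw [pow_succ, h27, one_mul]
    rw [SetLike.mem_coe, h1]
    exact Q0.pow_mem (Subgroup.sq_mem_of_index_two hidx _) 14
  have hQ_mem : ∀ g : G, g ∈ Q → g ∈ Cx ∧ g ^ 27 = 1 := by
    rintro g ⟨q, hq, rfl⟩
    refine ⟨q.2, ?_⟩
    have h1 : (⟨q, hq⟩ : Q0) ^ 27 = 1 := by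
      have h := pow_card_eq_one' (G := Q0) (x := ⟨q, hq⟩)
      rw [hQ0] at h
      exact h
    have h2 := congrArg (fun z : Q0 => ((z : Cx) : G)) h1
    simpa using h2
  have hQ_conj : ∀ n : G, (n * x * n⁻¹ = x ∨ n * x * n⁻¹ = x⁻¹) → ∀ g ∈ Q, n * g * n⁻¹ ∈ Q := by
    intro n hn g hg
    obtain ⟨hgC, hg27⟩ := hQ_mem g hg
    rw [hmemCx] at hgC
    apply hQ_of
    · rw [hmemCx]
      have key : (n * g * n⁻¹) * (n * x * n⁻¹) = (n * x * n⁻¹) * (n * g * n⁻¹) := by
        calc (n * g * n⁻¹) * (n * x * n⁻¹) = n * (g * x) * n⁻¹ := by group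
          _ = n * (x * g) * n⁻¹ := by rw [hgC]
          _ = (n * x * n⁻¹) * (n * g * n⁻¹) := by group
      rcases hn with h | h
      · rw [h] at key
        exact key
      · rw [h] at key
        have hc : Commute (n * g * n⁻¹) x⁻¹ := key
        exact (Commute.inv_right_iff.mp hc)
    · rw [conj_pow, hg27, mul_one, mul_inv_cancel]
  have hQt := hQ_conj t (Or.inl htxc)
  -- elements of Q in N
  have hmemN : ∀ g : G, g ∈ C.S.N ↔ t * g = g * t := by
    intro g
    rw [C.hN, Subgroup.mem_centralizer_iff]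
    constructor
    · intro h
      exact h _ rfl
    · intro h y hy
      rw [Set.mem_singleton_iff] at hy
      rw [hy]
      exact h
  have hQN : ∀ g ∈ Q, g ∈ C.S.N → g = 1 ∨ g = x ∨ g = x⁻¹ := by
    intro g hg hgN
    obtain ⟨hgC, hg27⟩ := hQ_mem g hg
    obtain ⟨m, rfl⟩ := C.S.exists_of_mem hgN
    have h1 : m * x3 = x3 * m := by
      apply C.S.ι_injective
      rw [map_mul, map_mul]
      exact (hmemCx _).mp hgC
    have h2 : m ^ 27 = 1 := by
      apply C.S.ι_injective
      rw [map_pow, hg27, map_one]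
    rcases h2_model_cent m h1 h2 with rfl | rfl | rfl
    · left; exact map_one _
    · right; left; rfl
    · right; right; exact map_inv _ _
  -- the main step for one of the two involutions
  have main : ∀ r0 : M48, (r0 = rA ∨ r0 = rB) →
      (∃ q ∈ Q, q ≠ 1 ∧ C.S.ι r0 * q = q * C.S.ι r0) → Nonempty (Cfg C) := by
    intro r0 hr0 ⟨q, hq, hq1, hqc⟩
    set τ : G := C.S.ι r0 with hτ
    have htτ : t * τ = τ * t := by rw [htdef, hτ, ← map_mul, ← map_mul, tt_central]
    have hτx : τ * x ≠ x * τ := by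
      intro h
      rw [hτ, hxdef, ← map_mul, ← map_mul] at h
      have := C.S.ι_injective h
      rcases hr0 with rfl | rfl
      · exact hAx this
      · exact hBx this
    have hτxi : τ * x⁻¹ ≠ x⁻¹ * τ := by
      intro h
      rw [hτ, hxdef, ← map_inv, ← map_mul, ← map_mul] at h
      have := C.S.ι_injective h
      rcases hr0 with rfl | rfl
      · exact hAxi this
      · exact hBxi this
    -- the order of q
    obtain ⟨hqC, hq27⟩ := hQ_mem q hq
    have hord : orderOf q ∣ 27 := orderOf_dvd_of_pow_eq_one hq27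
    have hord1 : orderOf q ≠ 1 := by
      intro h
      exact hq1 (orderOf_eq_one_iff.mp h)
    have h3 : 3 ∣ orderOf q := by
      have h27 : (27 : ℕ) = 3 ^ 3 := by norm_num
      rw [h27] at hord
      obtain ⟨k, hk, hk'⟩ := (Nat.dvd_prime_pow Nat.prime_three).mp hord
      rw [hk'] at hord1 ⊢
      rcases k with _ | k
      · exact absurd rfl hord1
      · exact Dvd.intro_left _ rfl
    have hne0 : orderOf q ≠ 0 := (orderOf_pos q).ne'
    set x' : G := q ^ (orderOf q / 3) with hx'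
    have hx'3 : orderOf x' = 3 := orderOf_pow_orderOf_div hne0 h3
    have hx'Q : x' ∈ Q := Q.pow_mem hq _
    have hx'τ : τ * x' = x' * τ := by
      have hc : Commute τ q := hqc
      exact hc.pow_right _
    have hx'1 : x' ≠ 1 := by
      intro h
      rw [h, orderOf_one] at hx'3
      omega
    -- t inverts the fixed points of τ on Q
    set R : Subgroup G := Q ⊓ Subgroup.centralizer ({τ} : Set G) with hR
    have hmemR : ∀ g : G, g ∈ R ↔ g ∈ Q ∧ τ * g = g * τ := by
      intro g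
      rw [hR, Subgroup.mem_inf, Subgroup.mem_centralizer_iff]
      constructor
      · rintro ⟨h1, h2⟩
        exact ⟨h1, h2 τ rfl⟩
      · rintro ⟨h1, h2⟩
        refine ⟨h1, ?_⟩
        intro y hy
        rw [Set.mem_singleton_iff] at hy
        rw [hy]
        exact h2
    have hinvR := h2_inverts R t ht2 (by
      intro g hg
      obtain ⟨hgQ, hgτ⟩ := (hmemR g).mp hg
      refine (hmemR _).mpr ⟨hQt g hgQ, ?_⟩
      have htτ' : τ * t⁻¹ = t⁻¹ * τ := by
        have hc : Commute t τ := htτ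
        exact (hc.inv_left).symm.eq
      calc τ * (t * g * t⁻¹) = (τ * t) * g * t⁻¹ := by group
        _ = (t * τ) * g * t⁻¹ := by rw [htτ]
        _ = t * (τ * g) * t⁻¹ := by group
        _ = t * (g * τ) * t⁻¹ := by rw [hgτ]
        _ = t * g * (τ * t⁻¹) := by group
        _ = t * g * (t⁻¹ * τ) := by rw [htτ']
        _ = t * g * t⁻¹ * τ := by group) (by
      intro g hg hgt
      obtain ⟨hgQ, hgτ⟩ := (hmemR g).mp hg
      rcases hQN g hgQ ((hmemN g).mpr hgt) with h | h | h
      · exact h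
      · exact absurd (h ▸ hgτ) hτx
      · exact absurd (h ▸ hgτ) hτxi)
    have hx'R : x' ∈ R := (hmemR x').mpr ⟨hx'Q, hx'τ⟩
    have hcomm : x' * x = x * x' := (hmemCx x').mp (hQ_mem x' hx'Q).1
    exact ⟨⟨r0, hr0, x', hx'3, hcomm, hx'τ, hinvR x' hx'R⟩⟩
  -- one of the two involutions has a fixed point
  set a : G := C.S.ι rA with ha
  set b : G := C.S.ι rB with hb
  have ha2 : a * a = 1 := by rw [ha, ← map_mul, hA2, map_one]
  have hb2 : b * b = 1 := by rw [hb, ← map_mul, hB2, map_one]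
  have hba : b * a = t := by rw [hb, ha, ← map_mul, hBA, htdef]
  have hax : a * x * a⁻¹ = x⁻¹ := by
    rw [ha, hxdef, ← map_inv, ← map_mul, ← map_mul, hAinv, map_inv]
  have hbx : b * x * b⁻¹ = x⁻¹ := by
    rw [hb, hxdef, ← map_inv, ← map_mul, ← map_mul, hBinv, map_inv]
  have hQa := hQ_conj a (Or.inr hax)
  have hQb := hQ_conj b (Or.inr hbx)
  by_cases hfa : ∃ q ∈ Q, q ≠ 1 ∧ a * q = q * a
  · exact main rA (Or.inl rfl) hfa
  by_cases hfb : ∃ q ∈ Q, q ≠ 1 ∧ b * q = q * b
  · exact main rB (Or.inr rfl) hfb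
  exfalso
  push Not at hfa hfb
  have ia := h2_inverts Q a ha2 hQa (fun q hq h => by
    by_contra h1
    exact hfa q hq h1 h)
  have ib := h2_inverts Q b hb2 hQb (fun q hq h => by
    by_contra h1
    exact hfb q hq h1 h)
  have hall : ∀ q ∈ Q, q = 1 ∨ q = x ∨ q = x⁻¹ := by
    intro q hq
    apply hQN q hq
    rw [hmemN]
    have h1 : a * q * a⁻¹ = q⁻¹ := ia q hq
    have h2 : b * q⁻¹ * b⁻¹ = q := by
      have := ib q⁻¹ (Q.inv_mem hq)
      rwa [inv_inv] at this
    have h3 : t * q * t⁻¹ = q := by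
      rw [← hba]
      calc b * a * q * (b * a)⁻¹ = b * (a * q * a⁻¹) * b⁻¹ := by group
        _ = q := by rw [h1, h2]
    calc t * q = (t * q * t⁻¹) * t := by group
      _ = q * t := by rw [h3]
  have hle : Nat.card Q ≤ 3 := by
    have hsub : (Q : Set G) ⊆ ({1, x, x⁻¹} : Set G) := by
      intro q hq
      rcases hall q hq with h | h | h
      · left; exact h
      · right; left; exact h
      · right; right; exact h
    have hfin : ({1, x, x⁻¹} : Set G).Finite := Set.toFinite _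
    have h1 : (Q : Set G).ncard ≤ ({1, x, x⁻¹} : Set G).ncard := Set.ncard_le_ncard hsub hfin
    have h2 : ({1, x, x⁻¹} : Set G).ncard ≤ 3 := by
      calc ({1, x, x⁻¹} : Set G).ncard ≤ ({x, x⁻¹} : Set G).ncard + 1 := Set.ncard_insert_le _ _
        _ ≤ (({x⁻¹} : Set G).ncard + 1) + 1 := by
          have := Set.ncard_insert_le x ({x⁻¹} : Set G)
          omega
        _ = 3 := by rw [Set.ncard_singleton]
    have h3 : Nat.card Q = (Q : Set G).ncard := Nat.card_coe_set_eq (Q : Set G)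
    omega
  omega

end Cfsg.Agent.L33U
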