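import Mathlib
import Cfsg.Agent.L33U.Base
import Cfsg.Agent.M11U.H3_Rep
import Cfsg.Agent.Helper6.DefectZeroBlock
import Cfsg.Agent.Helper6.Codegree

/-!
# S2916, piece P2 (second half): the irreducible characters outside the frame

`others_sixteen`: if the irreducible characters outside a list `L` (sum of squared degrees 4592)
vanish on the singular set, then there are exactly four of them, each of degree 16.
-/

set_option autoImplicit false

namespace Cfsg.Agent.L33U

open Cfsg.Agent.S0197 Cfsg.Agent.Helper6 Cfsg.Agent.Helper6.H72 Cfsg.Agent.M11U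

universe u

/-! ### the Borel subgroup of the model -/

/-- upper triangular matrices -/
def borelF : Finset M48 := Finset.univ.filter (fun m => m.1.2.1 = 0)

theorem borelF_card : borelF.card = 12 := by decide +kernel
theorem borelF_one : (1 : M48) ∈ borelF := by decide +kernel
theorem borelF_mul : ∀ p q : M48, p ∈ borelF → q ∈ borelF → p * q ∈ borelF := by decide +kernel
theorem borelF_inv : ∀ p : M48, p ∈ borelF → p⁻¹ ∈ borelF := by decide +kernel
theorem borelF_c3 : (borelF.filter (fun m => c3 m = true)).card = 2 := by decide +kernel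
theorem univ_c3 : ((Finset.univ : Finset M48).filter (fun m => c3 m = true)).card = 8 := by
  decide +kernel
theorem c3_ne_one : ∀ m : M48, c3 m = true → m ≠ 1 := by decide +kernel
theorem cls_not_c3 : ∀ m : M48, c3 m = false → m = 1 ∨ sing m = true ∨ cR m = true := by
  decide +kernel

/-- the Borel subgroup -/
def borel : Subgroup M48 where
  carrier := {m | m ∈ borelF}
  mul_mem' := fun {p q} hp hq => borelF_mul p q hp hq
  one_mem' := borelF_one
  inv_mem' := fun {p} hp => borelF_inv p hp

theorem mem_borel (m : M48) : m ∈ borel ↔ m ∈ borelF := Iff.rfl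

theorem card_borel : Nat.card borel = 12 := by
  have h : Nat.card borel = Nat.card {m : M48 // m ∈ borelF} := rfl
  rw [h, Nat.card_eq_fintype_card, Fintype.card_coe, borelF_card]

variable {G : Type u} [Group G] [Fintype G]

open Classical in
/-- sums over the image of a finset of the model -/
theorem h2_sum_image (C : Ctx G) (X : Subgroup G) (A : Finset M48)
    (hX : ∀ g : G, g ∈ X ↔ ∃ m ∈ A, C.S.ι m = g) (f : G → ℂ) :
    ∑ g : G, (if g ∈ X then f g else 0) = ∑ m ∈ A, f (C.S.ι m) := by
  rw [← Finset.sum_filter]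
  have h : Finset.univ.filter (fun g : G => g ∈ X) = A.image C.S.ι := by
    ext g
    simp only [Finset.mem_filter, Finset.mem_univ, true_and, Finset.mem_image]
    exact hX g
  rw [h, Finset.sum_image]
  intro a _ b _ hab
  exact C.S.ι_injective hab

/-- the sum over a part of the model of a character vanishing on the singular set -/
theorem h2_sum_cls (C : Ctx G) (χ : Cfsg.IrrCharacter G)
    (hvan : ∀ m : M48, sing m = true → (χ : G → ℂ) (C.S.ι m) = 0) (A : Finset M48)
    (h1 : (1 : M48) ∈ A) :
    ∑ m ∈ A, (χ : G → ℂ) (C.S.ι m) =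
      (χ : G → ℂ) 1 + ((A.filter (fun m => c3 m = true)).card : ℂ) * (χ : G → ℂ) C.x := by
  classical
  have hpt : ∀ m ∈ A, (χ : G → ℂ) (C.S.ι m) = (if m = 1 then (χ : G → ℂ) 1 else 0) +
      (if c3 m = true then (χ : G → ℂ) C.x else 0) := by
    intro m _
    by_cases h3 : c3 m = true
    · rw [if_pos h3, if_neg (c3_ne_one m h3), zero_add]
      exact (value_of_class C χ m).2.2.2.2.2.2 h3
    · rw [if_neg h3, add_zero]
      rw [Bool.not_eq_true] at h3
      rcases cls_not_c3 m h3 with h | h | h
      · rw [if_pos h, h, map_one]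
      · have hne : m ≠ 1 := sing_ne_one m h
        rw [if_neg hne]
        exact hvan m h
      · have hne : m ≠ 1 := (sq_of_cR m h).2
        rw [if_neg hne, (value_of_class C χ m).2.1 h]
        exact hvan tt sing_tt
  rw [Finset.sum_congr rfl hpt, Finset.sum_add_distrib, Finset.sum_ite_eq' A (1 : M48), if_pos h1,
    ← Finset.sum_filter, Finset.sum_const, nsmul_eq_mul]

/-- a character vanishing on the singular set has degree divisible by 16 -/
theorem h2_sixteen_dvd (C : Ctx G) (χ : Cfsg.IrrCharacter G)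
    (hvan : ∀ m : M48, sing m = true → (χ : G → ℂ) (C.S.ι m) = 0) :
    16 ∣ Cfsg.charDegree (χ : G → ℂ) := by
  classical
  -- the sum over N
  obtain ⟨a, ha⟩ := exists_char_sum χ C.S.N
  rw [h2_sum_image C C.S.N Finset.univ (fun g => by
      constructor
      · intro hg
        obtain ⟨m, hm⟩ := C.S.exists_of_mem hg
        exact ⟨m, Finset.mem_univ _, hm⟩
      · rintro ⟨m, -, rfl⟩
        exact C.S.ι_mem m) (χ : G → ℂ),
    h2_sum_cls C χ hvan Finset.univ (Finset.mem_univ _), univ_c3, C.S.card_N, card_M48] at ha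
  -- the sum over the Borel subgroup
  obtain ⟨b, hb⟩ := exists_char_sum χ (borel.map C.S.ι)
  rw [h2_sum_image C (borel.map C.S.ι) borelF (fun g => by
      rw [Subgroup.mem_map]
      constructor
      · rintro ⟨m, hm, rfl⟩
        exact ⟨m, hm, rfl⟩
      · rintro ⟨m, hm, rfl⟩
        exact ⟨m, hm, rfl⟩) (χ : G → ℂ),
    h2_sum_cls C χ hvan borelF borelF_one, borelF_c3,
    Subgroup.card_map_of_injective C.S.ι_injective, card_borel] at hb
  have hdeg := charDegree_cast_of_isCharacter (IsIrrCharacter.isCharacter χ.2)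
  rw [← hdeg] at ha hb
  -- eliminate χ(x)
  have h1 : ((Cfsg.charDegree (χ : G → ℂ) : ℤ) : ℂ) = ((16 * (b : ℤ) - 16 * (a : ℤ) : ℤ) : ℂ) := by
    push_cast
    push_cast at ha hb
    linear_combination (4 / 3 : ℂ) * hb - (1 / 3 : ℂ) * ha
  have h2 : (Cfsg.charDegree (χ : G → ℂ) : ℤ) = 16 * (b : ℤ) - 16 * (a : ℤ) := by exact_mod_cast h1
  have h3 : (16 : ℤ) ∣ (Cfsg.charDegree (χ : G → ℂ) : ℤ) := ⟨(b : ℤ) - a, by rw [h2]; ring⟩
  exact_mod_cast h3

/-- **P2, second half.** -/
theorem others_sixteen (C : Ctx G) (L : List (Cfsg.IrrCharacter G)) (hnd : L.Nodup)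
    (hsq : (L.map fun χ : Cfsg.IrrCharacter G => Cfsg.charDegree (χ : G → ℂ) ^ 2).sum = 4592)
    (hvan : ∀ χ : Cfsg.IrrCharacter G, χ ∉ L → ∀ m : M48, sing m = true →
      (χ : G → ℂ) (C.S.ι m) = 0) :
    (∀ χ : Cfsg.IrrCharacter G, χ ∉ L → (χ : G → ℂ) 1 = 16) ∧
      Nat.card (Cfsg.IrrCharacter G) = L.length + 4 := by
  classical
  have : Finite (Cfsg.IrrCharacter G) := irr_finite
  have : Fintype (Cfsg.IrrCharacter G) := Fintype.ofFinite _
  set O : Finset (Cfsg.IrrCharacter G) := Finset.univ.filter (fun χ => χ ∉ L) with hO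
  have hsum := sum_sq_charDegree (G := G)
  rw [C.card] at hsum
  -- split the sum
  have hsplit : ∑ χ : Cfsg.IrrCharacter G, Cfsg.charDegree (χ : G → ℂ) ^ 2 =
      ∑ χ ∈ L.toFinset, Cfsg.charDegree (χ : G → ℂ) ^ 2 +
        ∑ χ ∈ O, Cfsg.charDegree (χ : G → ℂ) ^ 2 := by
    have hdisj : Disjoint L.toFinset O := by
      rw [Finset.disjoint_left]
      intro χ h1 h2
      exact (Finset.mem_filter.mp h2).2 (List.mem_toFinset.mp h1)
    have hun : L.toFinset ∪ O = Finset.univ := by
      ext χ
      simp only [Finset.mem_union, List.mem_toFinset, hO, Finset.mem_filter, Finset.mem_univ,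
        true_and, iff_true]
      exact em _
    rw [← hun, Finset.sum_union hdisj]
  have hL : ∑ χ ∈ L.toFinset, Cfsg.charDegree (χ : G → ℂ) ^ 2 = 4592 := by
    rw [List.sum_toFinset _ hnd]
    exact hsq
  have hOsum : ∑ χ ∈ O, Cfsg.charDegree (χ : G → ℂ) ^ 2 = 1024 := by
    rw [hsplit, hL] at hsum
    omega
  -- every degree outside L is 16
  have hdeg16 : ∀ χ ∈ O, Cfsg.charDegree (χ : G → ℂ) = 16 := by
    intro χ hχ
    have hχL : χ ∉ L := (Finset.mem_filter.mp hχ).2
    obtain ⟨k, hk⟩ := h2_sixteen_dvd C χ (hvan χ hχL)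
    have hdvd : Cfsg.charDegree (χ : G → ℂ) ∣ 5616 := by
      have := charDegree_dvd_card χ.2
      rwa [C.card] at this
    have hpos : 0 < Cfsg.charDegree (χ : G → ℂ) := by
      obtain ⟨n, hn, hn1⟩ := IsIrrCharacter.apply_one_pos χ.2
      have h := charDegree_cast_of_isCharacter (IsIrrCharacter.isCharacter χ.2)
      rw [hn1] at h
      have h2 : Cfsg.charDegree (χ : G → ℂ) = n := by exact_mod_cast h
      omega
    have hle : Cfsg.charDegree (χ : G → ℂ) ^ 2 ≤ 1024 := by
      rw [← hOsum]
      exact Finset.single_le_sum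
        (f := fun χ : Cfsg.IrrCharacter G => Cfsg.charDegree (χ : G → ℂ) ^ 2)
        (fun _ _ => Nat.zero_le _) hχ
    rw [hk] at hpos hle hdvd ⊢
    have hk2 : k ≤ 2 := by nlinarith
    have hk0 : 0 < k := by omega
    interval_cases k
    · rfl
    · exfalso
      norm_num at hdvd
  have hcardO : O.card = 4 := by
    have h : ∑ χ ∈ O, Cfsg.charDegree (χ : G → ℂ) ^ 2 = O.card * 256 := by
      rw [Finset.sum_congr rfl (fun χ hχ => by rw [hdeg16 χ hχ]), Finset.sum_const, smul_eq_mul]
      norm_num
    rw [h] at hOsum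
    omega
  constructor
  · intro χ hχ
    have h := charDegree_cast_of_isCharacter (IsIrrCharacter.isCharacter χ.2)
    rw [← h, hdeg16 χ (Finset.mem_filter.mpr ⟨Finset.mem_univ _, hχ⟩)]
    norm_num
  · rw [Nat.card_eq_fintype_card, ← Finset.card_univ]
    have hun : (Finset.univ : Finset (Cfsg.IrrCharacter G)) = L.toFinset ∪ O := by
      ext χ
      simp only [Finset.mem_union, List.mem_toFinset, hO, Finset.mem_filter, Finset.mem_univ,
        true_and, true_iff]
      exact em _
    have hdisj : Disjoint L.toFinset O := by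
      rw [Finset.disjoint_left]
      intro χ h1 h2
      exact (Finset.mem_filter.mp h2).2 (List.mem_toFinset.mp h1)
    rw [hun, Finset.card_union_of_disjoint hdisj, List.toFinset_card_of_nodup hnd, hcardO]

end Cfsg.Agent.L33U
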