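import Mathlib
import Cfsg.Agent.L33U.Base
import Cfsg.Agent.L33U.H2_Others
import Cfsg.Agent.Helper6.ColumnOrth

/-!
# S2916, piece P3 (first half): the values at the element `x` of order three

`values_at_x`: from the sums of the characters over `N = C(t)` and over its subgroup `SL(2,3)`
(nonnegative multiples of 48 resp. 24) and the orthogonality of the column of `x` to the columns of
`1, t, r4, r6, r8a, r8b`.
-/

set_option autoImplicit false
set_option linter.style.haveILetI false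

namespace Cfsg.Agent.L33U

open Cfsg.Agent.S0197 Cfsg.Agent.Helper6 Cfsg.Agent.Helper6.H72 Cfsg.Agent.M11U
open scoped ComplexConjugate

universe u

/-! ### the classes of the model -/

theorem h2_cls_part : ∀ m : M48,
    (m = 1 ∧ (cT m || cR m) = false ∧ c3 m = false ∧ c6 m = false ∧ c4 m = false ∧
      c8a m = false ∧ c8b m = false) ∨
    (m ≠ 1 ∧ (cT m || cR m) = true ∧ c3 m = false ∧ c6 m = false ∧ c4 m = false ∧
      c8a m = false ∧ c8b m = false) ∨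
    (m ≠ 1 ∧ (cT m || cR m) = false ∧ c3 m = true ∧ c6 m = false ∧ c4 m = false ∧
      c8a m = false ∧ c8b m = false) ∨
    (m ≠ 1 ∧ (cT m || cR m) = false ∧ c3 m = false ∧ c6 m = true ∧ c4 m = false ∧
      c8a m = false ∧ c8b m = false) ∨
    (m ≠ 1 ∧ (cT m || cR m) = false ∧ c3 m = false ∧ c6 m = false ∧ c4 m = true ∧
      c8a m = false ∧ c8b m = false) ∨
    (m ≠ 1 ∧ (cT m || cR m) = false ∧ c3 m = false ∧ c6 m = false ∧ c4 m = false ∧
      c8a m = true ∧ c8b m = false) ∨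
    (m ≠ 1 ∧ (cT m || cR m) = false ∧ c3 m = false ∧ c6 m = false ∧ c4 m = false ∧
      c8a m = false ∧ c8b m = true) := by decide +kernel

/-- `SL(2,3)` inside the model -/
def h2_sl23F : Finset M48 := Finset.univ.filter (fun m => dt m = 1)

theorem h2_sl23F_one : (1 : M48) ∈ h2_sl23F := by decide +kernel
theorem h2_sl23F_mul : ∀ p q : M48, p ∈ h2_sl23F → q ∈ h2_sl23F → p * q ∈ h2_sl23F := by decide +kernel
theorem h2_sl23F_inv : ∀ p : M48, p ∈ h2_sl23F → p⁻¹ ∈ h2_sl23F := by decide +kernel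
theorem h2_sl23F_card : h2_sl23F.card = 24 := by decide +kernel

/-- `SL(2,3)` as a subgroup -/
def h2_sl23 : Subgroup M48 where
  carrier := {m | m ∈ h2_sl23F}
  mul_mem' := fun {p q} hp hq => h2_sl23F_mul p q hp hq
  one_mem' := h2_sl23F_one
  inv_mem' := fun {p} hp => h2_sl23F_inv p hp

theorem h2_card_sl23 : Nat.card h2_sl23 = 24 := by
  have h : Nat.card h2_sl23 = Nat.card {m : M48 // m ∈ h2_sl23F} := rfl
  rw [h, Nat.card_eq_fintype_card, Fintype.card_coe, h2_sl23F_card]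

theorem h2_counts_univ :
    ((Finset.univ : Finset M48).filter (fun m => m = 1)).card = 1 ∧
    ((Finset.univ : Finset M48).filter (fun m => (cT m || cR m) = true)).card = 13 ∧
    ((Finset.univ : Finset M48).filter (fun m => c3 m = true)).card = 8 ∧
    ((Finset.univ : Finset M48).filter (fun m => c6 m = true)).card = 8 ∧
    ((Finset.univ : Finset M48).filter (fun m => c4 m = true)).card = 6 ∧
    ((Finset.univ : Finset M48).filter (fun m => c8a m = true)).card = 6 ∧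
    ((Finset.univ : Finset M48).filter (fun m => c8b m = true)).card = 6 := by decide +kernel

theorem h2_counts_sl :
    (h2_sl23F.filter (fun m => m = 1)).card = 1 ∧
    (h2_sl23F.filter (fun m => (cT m || cR m) = true)).card = 1 ∧
    (h2_sl23F.filter (fun m => c3 m = true)).card = 8 ∧
    (h2_sl23F.filter (fun m => c6 m = true)).card = 8 ∧
    (h2_sl23F.filter (fun m => c4 m = true)).card = 6 ∧
    (h2_sl23F.filter (fun m => c8a m = true)).card = 0 ∧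
    (h2_sl23F.filter (fun m => c8b m = true)).card = 0 := by decide +kernel

variable {G : Type u} [Group G] [Fintype G]

/-- the value of a character at an element of `N`, by classes -/
theorem h2_value_cls (C : Ctx G) (χ : Cfsg.IrrCharacter G) (m : M48) :
    (χ : G → ℂ) (C.S.ι m) = (if m = 1 then (χ : G → ℂ) 1 else 0) +
      (if (cT m || cR m) = true then (χ : G → ℂ) (C.S.ι tt) else 0) +
      (if c3 m = true then (χ : G → ℂ) C.x else 0) +
      (if c6 m = true then (χ : G → ℂ) (C.S.ι r6) else 0) +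
      (if c4 m = true then (χ : G → ℂ) (C.S.ι r4) else 0) +
      (if c8a m = true then (χ : G → ℂ) (C.S.ι r8a) else 0) +
      (if c8b m = true then (χ : G → ℂ) (C.S.ι r8b) else 0) := by
  obtain ⟨v1, v2, v3, v4, v5, v6, v7⟩ := value_of_class C χ m
  rcases h2_cls_part m with ⟨h1, h2, h3, h4, h5, h6, h7⟩ | ⟨h1, h2, h3, h4, h5, h6, h7⟩ |
    ⟨h1, h2, h3, h4, h5, h6, h7⟩ | ⟨h1, h2, h3, h4, h5, h6, h7⟩ | ⟨h1, h2, h3, h4, h5, h6, h7⟩ |
    ⟨h1, h2, h3, h4, h5, h6, h7⟩ | ⟨h1, h2, h3, h4, h5, h6, h7⟩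
  · rw [if_pos h1, h2, h3, h4, h5, h6, h7, h1, map_one]
    simp
  · rw [if_neg h1, if_pos h2, h3, h4, h5, h6, h7]
    rcases Bool.or_eq_true _ _ ▸ h2 with h | h
    · rw [v1 h]; simp
    · rw [v2 h]; simp
  · rw [if_neg h1, h2, if_pos h3, h4, h5, h6, h7, v7 h3]; simp
  · rw [if_neg h1, h2, h3, if_pos h4, h5, h6, h7, v4 h4]; simp
  · rw [if_neg h1, h2, h3, h4, if_pos h5, h6, h7, v3 h5]; simp
  · rw [if_neg h1, h2, h3, h4, h5, if_pos h6, h7, v5 h6]; simp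
  · rw [if_neg h1, h2, h3, h4, h5, h6, if_pos h7, v6 h7]; simp

/-- the sum of a character over the image of a part of the model, by classes -/
theorem h2_sum_classes (C : Ctx G) (χ : Cfsg.IrrCharacter G) (A : Finset M48) :
    ∑ m ∈ A, (χ : G → ℂ) (C.S.ι m) =
      ((A.filter (fun m => m = 1)).card : ℂ) * (χ : G → ℂ) 1 +
      ((A.filter (fun m => (cT m || cR m) = true)).card : ℂ) * (χ : G → ℂ) (C.S.ι tt) +
      ((A.filter (fun m => c3 m = true)).card : ℂ) * (χ : G → ℂ) C.x +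
      ((A.filter (fun m => c6 m = true)).card : ℂ) * (χ : G → ℂ) (C.S.ι r6) +
      ((A.filter (fun m => c4 m = true)).card : ℂ) * (χ : G → ℂ) (C.S.ι r4) +
      ((A.filter (fun m => c8a m = true)).card : ℂ) * (χ : G → ℂ) (C.S.ι r8a) +
      ((A.filter (fun m => c8b m = true)).card : ℂ) * (χ : G → ℂ) (C.S.ι r8b) := by
  classical
  rw [Finset.sum_congr rfl (fun m _ => h2_value_cls C χ m)]
  simp only [Finset.sum_add_distrib, ← Finset.sum_filter, Finset.sum_const, nsmul_eq_mul]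

/-- the sum over `N` -/
theorem h2_sum_N (C : Ctx G) (χ : Cfsg.IrrCharacter G) : ∃ d : ℕ,
    (χ : G → ℂ) 1 + 13 * (χ : G → ℂ) (C.S.ι tt) + 8 * (χ : G → ℂ) C.x +
      8 * (χ : G → ℂ) (C.S.ι r6) + 6 * (χ : G → ℂ) (C.S.ι r4) + 6 * (χ : G → ℂ) (C.S.ι r8a) +
      6 * (χ : G → ℂ) (C.S.ι r8b) = 48 * (d : ℂ) := by
  classical
  obtain ⟨a, ha⟩ := exists_char_sum χ C.S.N
  rw [h2_sum_image C C.S.N Finset.univ (fun g => by
      constructor
      · intro hg
        obtain ⟨m, hm⟩ := C.S.exists_of_mem hg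
        exact ⟨m, Finset.mem_univ _, hm⟩
      · rintro ⟨m, -, rfl⟩
        exact C.S.ι_mem m) (χ : G → ℂ),
    h2_sum_classes C χ Finset.univ, C.S.card_N, card_M48] at ha
  obtain ⟨k1, k2, k3, k4, k5, k6, k7⟩ := h2_counts_univ
  rw [k1, k2, k3, k4, k5, k6, k7] at ha
  refine ⟨a, ?_⟩
  push_cast at ha
  linear_combination ha

/-- the sum over `SL(2,3)` -/
theorem h2_sum_SL (C : Ctx G) (χ : Cfsg.IrrCharacter G) : ∃ d : ℕ,
    (χ : G → ℂ) 1 + (χ : G → ℂ) (C.S.ι tt) + 8 * (χ : G → ℂ) C.x +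
      8 * (χ : G → ℂ) (C.S.ι r6) + 6 * (χ : G → ℂ) (C.S.ι r4) = 24 * (d : ℂ) := by
  classical
  obtain ⟨b, hb⟩ := exists_char_sum χ (h2_sl23.map C.S.ι)
  rw [h2_sum_image C (h2_sl23.map C.S.ι) h2_sl23F (fun g => by
      rw [Subgroup.mem_map]
      constructor
      · rintro ⟨m, hm, rfl⟩
        exact ⟨m, hm, rfl⟩
      · rintro ⟨m, hm, rfl⟩
        exact ⟨m, hm, rfl⟩) (χ : G → ℂ),
    h2_sum_classes C χ h2_sl23F,
    Subgroup.card_map_of_injective C.S.ι_injective, h2_card_sl23] at hb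
  obtain ⟨k1, k2, k3, k4, k5, k6, k7⟩ := h2_counts_sl
  rw [k1, k2, k3, k4, k5, k6, k7] at hb
  refine ⟨b, ?_⟩
  push_cast at hb
  linear_combination hb

/-! ### the column of `x` -/

theorem h2_sing_cube : ∀ m : M48, sing m = true → m * m * m ≠ 1 := by decide +kernel

theorem h2_x_mul (C : Ctx G) : C.x * C.x * C.x = 1 := by
  show C.S.ι x3 * C.S.ι x3 * C.S.ι x3 = 1
  rw [← map_mul, ← map_mul, x3_facts.2.1, map_one]

theorem h2_not_conj_sing (C : Ctx G) (m : M48) (hm : sing m = true) :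
    ¬ IsConj C.x (C.S.ι m) := by
  intro h
  obtain ⟨c, hc⟩ := isConj_iff.mp h
  have h1 : C.S.ι m * C.S.ι m * C.S.ι m = 1 := by
    rw [← hc]
    calc c * C.x * c⁻¹ * (c * C.x * c⁻¹) * (c * C.x * c⁻¹) = c * (C.x * C.x * C.x) * c⁻¹ := by group
      _ = 1 := by rw [h2_x_mul]; group
  rw [← map_mul, ← map_mul] at h1
  exact h2_sing_cube m hm ((C.S.ι_eq_one_iff _).mp h1)

theorem h2_not_conj_one (C : Ctx G) : ¬ IsConj C.x 1 := by
  intro h
  have h1 : C.x = 1 := isConj_one_left.mp h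
  exact x3_facts.2.2.1 ((C.S.ι_eq_one_iff x3).mp h1)

/-- the column of `x` against the column of a non-conjugate element -/
theorem h2_col (C : Ctx G) (T : Table C) [Fintype (Cfsg.IrrCharacter G)]
    [DecidableEq (Cfsg.IrrCharacter G)] (g : G) (hg : ¬ IsConj C.x g) :
    1 + (T.xU : G → ℂ) C.x * conj ((T.xU : G → ℂ) g) +
      (T.xV : G → ℂ) C.x * conj ((T.xV : G → ℂ) g) +
      (T.xP : G → ℂ) C.x * conj ((T.xP : G → ℂ) g) +
      (T.xQ : G → ℂ) C.x * conj ((T.xQ : G → ℂ) g) +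
      (T.xS : G → ℂ) C.x * conj ((T.xS : G → ℂ) g) +
      (T.xR : G → ℂ) C.x * conj ((T.xR : G → ℂ) g) +
      (T.xE : G → ℂ) C.x * conj ((T.xE : G → ℂ) g) +
      ∑ χ ∈ ([Cfsg.Agent.S0197.trivIrr G, T.xU, T.xV, T.xP, T.xQ, T.xS, T.xR,
        T.xE].toFinset)ᶜ, (χ : G → ℂ) C.x * conj ((χ : G → ℂ) g) = 0 := by
  classical
  have hco := column_orthogonality_aux C.x g
  rw [if_neg hg] at hco
  have hsplit := Finset.sum_add_sum_compl
    ([Cfsg.Agent.S0197.trivIrr G, T.xU, T.xV, T.xP, T.xQ, T.xS, T.xR, T.xE].toFinset)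
    (fun χ : Cfsg.IrrCharacter G => (χ : G → ℂ) C.x * conj ((χ : G → ℂ) g))
  have htriv : ∀ y : G, ((Cfsg.Agent.S0197.trivIrr G : Cfsg.IrrCharacter G) : G → ℂ) y = 1 :=
    fun _ => rfl
  rw [hco, List.sum_toFinset _ T.hnd] at hsplit
  simp only [List.map_cons, List.map_nil, List.sum_cons, List.sum_nil, htriv, map_one,
    mul_one] at hsplit
  rw [← hsplit]
  ring

/-- **P3, first half.** -/
theorem values_at_x (C : Ctx G) (T : Table C) :
    (T.xU : G → ℂ) C.x = 3 ∧ (T.xV : G → ℂ) C.x = 4 ∧ (T.xP : G → ℂ) C.x = -1 ∧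
    (T.xQ : G → ℂ) C.x = -1 ∧ (T.xS : G → ℂ) C.x = -1 ∧ (T.xR : G → ℂ) C.x = 0 ∧
    (T.xE : G → ℂ) C.x = 3 ∧
    (∀ χ : Cfsg.IrrCharacter G,
      χ ∉ [Cfsg.Agent.S0197.trivIrr G, T.xU, T.xV, T.xP, T.xQ, T.xS, T.xR, T.xE] →
      (χ : G → ℂ) C.x = -2) := by
  classical
  haveI : Finite (Cfsg.IrrCharacter G) := irr_finite
  haveI : Fintype (Cfsg.IrrCharacter G) := Fintype.ofFinite _
  obtain ⟨U1, Ut, U4, U6, U8a, U8b⟩ := T.hU
  obtain ⟨V1, Vt, V4, V6, V8a, V8b⟩ := T.hV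
  obtain ⟨P1, Pt, P4, P6, P8a, P8b⟩ := T.hP
  obtain ⟨Q1, Qt, Q4, Q6, Q8a, Q8b⟩ := T.hQ
  obtain ⟨S1, St, S4, S6, S8a, S8b⟩ := T.hS
  obtain ⟨R1, Rt, R4, R6, R8a, R8b⟩ := T.hR
  obtain ⟨E1, Et, E4, E6, E8a, E8b⟩ := T.hE
  set L : List (Cfsg.IrrCharacter G) :=
    [Cfsg.Agent.S0197.trivIrr G, T.xU, T.xV, T.xP, T.xQ, T.xS, T.xR, T.xE] with hL
  -- the sums over `N` and `SL(2,3)`
  obtain ⟨dV, hdV⟩ := h2_sum_N C T.xV
  obtain ⟨dR, hdR⟩ := h2_sum_N C T.xR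
  obtain ⟨dR', hdR'⟩ := h2_sum_SL C T.xR
  rw [V1, Vt, V4, V6, V8a, V8b] at hdV
  rw [R1, Rt, R4, R6, R8a, R8b] at hdR
  rw [R1, Rt, R4, R6] at hdR'
  choose d hd using (fun χ : Cfsg.IrrCharacter G => h2_sum_N C χ)
  have hoth : ∀ χ ∈ L.toFinsetᶜ, (χ : G → ℂ) C.x = 6 * (d χ : ℂ) - 2 := by
    intro χ hχ
    rw [Finset.mem_compl, List.mem_toFinset] at hχ
    obtain ⟨h1, hv⟩ := T.hoth χ hχ
    have h := hd χ
    rw [h1, hv tt sing_tt, hv r6 sing_r6, hv r4 sing_r4, hv r8a sing_r8a, hv r8b sing_r8b] at h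
    linear_combination (1 / 8 : ℂ) * h
  have hR2 : 2 * dR = dR' + 1 := by
    have h : ((2 * dR : ℕ) : ℂ) = ((dR' + 1 : ℕ) : ℂ) := by
      push_cast
      linear_combination (-1 / 24 : ℂ) * hdR + (1 / 24 : ℂ) * hdR'
    exact_mod_cast h
  obtain ⟨e, he⟩ : ∃ e : ℕ, dR = e + 1 := ⟨dR - 1, by omega⟩
  rw [he] at hdR
  push_cast at hdR
  -- the columns
  have Ctt := h2_col C T (C.S.ι tt) (h2_not_conj_sing C tt sing_tt)
  have C4 := h2_col C T (C.S.ι r4) (h2_not_conj_sing C r4 sing_r4)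
  have C6 := h2_col C T (C.S.ι r6) (h2_not_conj_sing C r6 sing_r6)
  have C8a := h2_col C T (C.S.ι r8a) (h2_not_conj_sing C r8a sing_r8a)
  have C8b := h2_col C T (C.S.ι r8b) (h2_not_conj_sing C r8b sing_r8b)
  have C1 := h2_col C T 1 (h2_not_conj_one C)
  have hvan : ∀ m : M48, sing m = true →
      ∑ χ ∈ L.toFinsetᶜ, (χ : G → ℂ) C.x * conj ((χ : G → ℂ) (C.S.ι m)) = 0 := by
    intro m hm
    apply Finset.sum_eq_zero
    intro χ hχ
    rw [Finset.mem_compl, List.mem_toFinset] at hχ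
    rw [(T.hoth χ hχ).2 m hm, map_zero, mul_zero]
  have hcardL : L.toFinset.card = 8 := by
    rw [List.toFinset_card_of_nodup T.hnd]
    rfl
  have hcardc : (L.toFinsetᶜ).card = 4 := by
    rw [Finset.card_compl, hcardL, ← Nat.card_eq_fintype_card, T.hcard]
  have hone : ∑ χ ∈ L.toFinsetᶜ, (χ : G → ℂ) C.x * conj ((χ : G → ℂ) 1) =
      96 * ((∑ χ ∈ L.toFinsetᶜ, d χ : ℕ) : ℂ) - 128 := by
    have h : ∀ χ ∈ L.toFinsetᶜ, (χ : G → ℂ) C.x * conj ((χ : G → ℂ) 1) =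
        96 * (d χ : ℂ) - 32 := by
      intro χ hχ
      rw [hoth χ hχ]
      rw [Finset.mem_compl, List.mem_toFinset] at hχ
      rw [(T.hoth χ hχ).1]
      simp only [map_ofNat]
      ring
    rw [Finset.sum_congr rfl h, Finset.sum_sub_distrib, ← Finset.mul_sum, Finset.sum_const, hcardc]
    push_cast
    ring
  rw [hvan tt sing_tt, Ut, Vt, Pt, Qt, St, Rt, Et] at Ctt
  rw [hvan r4 sing_r4, U4, V4, P4, Q4, S4, R4, E4] at C4
  rw [hvan r6 sing_r6, U6, V6, P6, Q6, S6, R6, E6] at C6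
  rw [hvan r8a sing_r8a, U8a, V8a, P8a, Q8a, S8a, R8a, E8a] at C8a
  rw [hvan r8b sing_r8b, U8b, V8b, P8b, Q8b, S8b, R8b, E8b] at C8b
  rw [hone, U1, V1, P1, Q1, S1, R1, E1] at C1
  simp only [map_ofNat, map_neg, map_one, map_zero, conj_s2] at Ctt C4 C6 C8a C8b C1
  set D : ℕ := ∑ χ ∈ L.toFinsetᶜ, d χ with hD
  -- the key identity
  have hkey : ((384 * dV + 864 * e + 96 * D : ℕ) : ℂ) = ((0 : ℕ) : ℂ) := by
    push_cast
    linear_combination C1 - (64 / 3 : ℂ) * C6 + (7 / 3 : ℂ) * Ctt - 26 * C4 - 42 * C8a - 42 * C8b -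
      8 * hdV - 18 * hdR
  have hkey' : 384 * dV + 864 * e + 96 * D = 0 := by exact_mod_cast hkey
  have hdV0 : dV = 0 := by omega
  have he0 : e = 0 := by omega
  have hD0 : D = 0 := by omega
  rw [hdV0] at hdV
  rw [he0] at hdR
  push_cast at hdV hdR
  have cV : (T.xV : G → ℂ) C.x = 4 := by linear_combination (1 / 8 : ℂ) * hdV
  have cR : (T.xR : G → ℂ) C.x = 0 := by linear_combination (1 / 8 : ℂ) * hdR
  have cE : (T.xE : G → ℂ) C.x = 3 := by
    linear_combination (1 / 2 : ℂ) * C8a + (1 / 2 : ℂ) * C8b + cV + cR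
  have cP : (T.xP : G → ℂ) C.x = -1 := by
    linear_combination (1 / 2 : ℂ) * C4 - (1 / 2 : ℂ) * cV + (1 / 2 : ℂ) * cR + (1 / 2 : ℂ) * cE
  have cU : (T.xU : G → ℂ) C.x = 3 := by
    linear_combination (1 / 6 : ℂ) * Ctt + (1 / 3 : ℂ) * C6 + (1 / 2 : ℂ) * cV - (1 / 2 : ℂ) * cR +
      (1 / 2 : ℂ) * cE
  have cQS : (T.xQ : G → ℂ) C.x + (T.xS : G → ℂ) C.x = -2 := by
    linear_combination C6 - cU + cP + cE
  have cQS' : (T.xQ : G → ℂ) C.x - (T.xS : G → ℂ) C.x = 0 := by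
    linear_combination (s2 / 4) * (C8a - C8b) -
      (((T.xS : G → ℂ) C.x - (T.xQ : G → ℂ) C.x) / 2) * s2_mul_self
  have cQ : (T.xQ : G → ℂ) C.x = -1 := by linear_combination (1 / 2 : ℂ) * cQS + (1 / 2 : ℂ) * cQS'
  have cS : (T.xS : G → ℂ) C.x = -1 := by linear_combination (1 / 2 : ℂ) * cQS - (1 / 2 : ℂ) * cQS'
  refine ⟨cU, cV, cP, cQ, cS, cR, cE, ?_⟩
  intro χ hχ
  have hmem : χ ∈ L.toFinsetᶜ := by
    rw [Finset.mem_compl, List.mem_toFinset]
    exact hχ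
  have hd0 : d χ = 0 := (Finset.sum_eq_zero_iff.mp hD0) χ hmem
  rw [hoth χ hmem, hd0]
  norm_num

end Cfsg.Agent.L33U
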