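import Mathlib
import Cfsg.Agent.GL23U.H4_Model

/-!
# S2916 (project L33U), piece P0: extra facts about the model `M48` of `GL(2,3)` (helper3)

All by `decide +kernel`.
-/

set_option autoImplicit false

namespace Cfsg.Agent.L33U

open Cfsg.Agent.S0197

/-- a noncentral involution of the model -/
def h3_r0 : M48 := ⟨((1, 0), (0, -1)), by decide⟩

theorem h3_r0_sq : h3_r0 * h3_r0 = 1 := by decide +kernel

theorem h3_r0_ne_one : h3_r0 ≠ 1 := by decide +kernel

theorem h3_r0_ne_tt : h3_r0 ≠ tt := by decide +kernel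

theorem h3_tt_r0_sq : (tt * h3_r0) * (tt * h3_r0) = 1 := by decide +kernel

theorem h3_tt_r0_ne_one : tt * h3_r0 ≠ 1 := by decide +kernel

/-- every element is a product of at most three involutions -/
theorem h3_prod_invol : ∀ m : M48, ∃ a b : M48, a * a = 1 ∧ b * b = 1 ∧
    (m = a * b ∨ m = a * b * h3_r0) := by
  decide +kernel

/-- an element of order 3 times a suitable conjugate of itself has order 4 -/
theorem h3_order_three : ∀ m : M48, m ≠ 1 → m * m * m = 1 →
    ∃ h : M48, (m * (h * m * h⁻¹)) * (m * (h * m * h⁻¹)) ≠ 1 ∧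
      (m * (h * m * h⁻¹)) * (m * (h * m * h⁻¹)) * ((m * (h * m * h⁻¹)) * (m * (h * m * h⁻¹))) = 1 := by
  decide +kernel

/-- every element has order dividing 48 -/
theorem h3_pow_48 (m : M48) : m ^ 48 = 1 := by
  have := pow_card_eq_one (x := m)
  rwa [card_M48] at this

end Cfsg.Agent.L33U
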