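import Mathlib
import Cfsg.Prelude.Def_Transfer
import Cfsg.Agent.GL23U.H4_Local
import Cfsg.Agent.Helper1.FrobEven
import Cfsg.Agent.L33U.H3_Model

/-!
# S2916 (project L33U), piece P0: `O^2(G) = G` and `C_G(t) ≅ GL(2,3)` imply `G` simple (helper3)

* `h3_no_index_two`: `pResidual 2 G = ⊤` ⇒ no normal subgroup of index 2.
* `h3_invol_conj`: all involutions are conjugate to `t` (Thompson transfer; copy of helper4's
  `h4_invol_conj` with simplicity replaced by "no normal subgroup of index 2").
* `h3_odd_normal`: a normal subgroup of odd order is trivial.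
* `h3_normal_top`: a nontrivial normal subgroup is everything.
* `simple_of_residual_model`, `simple_of_residual`: `G` is simple.
-/

set_option autoImplicit false

namespace Cfsg.Agent.L33U

open Cfsg.Agent.S0197 Cfsg.Agent.GL23U

variable {G : Type*} [Group G]

/-- `O^2(G) = G` ⇒ no normal subgroup of index 2. -/
theorem h3_no_index_two [Finite G] (hO : Cfsg.pResidual 2 G = ⊤) (M : Subgroup G) (hM : M.Normal) :
    M.index ≠ 2 := by
  intro hidx
  have hle : Cfsg.pResidual 2 G ≤ M := by
    unfold Cfsg.pResidual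
    rw [Subgroup.closure_le]
    intro g hg
    have hg' : Nat.Coprime (orderOf g) 2 := hg
    have h1 : orderOf (QuotientGroup.mk' M g) ∣ orderOf g := orderOf_map_dvd _ g
    have h2 : orderOf (QuotientGroup.mk' M g) ∣ 2 := by
      have := orderOf_dvd_natCard (QuotientGroup.mk' M g)
      rwa [← Subgroup.index_eq_card, hidx] at this
    have h3 : orderOf (QuotientGroup.mk' M g) = 1 :=
      Nat.eq_one_of_dvd_coprimes hg' h1 h2
    rw [orderOf_eq_one_iff] at h3
    exact (QuotientGroup.eq_one_iff g).mp h3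
  rw [hO, top_le_iff] at hle
  rw [hle, Subgroup.index_top] at hidx
  omega

/-- all involutions are conjugate to `t` -/
theorem h3_invol_conj [Finite G] (hno2 : ∀ M : Subgroup G, M.Normal → M.index ≠ 2)
    (t : G) (ht : orderOf t = 2)
    (e : Subgroup.centralizer ({t} : Set G) ≃* M48) (u : G) (hu : orderOf u = 2) :
    ∃ g : G, g * u * g⁻¹ = t := by
  classical
  have : Fact (Nat.Prime 2) := ⟨Nat.prime_two⟩
  obtain ⟨P, hPH, htP, hPcard⟩ := h4_exists_sylow t ht e
  have hu2 : IsPGroup 2 (Subgroup.zpowers u) := by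
    apply IsPGroup.of_card (n := 1)
    rw [Nat.card_zpowers, pow_one, hu]
  obtain ⟨P', hP'⟩ := hu2.exists_le_sylow
  obtain ⟨g₀, hg₀⟩ := MulAction.exists_smul_eq G P' P
  have hu'P : g₀ * u * g₀⁻¹ ∈ (P : Subgroup G) := by
    rw [← hg₀, Sylow.coe_subgroup_smul]
    exact ⟨u, hP' (Subgroup.mem_zpowers u), rfl⟩
  have hu'o : orderOf (g₀ * u * g₀⁻¹) = 2 := by
    have : g₀ * u * g₀⁻¹ = MulAut.conj g₀ u := by simp [MulAut.conj_apply]
    rw [this, MulEquiv.orderOf_eq, hu]
  have hQi := h4_relIndex_Q t e (P : Subgroup G) hPH hPcard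
  rcases Cfsg.Agent.Helper2.thompson_transfer_classical P (h4_Q t e (P : Subgroup G)) hQi
    (g₀ * u * g₀⁻¹) hu'o with ⟨M, hMn, hMi, -⟩ | ⟨g, hg⟩
  · exact absurd hMi (hno2 M hMn)
  · have ho : orderOf (g * (g₀ * u * g₀⁻¹) * g⁻¹) = 2 := by
      have : g * (g₀ * u * g₀⁻¹) * g⁻¹ = MulAut.conj g (g₀ * u * g₀⁻¹) := by
        simp [MulAut.conj_apply]
      rw [this, MulEquiv.orderOf_eq, hu'o]
    have := h4_invol_of_mem_Q t ht e (P : Subgroup G) _ hg ho
    refine ⟨g * g₀, ?_⟩
    rw [← this]
    group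

/-- an involution of `C_G(t)` coming from the model -/
theorem h3_orderOf_symm (t : G) (e : Subgroup.centralizer ({t} : Set G) ≃* M48) (m : M48)
    (hm : m * m = 1) (hm1 : m ≠ 1) : orderOf ((e.symm m : Subgroup.centralizer ({t} : Set G)) : G) = 2 := by
  rw [Subgroup.orderOf_coe, MulEquiv.orderOf_eq]
  apply orderOf_eq_prime
  · rw [pow_two]; exact hm
  · exact hm1

/-- the centralizer of `t` meets a normal subgroup of odd order trivially -/
theorem h3_odd_meet [Finite G] (t : G)
    (e : Subgroup.centralizer ({t} : Set G) ≃* M48) (K : Subgroup G) [K.Normal]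
    (hK : Odd (Nat.card K)) : K ⊓ Subgroup.centralizer ({t} : Set G) = ⊥ := by
  rw [eq_bot_iff]
  intro x hx
  rw [Subgroup.mem_bot]
  by_contra hx1
  have hxK : x ∈ K := hx.1
  have hxH : x ∈ Subgroup.centralizer ({t} : Set G) := hx.2
  -- `x` has odd order
  have hxk : x ^ Nat.card K = 1 := by
    have := pow_card_eq_one' (G := K) (x := ⟨x, hxK⟩)
    exact congrArg Subtype.val this
  set m : M48 := e ⟨x, hxH⟩ with hm
  have hm1 : m ≠ 1 := by
    intro h
    rw [hm, ← map_one e] at h
    exact hx1 (congrArg Subtype.val (e.injective h))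
  have hmk : m ^ Nat.card K = 1 := by
    rw [hm, ← map_pow]
    have : (⟨x, hxH⟩ : Subgroup.centralizer ({t} : Set G)) ^ Nat.card K = 1 := by
      apply Subtype.ext; simpa using hxk
    rw [this, map_one]
  have hm48 : m ^ 48 = 1 := h3_pow_48 m
  have hm3 : m * m * m = 1 := by
    have h1 : orderOf m ∣ Nat.card K := orderOf_dvd_of_pow_eq_one hmk
    have h2 : orderOf m ∣ 48 := orderOf_dvd_of_pow_eq_one hm48
    have hodd : Odd (orderOf m) := Odd.of_dvd_nat hK h1
    have hcop : Nat.Coprime (orderOf m) 16 := by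
      have : Nat.Coprime (orderOf m) 2 := Nat.Coprime.symm (Nat.coprime_two_left.mpr hodd)
      have h16 : (16 : ℕ) = 2 ^ 4 := by norm_num
      rw [h16]; exact Nat.Coprime.pow_right 4 this
    have h3 : orderOf m ∣ 3 := by
      have h48 : (48 : ℕ) = 16 * 3 := by norm_num
      rw [h48] at h2
      exact hcop.dvd_of_dvd_mul_left h2
    have := orderOf_dvd_iff_pow_eq_one.mp h3
    rw [← this]; simp [pow_succ]
  obtain ⟨h, hne, h4⟩ := h3_order_three m hm1 hm3
  -- transport to `G`
  set h' : G := ((e.symm h : Subgroup.centralizer ({t} : Set G)) : G) with hh'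
  set y : G := x * (h' * x * h'⁻¹) with hy
  have hyK : y ∈ K := K.mul_mem hxK (Subgroup.Normal.conj_mem inferInstance _ hxK h')
  have hyH : y ∈ Subgroup.centralizer ({t} : Set G) := by
    refine (Subgroup.centralizer _).mul_mem hxH ?_
    exact (Subgroup.centralizer _).mul_mem ((Subgroup.centralizer _).mul_mem (e.symm h).2 hxH)
      ((Subgroup.centralizer _).inv_mem (e.symm h).2)
  have hey : e ⟨y, hyH⟩ = m * (h * m * h⁻¹) := by
    have : (⟨y, hyH⟩ : Subgroup.centralizer ({t} : Set G)) =
        ⟨x, hxH⟩ * (e.symm h * ⟨x, hxH⟩ * (e.symm h)⁻¹) := by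
      apply Subtype.ext; simp [hy, hh']
    rw [this, map_mul, map_mul, map_mul, map_inv, MulEquiv.apply_symm_apply]
  have hyk : y ^ Nat.card K = 1 := by
    have := pow_card_eq_one' (G := K) (x := ⟨y, hyK⟩)
    exact congrArg Subtype.val this
  have hy4 : y ^ 4 = 1 := by
    have h1 : (⟨y, hyH⟩ : Subgroup.centralizer ({t} : Set G)) ^ 4 = 1 := by
      apply e.injective
      rw [map_pow, hey, map_one]
      have : (m * (h * m * h⁻¹)) ^ 4 = (m * (h * m * h⁻¹)) * (m * (h * m * h⁻¹)) *
          ((m * (h * m * h⁻¹)) * (m * (h * m * h⁻¹))) := by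
        simp [pow_succ, mul_assoc]
      rw [this]; exact h4
    have := congrArg Subtype.val h1
    simpa using this
  have hy1 : y = 1 := by
    have hcop : Nat.Coprime (Nat.card K) 4 := by
      have : Nat.Coprime (Nat.card K) 2 := Nat.Coprime.symm (Nat.coprime_two_left.mpr hK)
      have h4' : (4 : ℕ) = 2 ^ 2 := by norm_num
      rw [h4']; exact Nat.Coprime.pow_right 2 this
    have h1 : orderOf y ∣ Nat.card K := orderOf_dvd_of_pow_eq_one hyk
    have h2 : orderOf y ∣ 4 := orderOf_dvd_of_pow_eq_one hy4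
    have := Nat.eq_one_of_dvd_coprimes hcop h1 h2
    exact orderOf_eq_one_iff.mp this
  apply hne
  have : e ⟨y, hyH⟩ = 1 := by
    have : (⟨y, hyH⟩ : Subgroup.centralizer ({t} : Set G)) = 1 := Subtype.ext hy1
    rw [this, map_one]
  rw [← hey, this, mul_one]

/-- a normal subgroup of odd order is trivial -/
theorem h3_odd_normal [Finite G] (hno2 : ∀ M : Subgroup G, M.Normal → M.index ≠ 2)
    (t : G) (ht : orderOf t = 2)
    (e : Subgroup.centralizer ({t} : Set G) ≃* M48) (K : Subgroup G) [K.Normal]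
    (hK : Odd (Nat.card K)) : K = ⊥ := by
  -- every involution inverts `K`
  have hinv : ∀ u : G, orderOf u = 2 → ∀ k ∈ K, u * k * u⁻¹ = k⁻¹ := by
    intro u hu
    apply Cfsg.Agent.Helper1.involution_inverts_of_fpf K u hu
    obtain ⟨g, hg⟩ := h3_invol_conj hno2 t ht e u hu
    rw [eq_bot_iff]
    intro x hx
    rw [Subgroup.mem_bot]
    have hx1 : g * x * g⁻¹ ∈ K ⊓ Subgroup.centralizer ({t} : Set G) := by
      refine Subgroup.mem_inf.mpr ⟨Subgroup.Normal.conj_mem inferInstance _ hx.1 g, ?_⟩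
      rw [Subgroup.mem_centralizer_singleton_iff]
      have hxu : x * u = u * x := Subgroup.mem_centralizer_singleton_iff.mp hx.2
      rw [← hg]
      calc g * x * g⁻¹ * (g * u * g⁻¹) = g * (x * u) * g⁻¹ := by group
        _ = g * (u * x) * g⁻¹ := by rw [hxu]
        _ = g * u * g⁻¹ * (g * x * g⁻¹) := by group
    rw [h3_odd_meet t e K hK, Subgroup.mem_bot] at hx1
    have : x = g⁻¹ * (g * x * g⁻¹) * g := by group
    rw [this, hx1]; group
  -- three involutions `t`, `r`, `t r`
  set r : G := ((e.symm h3_r0 : Subgroup.centralizer ({t} : Set G)) : G) with hr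
  have hro : orderOf r = 2 := h3_orderOf_symm t e h3_r0 h3_r0_sq h3_r0_ne_one
  have htt : ((e.symm tt : Subgroup.centralizer ({t} : Set G)) : G) = t := by
    have := h4_e_t t ht e
    rw [← this, MulEquiv.symm_apply_apply]
  have htr : t * r = ((e.symm (tt * h3_r0) : Subgroup.centralizer ({t} : Set G)) : G) := by
    rw [map_mul, Subgroup.coe_mul, htt]
  have htro : orderOf (t * r) = 2 := by
    rw [htr]; exact h3_orderOf_symm t e (tt * h3_r0) h3_tt_r0_sq h3_tt_r0_ne_one
  rw [eq_bot_iff]
  intro k hk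
  rw [Subgroup.mem_bot]
  have h1 := hinv t ht k hk
  have h2 := hinv r hro k hk
  have h3 := hinv (t * r) htro k⁻¹ (K.inv_mem hk)
  -- `t k t⁻¹ = (t r) (r⁻¹ k r) (t r)⁻¹`, and `r⁻¹ = r`
  have hrinv : r⁻¹ = r := by
    have : r * r = 1 := by rw [← pow_two, ← hro, pow_orderOf_eq_one]
    exact inv_eq_of_mul_eq_one_left this
  have h2' : r⁻¹ * k * r = k⁻¹ := by
    calc r⁻¹ * k * r = r * k * r := by rw [hrinv]
      _ = r * k * r⁻¹ := by rw [hrinv]
      _ = k⁻¹ := h2
  have h4 : t * k * t⁻¹ = k := by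
    calc t * k * t⁻¹ = (t * r) * (r⁻¹ * k * r) * (t * r)⁻¹ := by group
      _ = (t * r) * k⁻¹ * (t * r)⁻¹ := by rw [h2']
      _ = k⁻¹⁻¹ := h3
      _ = k := inv_inv k
  have hkc : k ∈ K ⊓ Subgroup.centralizer ({t} : Set G) := by
    refine Subgroup.mem_inf.mpr ⟨hk, ?_⟩
    rw [Subgroup.mem_centralizer_singleton_iff]
    calc k * t = (t * k * t⁻¹) * t := by rw [h4]
      _ = t * k := by group
  rw [h3_odd_meet t e K hK, Subgroup.mem_bot] at hkc
  exact hkc

/-- a nontrivial normal subgroup is everything -/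
theorem h3_normal_top [Finite G] (hno2 : ∀ M : Subgroup G, M.Normal → M.index ≠ 2)
    (t : G) (ht : orderOf t = 2)
    (e : Subgroup.centralizer ({t} : Set G) ≃* M48) (M : Subgroup G) [M.Normal] (hM : M ≠ ⊥) :
    M = ⊤ := by
  classical
  have : Fact (Nat.Prime 2) := ⟨Nat.prime_two⟩
  -- `|M|` is even
  have heven : 2 ∣ Nat.card M := by
    by_contra h
    apply hM
    apply h3_odd_normal hno2 t ht e M
    rw [Nat.odd_iff]
    omega
  -- an involution in `M`
  obtain ⟨k, hk⟩ := exists_prime_orderOf_dvd_card' 2 heven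
  have hko : orderOf (k : G) = 2 := by rw [Subgroup.orderOf_coe]; exact hk
  -- all involutions lie in `M`
  have hinvM : ∀ u : G, orderOf u = 2 → u ∈ M := by
    intro u hu
    obtain ⟨g1, hg1⟩ := h3_invol_conj hno2 t ht e u hu
    obtain ⟨g2, hg2⟩ := h3_invol_conj hno2 t ht e (k : G) hko
    have h1 : u = (g1⁻¹ * g2) * (k : G) * (g1⁻¹ * g2)⁻¹ := by
      have h2 : u = g1⁻¹ * (g1 * u * g1⁻¹) * g1 := by group
      rw [h2, hg1, ← hg2]; group
    rw [h1]
    exact Subgroup.Normal.conj_mem inferInstance _ k.2 _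
  -- `C_G(t) ≤ M`
  have hHM : Subgroup.centralizer ({t} : Set G) ≤ M := by
    intro x hx
    obtain ⟨a, b, ha, hb, hab⟩ := h3_prod_invol (e ⟨x, hx⟩)
    have hmem : ∀ m : M48, m * m = 1 →
        ((e.symm m : Subgroup.centralizer ({t} : Set G)) : G) ∈ M := by
      intro m hm
      by_cases hm1 : m = 1
      · rw [hm1, map_one]; exact M.one_mem
      · exact hinvM _ (h3_orderOf_symm t e m hm hm1)
    have hx' : (⟨x, hx⟩ : Subgroup.centralizer ({t} : Set G)) = e.symm (e ⟨x, hx⟩) :=
      (e.symm_apply_apply _).symm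
    rcases hab with h | h
    · have h2 : x = ((e.symm a : Subgroup.centralizer ({t} : Set G)) : G) *
          ((e.symm b : Subgroup.centralizer ({t} : Set G)) : G) := by
        have := congrArg Subtype.val hx'
        rw [h, map_mul] at this
        exact this
      rw [h2]; exact M.mul_mem (hmem a ha) (hmem b hb)
    · have h2 : x = ((e.symm a : Subgroup.centralizer ({t} : Set G)) : G) *
          ((e.symm b : Subgroup.centralizer ({t} : Set G)) : G) *
          ((e.symm h3_r0 : Subgroup.centralizer ({t} : Set G)) : G) := by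
        have := congrArg Subtype.val hx'
        rw [h, map_mul, map_mul] at this
        exact this
      rw [h2]
      exact M.mul_mem (M.mul_mem (hmem a ha) (hmem b hb)) (hmem h3_r0 h3_r0_sq)
  -- a Sylow 2-subgroup inside `C_G(t)`, Frattini
  obtain ⟨P, hPH, htP, hPcard⟩ := h4_exists_sylow t ht e
  have hPM : (P : Subgroup G) ≤ M := hPH.trans hHM
  have hfr := Sylow.normalizer_sup_eq_top (P.subtype hPM)
  have hmap : ((P.subtype hPM : Sylow 2 M) : Subgroup M).map M.subtype = (P : Subgroup G) := by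
    rw [Sylow.coe_subtype, Subgroup.subgroupOf_map_subtype]
    exact inf_eq_left.mpr hPM
  rw [hmap] at hfr
  -- `N_G(P) ≤ C_G(t)`
  have hNH : Subgroup.normalizer ((P : Subgroup G) : Set G) ≤
      Subgroup.centralizer ({t} : Set G) := by
    intro g hg
    have hsP : g * t * g⁻¹ ∈ (P : Subgroup G) := (Subgroup.mem_normalizer_iff.mp hg t).mp htP
    have hscomm : ∀ p ∈ (P : Subgroup G), p * (g * t * g⁻¹) = (g * t * g⁻¹) * p := by
      intro p hp
      have hp' : g⁻¹ * p * g ∈ (P : Subgroup G) := by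
        have := (Subgroup.mem_normalizer_iff.mp hg (g⁻¹ * p * g))
        rw [this]
        have h3 : g * (g⁻¹ * p * g) * g⁻¹ = p := by group
        rw [h3]; exact hp
      have hc : g⁻¹ * p * g * t = t * (g⁻¹ * p * g) :=
        Subgroup.mem_centralizer_singleton_iff.mp (hPH hp')
      calc p * (g * t * g⁻¹) = g * (g⁻¹ * p * g * t) * g⁻¹ := by group
        _ = g * (t * (g⁻¹ * p * g)) * g⁻¹ := by rw [hc]
        _ = (g * t * g⁻¹) * p := by group
    have hsH : g * t * g⁻¹ ∈ Subgroup.centralizer ({t} : Set G) := hPH hsP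
    set sH : Subgroup.centralizer ({t} : Set G) := ⟨g * t * g⁻¹, hsH⟩ with hsHdef
    have hle : (P : Subgroup G).subgroupOf (Subgroup.centralizer ({t} : Set G)) ≤
        Subgroup.centralizer ({sH} : Set (Subgroup.centralizer ({t} : Set G))) := by
      intro p hp
      rw [Subgroup.mem_centralizer_singleton_iff]
      apply Subtype.ext
      exact hscomm (p : G) (Subgroup.mem_subgroupOf.mp hp)
    have hcard16 : Nat.card ((P : Subgroup G).subgroupOf (Subgroup.centralizer ({t} : Set G))) = 16 := by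
      rw [← hPcard]
      exact Nat.card_congr (Subgroup.subgroupOfEquivOfLe hPH).toEquiv
    have h16 : 16 ∣ Nat.card (Subgroup.centralizer ({sH} : Set (Subgroup.centralizer ({t} : Set G)))) := by
      rw [← hcard16]
      exact Subgroup.card_dvd_of_le hle
    rw [h4_card_cent_model t e sH] at h16
    have hst : g * t * g⁻¹ = t := by
      rcases h4_cent_card (e sH) h16 with h | h
      · exfalso
        rw [← map_one e] at h
        have h5 := congrArg Subtype.val (e.injective h)
        have h6 : g * t * g⁻¹ = 1 := h5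
        apply h4_t_ne t ht
        have h7 : t = g⁻¹ * (g * t * g⁻¹) * g := by group
        rw [h7, h6]; group
      · rw [← h4_e_t t ht e] at h
        exact congrArg Subtype.val (e.injective h)
    rw [Subgroup.mem_centralizer_singleton_iff]
    calc g * t = (g * t * g⁻¹) * g := by group
      _ = t * g := by rw [hst]
  have hNM : Subgroup.normalizer ((P : Subgroup G) : Set G) ≤ M := hNH.trans hHM
  rw [← top_le_iff, ← hfr]
  exact sup_le hNM le_rfl

/-- **P0 (model form).** `O^2(G) = G` and `C_G(t) ≅ M48` imply that `G` is simple. -/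
theorem simple_of_residual_model [Finite G] (hO : Cfsg.pResidual 2 G = ⊤)
    (t : G) (ht : orderOf t = 2)
    (e : Subgroup.centralizer ({t} : Set G) ≃* M48) : IsSimpleGroup G := by
  have hno2 : ∀ M : Subgroup G, M.Normal → M.index ≠ 2 := h3_no_index_two hO
  refine { exists_pair_ne := ⟨t, 1, h4_t_ne t ht⟩, eq_bot_or_eq_top_of_normal := ?_ }
  intro M hM
  by_cases h : M = ⊥
  · exact Or.inl h
  · exact Or.inr (h3_normal_top hno2 t ht e M h)

/-- **P0.** `O^2(G) = G` and `C_G(t) ≅ GL(2,3)` imply that `G` is simple. -/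
theorem simple_of_residual {G : Type*} [Group G] [Finite G] (hO : Cfsg.pResidual 2 G = ⊤)
    (t : G) (ht : orderOf t = 2)
    (e : ↥(Subgroup.centralizer ({t} : Set G)) ≃* Matrix.GeneralLinearGroup (Fin 2) (ZMod 3)) :
    IsSimpleGroup G :=
  simple_of_residual_model hO t ht (e.trans toGL.symm)

end Cfsg.Agent.L33U
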