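import Mathlib
import Cfsg.Agent.S0197
import Cfsg.Agent.L33U.H3_Reduce

/-!
# S2916 (project L33U), piece P0, corollary: `|G| ∈ {5616, 7920}` (helper3)

`O^2(G) = G` and `C_G(t) ≅ GL(2,3)` ⇒ `G` simple (`simple_of_residual`) ⇒ `|G| = 5616 ∨ |G| = 7920`
(`Cfsg.Agent.S0197.result`).
-/

set_option autoImplicit false

namespace Cfsg.Agent.L33U

/-- **P0, corollary.** The order of `G` is `5616` or `7920`. -/
theorem card_of_residual {G : Type*} [Group G] [Finite G] (hO : Cfsg.pResidual 2 G = ⊤)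
    (t : G) (ht : orderOf t = 2)
    (e : ↥(Subgroup.centralizer ({t} : Set G)) ≃* Matrix.GeneralLinearGroup (Fin 2) (ZMod 3)) :
    Nat.card G = 5616 ∨ Nat.card G = 7920 := by
  have : IsSimpleGroup G := simple_of_residual hO t ht e
  exact Cfsg.Agent.S0197.result t ht e

end Cfsg.Agent.L33U
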