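import Mathlib
import Cfsg.Prelude.Def_Characters
import Cfsg.Agent.L33U.Base
import Cfsg.Agent.M11U.H3_Rep

/-!
# S2916 (project L33U), piece P5: the fixed-vector lemma, keeping the fixed vector (helper3)

Variant of `M11U.sup_ne_top_of_char_sums`: if `dR < dK + dS` then `χ` has a nonzero vector fixed by
`K ⊔ S`, i.e. `HasFixed χ (K ⊔ S)`.
-/

set_option autoImplicit false
set_option linter.style.haveILetI false

namespace Cfsg.Agent.L33U

open Cfsg.Agent.M11U Module
open Classical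

universe u

variable {G : Type u} [Group G] [Fintype G]

omit [Fintype G] in
/-- the fixed space of a join contains the intersection of the fixed spaces -/
theorem h3_fixedSpace_sup {n : ℕ} (ρ : Representation ℂ G (Fin n → ℂ)) (K S : Subgroup G) :
    h3_fixedSpace ρ K ⊓ h3_fixedSpace ρ S ≤ h3_fixedSpace ρ (K ⊔ S) := by
  intro v hv
  -- the subgroup fixing `v`
  let F : Subgroup G :=
    { carrier := {g | ρ g v = v}
      one_mem' := by show ρ 1 v = v; rw [map_one]; rfl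
      mul_mem' := by
        intro a b ha hb
        show ρ (a * b) v = v
        rw [map_mul, Module.End.mul_apply, hb, ha]
      inv_mem' := by
        intro a ha
        show ρ a⁻¹ v = v
        have h1 : ρ a⁻¹ (ρ a v) = v := by
          rw [← Module.End.mul_apply, ← map_mul, inv_mul_cancel, map_one]; rfl
        rw [ha] at h1
        exact h1 }
  have hKF : K ≤ F := fun x hx => (h3_mem_fixedSpace ρ K v).1 (Submodule.mem_inf.1 hv).1 x hx
  have hSF : S ≤ F := fun x hx => (h3_mem_fixedSpace ρ S v).1 (Submodule.mem_inf.1 hv).2 x hx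
  have hle : K ⊔ S ≤ F := sup_le hKF hSF
  rw [h3_mem_fixedSpace]
  intro x hx
  exact hle hx

/-- **P5, generic form.** `dR < dK + dS` ⇒ `χ` has a nonzero vector fixed by `K ⊔ S`. -/
theorem hasFixed_sup_of_char_sums (χ : Cfsg.IrrCharacter G)
    (K R S : Subgroup G) (hRK : R ≤ K) (hRS : R ≤ S) (dK dR dS : ℕ)
    (hK : ∑ g : G, (if g ∈ K then (χ : G → ℂ) g else 0) = (dK : ℂ) * (Nat.card K : ℂ))
    (hR : ∑ g : G, (if g ∈ R then (χ : G → ℂ) g else 0) = (dR : ℂ) * (Nat.card R : ℂ))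
    (hS : ∑ g : G, (if g ∈ S then (χ : G → ℂ) g else 0) = (dS : ℂ) * (Nat.card S : ℂ))
    (hlt : dR < dK + dS) : HasFixed χ (K ⊔ S) := by
  obtain ⟨n, ρ, hirr, hρ⟩ := χ.2
  have hfin : ∀ (X : Subgroup G) (d : ℕ),
      ∑ g : G, (if g ∈ X then (χ : G → ℂ) g else 0) = (d : ℂ) * (Nat.card X : ℂ) →
      finrank ℂ (h3_fixedSpace ρ X) = d := by
    intro X d hd
    have h1 := h3_sum_eq_finrank ρ X
    rw [hρ] at h1
    have h1' : (d : ℂ) * (Nat.card X : ℂ) =
        (finrank ℂ (h3_fixedSpace ρ X) : ℂ) * (Nat.card X : ℂ) := by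
      rw [← hd, ← h1]
    have hne : (Nat.card X : ℂ) ≠ 0 := by
      have : 0 < Nat.card X := Nat.card_pos
      exact_mod_cast this.ne'
    have h2 := mul_right_cancel₀ hne h1'
    exact_mod_cast h2.symm
  have fK := hfin K dK hK
  have fR := hfin R dR hR
  have fS := hfin S dS hS
  have hsup : finrank ℂ ↥(h3_fixedSpace ρ K ⊔ h3_fixedSpace ρ S) ≤ dR := by
    rw [← fR]
    exact Submodule.finrank_mono (sup_le (h3_fixedSpace_anti ρ hRK) (h3_fixedSpace_anti ρ hRS))
  have hadd := Submodule.finrank_sup_add_finrank_inf_eq (h3_fixedSpace ρ K) (h3_fixedSpace ρ S)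
  rw [fK, fS] at hadd
  have hpos : 0 < finrank ℂ ↥(h3_fixedSpace ρ K ⊓ h3_fixedSpace ρ S) := by omega
  have hpos2 : 0 < finrank ℂ ↥(h3_fixedSpace ρ (K ⊔ S)) :=
    lt_of_lt_of_le hpos (Submodule.finrank_mono (h3_fixedSpace_sup ρ K S))
  refine ⟨finrank ℂ ↥(h3_fixedSpace ρ (K ⊔ S)), hpos2, ?_⟩
  have h1 := h3_sum_eq_finrank ρ (K ⊔ S)
  rw [hρ] at h1
  rw [← h1]

/-- a vector fixed by a bigger subgroup is fixed by a smaller one -/
theorem h3_hasFixed_mono (χ : Cfsg.IrrCharacter G) {X Y : Subgroup G} (hXY : X ≤ Y)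
    (h : HasFixed χ Y) : HasFixed χ X := by
  obtain ⟨n, ρ, hirr, hρ⟩ := χ.2
  obtain ⟨d, hd0, hd⟩ := h
  have hY : finrank ℂ (h3_fixedSpace ρ Y) = d := by
    have h1 := h3_sum_eq_finrank ρ Y
    rw [hρ] at h1
    have h1' : (d : ℂ) * (Nat.card Y : ℂ) =
        (finrank ℂ (h3_fixedSpace ρ Y) : ℂ) * (Nat.card Y : ℂ) := by
      rw [← hd, ← h1]
    have hne : (Nat.card Y : ℂ) ≠ 0 := by
      have : 0 < Nat.card Y := Nat.card_pos
      exact_mod_cast this.ne'
    have h2 := mul_right_cancel₀ hne h1'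
    exact_mod_cast h2.symm
  have hle : d ≤ finrank ℂ (h3_fixedSpace ρ X) := by
    rw [← hY]
    exact Submodule.finrank_mono (h3_fixedSpace_anti ρ hXY)
  refine ⟨finrank ℂ (h3_fixedSpace ρ X), lt_of_lt_of_le hd0 hle, ?_⟩
  have h1 := h3_sum_eq_finrank ρ X
  rw [hρ] at h1
  rw [← h1]

end Cfsg.Agent.L33U
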