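import Mathlib
import Cfsg.Prelude.Def_Characters
import Cfsg.Agent.L33U.Base
import Cfsg.Agent.Helper6.PermChar
import Cfsg.Agent.Helper6.Induced
import Cfsg.Agent.Helper6.IrrDegree

/-!
# S2916 (project L33U), piece P6, last part: the permutation character on the 13 cosets of `P1`
is `1 + χ_U` (helper3)

General form `h3_perm_char`: if `H` has index 13 in `G`, `χ` is a nontrivial irreducible
character of degree 12 and `∑_{h ∈ H} χ h = d |H|` with `d > 0`, then the permutation character of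
`G` on `G ⧸ H` is `1 + χ`.
-/

set_option autoImplicit false
set_option linter.style.haveILetI false

namespace Cfsg.Agent.L33U

open Cfsg.Agent.S0197 Cfsg.Agent.Helper6
open scoped ComplexConjugate

universe u

variable {G : Type u} [Group G] [Fintype G]

/-- the permutation character on the cosets of a subgroup `H` of index 13 with a `χ`-fixed vector,
`χ` irreducible of degree 12 -/
theorem h3_perm_char (H : Subgroup G) (χ : Cfsg.IrrCharacter G)
    (hχ1 : (χ : G → ℂ) 1 = 12) (hne : χ ≠ Cfsg.Agent.S0197.trivIrr G)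
    (h13 : H.index = 13) (hfix : HasFixed χ H) (g : G) :
    (Nat.card (MulAction.fixedBy (G ⧸ H) g) : ℂ) = 1 + (χ : G → ℂ) g := by
  classical
  haveI : Finite (Cfsg.IrrCharacter G) := irr_finite
  haveI : Fintype (Cfsg.IrrCharacter G) := Fintype.ofFinite _
  haveI : Fintype H := Fintype.ofFinite H
  set π : G → ℂ := fun g => (Nat.card (MulAction.fixedBy (G ⧸ H) g) : ℂ) with hπ
  have hstab : MulAction.stabilizer G ((1 : G) : G ⧸ H) = H := MulAction.stabilizer_quotient H
  have hπind : π = Cfsg.indFun H (fun _ => 1) := by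
    have := permChar_eq_indFun (G := G) (G ⧸ H) ((1 : G) : G ⧸ H)
    rw [hstab] at this
    exact this
  have hπcf : Cfsg.IsClassFunction G π := by
    rw [hπind]; exact indFun_isClassFunction H _
  have hcardH : (Nat.card H : ℂ) ≠ 0 := by
    have : 0 < Nat.card H := Nat.card_pos
    exact_mod_cast this.ne'
  -- the multiplicities
  have hmult : ∀ θ : Cfsg.IrrCharacter G, Cfsg.classInner π (θ : G → ℂ) =
      Cfsg.classInner (fun _ : H => (1 : ℂ)) (fun h : H => (θ : G → ℂ) h) := by
    intro θ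
    rw [hπind]
    exact frobenius_reciprocity H _ _ (IsCharacter.isClassFunction (IsIrrCharacter.isCharacter θ.2))
  have hnat : ∀ θ : Cfsg.IrrCharacter G, ∃ n : ℕ, Cfsg.classInner π (θ : G → ℂ) = n := by
    intro θ
    rw [hmult θ]
    exact classInner_char_char_nat isCharacter_one
      (IsCharacter.restrict H (IsIrrCharacter.isCharacter θ.2))
  choose n hn using hnat
  -- multiplicity of the trivial character
  have hn1 : n (Cfsg.Agent.S0197.trivIrr G) = 1 := by
    have h1 : Cfsg.classInner π ((Cfsg.Agent.S0197.trivIrr G : Cfsg.IrrCharacter G) : G → ℂ) = 1 := by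
      rw [hmult, classInner_def]
      have : ∑ h : H, (1 : ℂ) * conj (((Cfsg.Agent.S0197.trivIrr G : Cfsg.IrrCharacter G) : G → ℂ) (h : G)) =
          (Nat.card H : ℂ) := by
        have h2 : ∀ h : H, (1 : ℂ) * conj (((Cfsg.Agent.S0197.trivIrr G : Cfsg.IrrCharacter G) : G → ℂ) (h : G)) = 1 := by
          intro h
          show (1 : ℂ) * conj (1 : ℂ) = 1
          simp
        simp_rw [h2]
        rw [Finset.sum_const, Finset.card_univ, Nat.card_eq_fintype_card]
        simp
      rw [this, inv_mul_cancel₀ hcardH]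
    rw [hn] at h1
    exact_mod_cast h1
  -- multiplicity of `χ`
  obtain ⟨d, hd0, hd⟩ := hfix
  have hnχ : n χ = d := by
    have h1 : Cfsg.classInner π (χ : G → ℂ) = d := by
      rw [hmult, classInner_def]
      have hsumX : ∑ g : G, (if g ∈ H then (χ : G → ℂ) g else 0) = ∑ h : H, (χ : G → ℂ) (h : G) := by
        rw [← Finset.sum_filter]
        exact Finset.sum_subtype (Finset.univ.filter (fun g => g ∈ H)) (by simp) _
      have : ∑ h : H, (1 : ℂ) * conj ((χ : G → ℂ) (h : G)) = conj ((d : ℂ) * (Nat.card H : ℂ)) := by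
        rw [← hd, hsumX, map_sum]
        apply Finset.sum_congr rfl
        intro h _
        rw [one_mul]
      rw [this, map_mul, Complex.conj_natCast, Complex.conj_natCast]
      field_simp
    rw [hn] at h1
    exact_mod_cast h1
  -- degrees
  have hdeg : ∀ θ : Cfsg.IrrCharacter G, ∃ m : ℕ, (θ : G → ℂ) 1 = m ∧ 0 < m := by
    intro θ
    obtain ⟨m, hm0, hm⟩ := IsIrrCharacter.apply_one_pos θ.2
    exact ⟨m, hm, hm0⟩
  choose deg hdeg hdegpos using hdeg
  -- the expansion of `π`
  have hexp := classFunction_expansion π hπcf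
  have hexp1 : ∀ y : G, π y = ∑ θ : Cfsg.IrrCharacter G, (n θ : ℂ) * (θ : G → ℂ) y := by
    intro y
    have := congrFun hexp y
    rw [Finset.sum_apply] at this
    rw [this]
    apply Finset.sum_congr rfl
    intro θ _
    rw [Pi.smul_apply, smul_eq_mul, hn]
  -- value at `1`
  have hπ1 : π 1 = 13 := by
    show (Nat.card (MulAction.fixedBy (G ⧸ H) (1 : G)) : ℂ) = 13
    have : MulAction.fixedBy (G ⧸ H) (1 : G) = Set.univ := by
      ext x; simp
    rw [this, Nat.card_coe_set_eq, Set.ncard_univ, ← Subgroup.index_eq_card, h13]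
    norm_num
  have hsumnat : ∑ θ : Cfsg.IrrCharacter G, n θ * deg θ = 13 := by
    have h1 := hexp1 1
    rw [hπ1] at h1
    have h2 : ∑ θ : Cfsg.IrrCharacter G, (n θ : ℂ) * (θ : G → ℂ) 1 =
        ((∑ θ : Cfsg.IrrCharacter G, n θ * deg θ : ℕ) : ℂ) := by
      rw [Nat.cast_sum]
      apply Finset.sum_congr rfl
      intro θ _
      rw [hdeg θ, Nat.cast_mul]
    rw [h2] at h1
    exact_mod_cast h1.symm
  have hdegχ : deg χ = 12 := by
    have := hdeg χ
    rw [hχ1] at this
    exact_mod_cast this.symm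
  have hdeg1 : deg (Cfsg.Agent.S0197.trivIrr G) = 1 := by
    have := hdeg (Cfsg.Agent.S0197.trivIrr G)
    have h1 : ((Cfsg.Agent.S0197.trivIrr G : Cfsg.IrrCharacter G) : G → ℂ) 1 = 1 := rfl
    rw [h1] at this
    exact_mod_cast this.symm
  -- split the sum
  have hsplit : ∑ θ : Cfsg.IrrCharacter G, n θ * deg θ =
      n (Cfsg.Agent.S0197.trivIrr G) * deg (Cfsg.Agent.S0197.trivIrr G) + (n χ * deg χ +
        ∑ θ ∈ (Finset.univ.erase (Cfsg.Agent.S0197.trivIrr G)).erase χ, n θ * deg θ) := by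
    rw [← Finset.add_sum_erase Finset.univ _ (Finset.mem_univ (Cfsg.Agent.S0197.trivIrr G))]
    rw [← Finset.add_sum_erase (Finset.univ.erase (Cfsg.Agent.S0197.trivIrr G)) _
      (Finset.mem_erase.mpr ⟨hne, Finset.mem_univ χ⟩)]
  rw [hsplit, hn1, hnχ, hdegχ, hdeg1] at hsumnat
  have hd1 : d = 1 := by
    have : 0 ≤ ∑ θ ∈ (Finset.univ.erase (Cfsg.Agent.S0197.trivIrr G)).erase χ, n θ * deg θ := Nat.zero_le _
    nlinarith
  have hrest : ∑ θ ∈ (Finset.univ.erase (Cfsg.Agent.S0197.trivIrr G)).erase χ, n θ * deg θ = 0 := by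
    rw [hd1] at hsumnat
    omega
  have hzero : ∀ θ ∈ (Finset.univ.erase (Cfsg.Agent.S0197.trivIrr G)).erase χ, n θ = 0 := by
    intro θ hθ
    have := (Finset.sum_eq_zero_iff.mp hrest) θ hθ
    rcases Nat.mul_eq_zero.mp this with h | h
    · exact h
    · exact absurd h (hdegpos θ).ne'
  -- conclude
  show π g = 1 + (χ : G → ℂ) g
  rw [hexp1 g]
  rw [← Finset.add_sum_erase Finset.univ _ (Finset.mem_univ (Cfsg.Agent.S0197.trivIrr G))]
  rw [← Finset.add_sum_erase (Finset.univ.erase (Cfsg.Agent.S0197.trivIrr G)) _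
    (Finset.mem_erase.mpr ⟨hne, Finset.mem_univ χ⟩)]
  rw [Finset.sum_eq_zero (s := (Finset.univ.erase (Cfsg.Agent.S0197.trivIrr G)).erase χ), hn1, hnχ, hd1]
  · have h1 : ((Cfsg.Agent.S0197.trivIrr G : Cfsg.IrrCharacter G) : G → ℂ) g = 1 := rfl
    rw [h1]; simp
  · intro θ hθ
    rw [hzero θ hθ]; simp

/-- **P6, last part.** The permutation character on the 13 cosets of `P1` is `1 + χ_U`. -/
theorem perm_char (C : Ctx G) (T : Table C) (K : Cfg C) (h13 : K.P1.index = 13)
    (hfix : HasFixed T.xU K.P1) (g : G) :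
    (Nat.card (MulAction.fixedBy (G ⧸ K.P1) g) : ℂ) = 1 + (T.xU : G → ℂ) g := by
  refine h3_perm_char K.P1 T.xU T.hU.1 ?_ h13 hfix g
  intro h
  have hnd := T.hnd
  rw [List.nodup_cons] at hnd
  apply hnd.1
  rw [h]
  simp

end Cfsg.Agent.L33U
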