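import Mathlib
import Cfsg.Prelude.Def_Characters
import Cfsg.Agent.L33U.Base

/-!
# S2916 (project L33U), shared lemma for P7 / P8: `∑ π = |G|`, `∑ π² = 2 |G|` (helper3)

If the number of fixed points of `g` on `Ω` is `1 + χ g` for a nontrivial irreducible character
`χ`, then `∑_g π g = |G|` and `∑_g (π g)² = 2 |G|` (as natural numbers).
Also: `h3_sum_char` (`∑_g χ g = 0`), `h3_sum_char_sq` (`∑_g χ g * conj (χ g) = |G|`).
-/

set_option autoImplicit false

namespace Cfsg.Agent.L33U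

open Cfsg.Agent.S0197 Cfsg.Agent.Helper6
open scoped ComplexConjugate

universe u

variable {G : Type u} [Group G] [Fintype G]

theorem h3_card_ne_zero : (Nat.card G : ℂ) ≠ 0 := by
  have : 0 < Nat.card G := Nat.card_pos
  exact_mod_cast this.ne'

/-- a nontrivial irreducible character sums to zero -/
theorem h3_sum_char (χ : Cfsg.IrrCharacter G) (hne : χ ≠ Cfsg.Agent.S0197.trivIrr G) :
    ∑ g : G, (χ : G → ℂ) g = 0 := by
  have h := classInner_irr_ne χ.2 (Cfsg.Agent.S0197.trivIrr G).2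
    (fun h => hne (Subtype.ext h))
  rw [classInner_def] at h
  have h2 : ∑ g : G, (χ : G → ℂ) g *
      conj (((Cfsg.Agent.S0197.trivIrr G : Cfsg.IrrCharacter G) : G → ℂ) g) = 0 := by
    rcases mul_eq_zero.mp h with h | h
    · exact absurd (inv_eq_zero.mp h) h3_card_ne_zero
    · exact h
  rw [← h2]
  apply Finset.sum_congr rfl
  intro g _
  show (χ : G → ℂ) g = (χ : G → ℂ) g * conj (1 : ℂ)
  simp

/-- the norm of an irreducible character -/
theorem h3_sum_char_sq (χ : Cfsg.IrrCharacter G) :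
    ∑ g : G, (χ : G → ℂ) g * conj ((χ : G → ℂ) g) = (Nat.card G : ℂ) := by
  have h := classInner_irr_self χ.2
  rw [classInner_def] at h
  have := congrArg (fun z => (Nat.card G : ℂ) * z) h
  simp only [mul_one] at this
  rw [← mul_assoc, mul_inv_cancel₀ h3_card_ne_zero, one_mul] at this
  exact this

/-- **Shared by P7 and P8.** `∑ π = |G|` and `∑ π² = 2 |G|`. -/
theorem h3_pi_sums (χ : Cfsg.IrrCharacter G) (hne : χ ≠ Cfsg.Agent.S0197.trivIrr G)
    {Ω : Type*} [MulAction G Ω]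
    (hπ : ∀ g : G, (Nat.card (MulAction.fixedBy Ω g) : ℂ) = 1 + (χ : G → ℂ) g) :
    ∑ g : G, Nat.card (MulAction.fixedBy Ω g) = Nat.card G ∧
      ∑ g : G, (Nat.card (MulAction.fixedBy Ω g)) ^ 2 = 2 * Nat.card G := by
  have hcardG : ∑ _g : G, (1 : ℂ) = (Nat.card G : ℂ) := by
    rw [Finset.sum_const, Finset.card_univ, Nat.card_eq_fintype_card]; simp
  have hconj : ∑ g : G, conj ((χ : G → ℂ) g) = 0 := by
    rw [← map_sum, h3_sum_char χ hne, map_zero]
  constructor
  · have h1 : ((∑ g : G, Nat.card (MulAction.fixedBy Ω g) : ℕ) : ℂ) = (Nat.card G : ℂ) := by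
      rw [Nat.cast_sum]
      simp_rw [hπ]
      rw [Finset.sum_add_distrib, h3_sum_char χ hne, add_zero, hcardG]
    exact_mod_cast h1
  · have h1 : ((∑ g : G, (Nat.card (MulAction.fixedBy Ω g)) ^ 2 : ℕ) : ℂ) =
        ((2 * Nat.card G : ℕ) : ℂ) := by
      rw [Nat.cast_sum]
      have h2 : ∀ g : G, (((Nat.card (MulAction.fixedBy Ω g)) ^ 2 : ℕ) : ℂ) =
          1 + (χ : G → ℂ) g + conj ((χ : G → ℂ) g) + (χ : G → ℂ) g * conj ((χ : G → ℂ) g) := by
        intro g
        have h3 : (((Nat.card (MulAction.fixedBy Ω g)) ^ 2 : ℕ) : ℂ) =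
            (Nat.card (MulAction.fixedBy Ω g) : ℂ) * conj (Nat.card (MulAction.fixedBy Ω g) : ℂ) := by
          rw [Complex.conj_natCast]; push_cast; ring
        rw [h3, hπ g, map_add, map_one]
        ring
      simp_rw [h2]
      rw [Finset.sum_add_distrib, Finset.sum_add_distrib, Finset.sum_add_distrib,
        h3_sum_char χ hne, hconj, h3_sum_char_sq, hcardG]
      push_cast; ring
    exact_mod_cast h1

/-- the form for the table: `χ = T.xU` -/
theorem h3_xU_ne (C : Ctx G) (T : Table C) : T.xU ≠ Cfsg.Agent.S0197.trivIrr G := by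
  intro h
  have hnd := T.hnd
  rw [List.nodup_cons] at hnd
  apply hnd.1
  rw [h]
  simp

theorem pi_sums (C : Ctx G) (T : Table C) {Ω : Type*} [MulAction G Ω]
    (hπ : ∀ g : G, (Nat.card (MulAction.fixedBy Ω g) : ℂ) = 1 + (T.xU : G → ℂ) g) :
    ∑ g : G, Nat.card (MulAction.fixedBy Ω g) = Nat.card G ∧
      ∑ g : G, (Nat.card (MulAction.fixedBy Ω g)) ^ 2 = 2 * Nat.card G :=
  h3_pi_sums T.xU (h3_xU_ne C T) hπ

end Cfsg.Agent.L33U
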