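import Mathlib
import Cfsg.Agent.L33U.Base
import Cfsg.Agent.Helper6.ColumnOrth

/-!
# S2916, 5616 branch, second half of P3 (helper4): `|C_G(x)| = 54` from the values at `x`

Column orthogonality at `(x, x)`: `1 + 9 + 16 + 1 + 1 + 1 + 0 + 9 + 4 · 4 = 54`.
-/

set_option autoImplicit false
set_option linter.style.haveILetI false

namespace Cfsg.Agent.L33U

open Cfsg.Agent.S0197 Cfsg.Agent.Helper6 Cfsg.Agent.Helper6.H72
open scoped ComplexConjugate

universe u

variable {G : Type u} [Group G] [Fintype G]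

theorem h4_card_centralizer_of_values (C : Ctx G) (T : Table C)
    (hv : (T.xU : G → ℂ) C.x = 3 ∧ (T.xV : G → ℂ) C.x = 4 ∧ (T.xP : G → ℂ) C.x = -1 ∧
      (T.xQ : G → ℂ) C.x = -1 ∧ (T.xS : G → ℂ) C.x = -1 ∧ (T.xR : G → ℂ) C.x = 0 ∧
      (T.xE : G → ℂ) C.x = 3 ∧
      (∀ χ : Cfsg.IrrCharacter G,
        χ ∉ [Cfsg.Agent.S0197.trivIrr G, T.xU, T.xV, T.xP, T.xQ, T.xS, T.xR, T.xE] →
        (χ : G → ℂ) C.x = -2)) :
    Nat.card (Subgroup.centralizer ({C.x} : Set G)) = 54 := by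
  classical
  haveI : Finite (Cfsg.IrrCharacter G) := irr_finite
  haveI : Fintype (Cfsg.IrrCharacter G) := Fintype.ofFinite _
  obtain ⟨vU, vV, vP, vQ, vS, vR, vE, vO⟩ := hv
  have hco := column_orthogonality_aux C.x C.x
  rw [if_pos (IsConj.refl _)] at hco
  set L : List (Cfsg.IrrCharacter G) :=
    [Cfsg.Agent.S0197.trivIrr G, T.xU, T.xV, T.xP, T.xQ, T.xS, T.xR, T.xE] with hL
  have hsplit := Finset.sum_add_sum_compl L.toFinset
    (fun χ : Cfsg.IrrCharacter G => (χ : G → ℂ) C.x * conj ((χ : G → ℂ) C.x))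
  have htriv : ((Cfsg.Agent.S0197.trivIrr G : Cfsg.IrrCharacter G) : G → ℂ) C.x = 1 := rfl
  have h1 : ∑ χ ∈ L.toFinset, (χ : G → ℂ) C.x * conj ((χ : G → ℂ) C.x) = 38 := by
    rw [List.sum_toFinset _ T.hnd]
    simp only [List.map_cons, List.map_nil, List.sum_cons, List.sum_nil, htriv, vU, vV, vP, vQ,
      vS, vR, vE]
    simp only [map_one, map_neg, map_zero, map_ofNat]
    norm_num
  have hcardL : L.toFinset.card = 8 := by
    rw [List.toFinset_card_of_nodup T.hnd]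
    rfl
  have hcardc : (L.toFinsetᶜ).card = 4 := by
    rw [Finset.card_compl, hcardL, ← Nat.card_eq_fintype_card, T.hcard]
  have h2 : ∑ χ ∈ L.toFinsetᶜ, (χ : G → ℂ) C.x * conj ((χ : G → ℂ) C.x) = 16 := by
    have : ∀ χ ∈ L.toFinsetᶜ, (χ : G → ℂ) C.x * conj ((χ : G → ℂ) C.x) = 4 := by
      intro χ hχ
      rw [Finset.mem_compl, List.mem_toFinset] at hχ
      rw [vO χ hχ]
      simp only [map_neg, map_ofNat]
      norm_num
    rw [Finset.sum_congr rfl this, Finset.sum_const, hcardc]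
    norm_num
  rw [h1, h2] at hsplit
  have h3 : ((Nat.card (Subgroup.centralizer ({C.x} : Set G)) : ℕ) : ℂ) = ((54 : ℕ) : ℂ) := by
    rw [← hco, ← hsplit]
    norm_num
  exact_mod_cast h3

end Cfsg.Agent.L33U
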