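import Mathlib
import Cfsg.Agent.L33U.Base
import Cfsg.Agent.Helper6.ColumnOrth

/-!
# S2916, 5616 branch, piece P7 (helper4): fixed points of the 3-elements

`π = 1 + χ_U` is the permutation character on 13 points.  `q = π² - π = χ_U (χ_U + 1)` is a
nonnegative integer valued class function with `∑_G q = |G| = 5616`.  On the `117 · 27` elements
conjugate into the singular set `A` of `N = C(t)` it sums to `117 · 36 = 4212` (induced class
function + Frobenius reciprocity), at `1` it is `156`, on the class of `x` (104 elements) it is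
`12`: total `5616`.  So `q = 0`, i.e. `π ≤ 1`, everywhere else, in particular at every nonidentity
3-element not conjugate to `x`.
-/

set_option autoImplicit false
set_option linter.style.haveILetI false

namespace Cfsg.Agent.L33U

open Cfsg.Agent.S0197 Cfsg.Agent.Helper6 Cfsg.Agent.Helper6.H72
open scoped ComplexConjugate

universe u

/-- `π² - π` on the singular classes of the model -/
def h4_qM (m : M48) : ℤ := if cT m then 20 else if c6 m then 2 else 0

theorem h4_qM_van : ∀ m : M48, sing m = false → h4_qM m = 0 := by decide +kernel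

theorem h4_qM_cf (m c : M48) : h4_qM (c * m * c⁻¹) = h4_qM m := by
  unfold h4_qM
  rw [cT_conj, c6_conj]

theorem h4_sum_qM : ∑ m : M48, h4_qM m = 36 := by decide +kernel

theorem h4_qM_cases : ∀ m : M48, sing m = true →
    (cT m = true ∧ h4_qM m = 20) ∨ (c6 m = true ∧ h4_qM m = 2) ∨ (c4 m = true ∧ h4_qM m = 0) ∨
    (c8a m = true ∧ h4_qM m = 0) ∨ (c8b m = true ∧ h4_qM m = 0) := by decide +kernel

theorem h4_sing_pow : ∀ m : M48, sing m = true → ∃ j : ℕ, m ^ j = tt := by
  intro m hm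
  rcases (sing_iff_pow m).mp hm with h | h | h | h
  · exact ⟨1, by rw [pow_one, h]⟩
  · exact ⟨2, h⟩
  · exact ⟨3, h⟩
  · exact ⟨4, h⟩

variable {G : Type u} [Group G] [Fintype G]

/-- the elements conjugate into the singular set -/
def h4_E (C : Ctx G) : Set G := {g | ∃ z : G, z⁻¹ * g * z ∈ C.S.A}

/-- a 3-element is not conjugate into the singular set -/
theorem h4_not_mem_E (C : Ctx G) (g : G) (hg : ∃ k : ℕ, g ^ 3 ^ k = 1) : g ∉ h4_E C := by
  rintro ⟨z, m, hm, hz⟩
  obtain ⟨k, hk⟩ := hg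
  obtain ⟨j, hj⟩ := h4_sing_pow m hm
  have h1 : (C.S.ι m) ^ 3 ^ k = 1 := by
    rw [hz]
    have : (z⁻¹ * g * z) ^ 3 ^ k = z⁻¹ * g ^ 3 ^ k * z := by
      have := conj_pow (a := z⁻¹) (b := g) (i := 3 ^ k)
      rwa [inv_inv] at this
    rw [this, hk]
    group
  have h2 : (C.S.ι tt) ^ 3 ^ k = 1 := by
    rw [← hj, map_pow, ← pow_mul, mul_comm, pow_mul, h1, one_pow]
  have h3 : (C.S.ι tt) ^ 2 = 1 := by
    rw [← map_pow, sq, tt_mul_self, map_one]
  have hcop : Nat.Coprime (3 ^ k) 2 := by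
    apply Nat.Coprime.pow_left
    decide
  have h4 : orderOf (C.S.ι tt) ∣ 1 := by
    have := Nat.dvd_gcd (orderOf_dvd_of_pow_eq_one h2) (orderOf_dvd_of_pow_eq_one h3)
    rwa [hcop] at this
  have h5 : C.S.ι tt = 1 := orderOf_eq_one_iff.mp (Nat.dvd_one.mp h4)
  exact tt_ne_one ((C.S.ι_eq_one_iff tt).mp h5)

/-- `χ (χ + 1)` for `χ = χ_U` on the singular set of the model -/
theorem h4_val_ι (C : Ctx G) (T : Table C) (m : M48) (hm : sing m = true) :
    (T.xU : G → ℂ) (C.S.ι m) * ((T.xU : G → ℂ) (C.S.ι m) + 1) = (h4_qM m : ℂ) := by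
  obtain ⟨hT, hR, h4, h6, h8a, h8b, -⟩ := value_of_class C T.xU m
  obtain ⟨-, u2, u4, u6, u8a, u8b⟩ := T.hU
  rcases h4_qM_cases m hm with ⟨h, hq⟩ | ⟨h, hq⟩ | ⟨h, hq⟩ | ⟨h, hq⟩ | ⟨h, hq⟩
  · rw [hT h, u2, hq]; norm_num
  · rw [h6 h, u6, hq]; norm_num
  · rw [h4 h, u4, hq]; norm_num
  · rw [h8a h, u8a, hq]; norm_num
  · rw [h8b h, u8b, hq]; norm_num

/-- the induced class function is `χ (χ + 1)` on `E` and `0` off `E` -/
theorem h4_Theta_apply (C : Ctx G) (T : Table C) (g : G) [Decidable (g ∈ h4_E C)] :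
    C.S.Theta h4_qM g =
      if g ∈ h4_E C then (T.xU : G → ℂ) g * ((T.xU : G → ℂ) g + 1) else 0 := by
  split_ifs with hg
  · obtain ⟨z, m, hm, hz⟩ := hg
    have hcf := C.S.Theta_isClassFunction h4_qM g z⁻¹
    rw [inv_inv] at hcf
    rw [← hcf, ← hz, C.S.Theta_apply_ι h4_qM h4_qM_van h4_qM_cf m hm, ← h4_val_ι C T m hm, hz]
    have hχ := IsCharacter.isClassFunction (IsIrrCharacter.isCharacter T.xU.2) g z⁻¹
    rw [inv_inv] at hχ
    rw [hχ]
  · apply C.S.Theta_eq_zero h4_qM h4_qM_van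
    intro z hz
    exact hg ⟨z, hz⟩

/-- the sum of the induced class function -/
theorem h4_sum_Theta (C : Ctx G) : ∑ g : G, C.S.Theta h4_qM g = 4212 := by
  have h := C.S.classInner_Theta_one h4_qM
  unfold Cfsg.classInner at h
  rw [C.card, card_M48, h4_sum_qM] at h
  simp only [map_one, mul_one] at h
  have h2 : ((5616 : ℕ) : ℂ) ≠ 0 := by norm_num
  have h3 : ∑ g : G, C.S.Theta h4_qM g = ((5616 : ℕ) : ℂ) * ((((48 : ℕ) : ℂ))⁻¹ * ((36 : ℤ) : ℂ)) := by
    rw [← h, ← mul_assoc, mul_inv_cancel₀ h2, one_mul]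
  rw [h3]
  norm_num

/-- a nontrivial irreducible character sums to zero -/
theorem h4_sum_chi (C : Ctx G) (T : Table C) : ∑ g : G, (T.xU : G → ℂ) g = 0 := by
  have hne : (T.xU : G → ℂ) ≠ fun _ => (1 : ℂ) := by
    intro h
    have := congrFun h 1
    rw [T.hU.1] at this
    norm_num at this
  have h := classInner_irr_ne T.xU.2 isIrrCharacter_one hne
  unfold Cfsg.classInner at h
  simp only [map_one, mul_one] at h
  have hG : (Nat.card G : ℂ) ≠ 0 := by rw [C.card]; norm_num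
  rcases mul_eq_zero.mp h with h | h
  · exact absurd (inv_eq_zero.mp h) hG
  · exact h

/-- the norm of a real valued irreducible character -/
theorem h4_sum_chi_sq (C : Ctx G) (T : Table C)
    (hreal : ∀ g, conj ((T.xU : G → ℂ) g) = (T.xU : G → ℂ) g) :
    ∑ g : G, (T.xU : G → ℂ) g * (T.xU : G → ℂ) g = 5616 := by
  have h := classInner_irr_self T.xU.2
  unfold Cfsg.classInner at h
  rw [C.card] at h
  have h2 : ∑ g : G, (T.xU : G → ℂ) g * conj ((T.xU : G → ℂ) g) =
      ∑ g : G, (T.xU : G → ℂ) g * (T.xU : G → ℂ) g :=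
    Finset.sum_congr rfl (fun g _ => by rw [hreal])
  rw [h2] at h
  have h3 : ((5616 : ℕ) : ℂ) ≠ 0 := by norm_num
  have h4 : ∑ g : G, (T.xU : G → ℂ) g * (T.xU : G → ℂ) g = ((5616 : ℕ) : ℂ) * 1 := by
    rw [← h, ← mul_assoc, mul_inv_cancel₀ h3, one_mul]
  rw [h4]
  norm_num

/-- **P7.**  A nonidentity 3-element is conjugate to `x` and fixes exactly four points, or is not
conjugate to `x` and fixes at most one point. -/
theorem fix_three (C : Ctx G) (T : Table C) (hx : (T.xU : G → ℂ) C.x = 3)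
    (h54 : Nat.card (Subgroup.centralizer ({C.x} : Set G)) = 54)
    {Ω : Type*} [Fintype Ω] [DecidableEq Ω] [MulAction G Ω] [FaithfulSMul G Ω]
    (hΩ : Fintype.card Ω = 13)
    (hπ : ∀ g : G, (Nat.card (MulAction.fixedBy Ω g) : ℂ) = 1 + (T.xU : G → ℂ) g)
    (y : G) (hy : ∃ k : ℕ, y ^ 3 ^ k = 1) (hy1 : y ≠ 1) :
    (IsConj C.x y ∧ Nat.card (MulAction.fixedBy Ω y) = 4) ∨
      (¬ IsConj C.x y ∧ Nat.card (MulAction.fixedBy Ω y) ≤ 1) := by
  classical
  -- the class of `x`
  have hfour : ∀ g : G, IsConj C.x g → Nat.card (MulAction.fixedBy Ω g) = 4 := by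
    intro g hc
    have h1 := hπ g
    rw [← char_conj T.xU hc, hx] at h1
    have : ((Nat.card (MulAction.fixedBy Ω g) : ℕ) : ℂ) = ((4 : ℕ) : ℂ) := by
      rw [h1]; norm_num
    exact_mod_cast this
  by_cases hc : IsConj C.x y
  · exact Or.inl ⟨hc, hfour y hc⟩
  right
  refine ⟨hc, ?_⟩
  set p : G → ℕ := fun g => Nat.card (MulAction.fixedBy Ω g) with hp
  have hχ : ∀ g, (T.xU : G → ℂ) g = (p g : ℂ) - 1 := by
    intro g
    rw [show (p g : ℂ) = 1 + (T.xU : G → ℂ) g from hπ g]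
    ring
  have hreal : ∀ g, conj ((T.xU : G → ℂ) g) = (T.xU : G → ℂ) g := by
    intro g
    rw [hχ g, map_sub, Complex.conj_natCast, map_one]
  have hq : ∀ g, ((p g * (p g - 1) : ℕ) : ℂ) =
      (T.xU : G → ℂ) g * ((T.xU : G → ℂ) g + 1) := by
    intro g
    rw [hχ g]
    rcases Nat.eq_zero_or_pos (p g) with h0 | h0
    · rw [h0]; simp
    · rw [Nat.cast_mul, Nat.cast_sub h0]
      push_cast
      ring
  -- the total sum
  have htot : ∑ g : G, p g * (p g - 1) = 5616 := by
    have h1 : ∑ g : G, ((p g * (p g - 1) : ℕ) : ℂ) = 5616 := by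
      rw [Finset.sum_congr rfl (fun g _ => hq g)]
      have h2 : ∀ g : G, (T.xU : G → ℂ) g * ((T.xU : G → ℂ) g + 1) =
          (T.xU : G → ℂ) g * (T.xU : G → ℂ) g + (T.xU : G → ℂ) g := fun g => by ring
      rw [Finset.sum_congr rfl (fun g _ => h2 g), Finset.sum_add_distrib, h4_sum_chi_sq C T hreal,
        h4_sum_chi C T, add_zero]
    have h3 : ((∑ g : G, p g * (p g - 1) : ℕ) : ℂ) = ((5616 : ℕ) : ℂ) := by
      rw [Nat.cast_sum, h1]; norm_num
    exact_mod_cast h3
  -- the part conjugate into the singular set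
  set FE : Finset G := Finset.univ.filter (fun g => g ∈ h4_E C) with hFE
  have hE : ∑ g ∈ FE, p g * (p g - 1) = 4212 := by
    have h1 : ∑ g : G, (if g ∈ h4_E C then ((p g * (p g - 1) : ℕ) : ℂ) else 0) = 4212 := by
      rw [← h4_sum_Theta C]
      apply Finset.sum_congr rfl
      intro g _
      rw [h4_Theta_apply C T g, hq g]
    rw [← Finset.sum_filter] at h1
    have h3 : ((∑ g ∈ FE, p g * (p g - 1) : ℕ) : ℂ) = ((4212 : ℕ) : ℂ) := by
      rw [Nat.cast_sum, h1]; norm_num
    exact_mod_cast h3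
  -- the class of `x`
  set FK : Finset G := Finset.univ.filter (fun g => IsConj C.x g) with hFK
  have hKcard : FK.card = 104 := by
    have h1 := card_conj_mul_card_centralizer C.x
    rw [h54, C.card, Nat.card_eq_fintype_card, Fintype.card_subtype] at h1
    have : (Finset.univ.filter (fun g => IsConj C.x g)).card * 54 = 104 * 54 := by
      rw [h1]
    exact Nat.eq_of_mul_eq_mul_right (by norm_num) this
  have hK : ∑ g ∈ FK, p g * (p g - 1) = 1248 := by
    have h1 : ∀ g ∈ FK, p g * (p g - 1) = 12 := by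
      intro g hg
      have h2 : p g = 4 := hfour g (Finset.mem_filter.mp hg).2
      rw [h2]
    rw [Finset.sum_congr rfl h1, Finset.sum_const, hKcard]
    rfl
  -- the identity
  have hone : p 1 * (p 1 - 1) = 156 := by
    have h1 := hπ 1
    rw [T.hU.1] at h1
    have h2 : ((p 1 : ℕ) : ℂ) = ((13 : ℕ) : ℂ) := by
      rw [show ((p 1 : ℕ) : ℂ) = 1 + 12 from h1]; norm_num
    have h3 : p 1 = 13 := by exact_mod_cast h2
    rw [h3]
  -- disjointness
  have hx3 : C.x ^ 3 = 1 := by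
    have h := x3_facts.2.1
    show (C.S.ι x3) ^ 3 = 1
    rw [← map_pow, pow_succ, pow_two, h, map_one]
  have hxne : C.x ≠ 1 := by
    intro h
    exact x3_facts.2.2.1 ((C.S.ι_eq_one_iff x3).mp h)
  have hKE : ∀ g ∈ FK, g ∉ FE := by
    intro g hg hgE
    obtain ⟨c, hcg⟩ := isConj_iff.mp (Finset.mem_filter.mp hg).2
    refine h4_not_mem_E C g ⟨1, ?_⟩ (Finset.mem_filter.mp hgE).2
    rw [pow_one, ← hcg, conj_pow, hx3]
    group
  have h1E : (1 : G) ∉ FE := fun h =>
    h4_not_mem_E C 1 ⟨0, by simp⟩ (Finset.mem_filter.mp h).2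
  have h1K : (1 : G) ∉ FK := by
    intro h
    obtain ⟨c, hcg⟩ := isConj_iff.mp (Finset.mem_filter.mp h).2
    apply hxne
    have : C.x = c⁻¹ * 1 * c := by rw [← hcg]; group
    rw [this]; group
  have hyE : y ∉ FE := fun h => h4_not_mem_E C y hy (Finset.mem_filter.mp h).2
  have hyK : y ∉ FK := fun h => hc (Finset.mem_filter.mp h).2
  have hdisj : Disjoint FE FK := by
    rw [Finset.disjoint_right]
    exact hKE
  have h1U : (1 : G) ∉ FE ∪ FK := by
    rw [Finset.mem_union]; rintro (h | h)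
    · exact h1E h
    · exact h1K h
  have hyU : y ∉ insert (1 : G) (FE ∪ FK) := by
    rw [Finset.mem_insert, Finset.mem_union]; rintro (h | h | h)
    · exact hy1 h
    · exact hyE h
    · exact hyK h
  have hle := Finset.sum_le_sum_of_subset (f := fun g => p g * (p g - 1))
    (Finset.subset_univ (insert y (insert (1 : G) (FE ∪ FK))))
  rw [Finset.sum_insert hyU, Finset.sum_insert h1U, Finset.sum_union hdisj, hE, hK, hone,
    htot] at hle
  have h0 : p y * (p y - 1) = 0 := by omega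
  rcases Nat.mul_eq_zero.mp h0 with h | h
  · show p y ≤ 1
    omega
  · show p y ≤ 1
    omega

end Cfsg.Agent.L33U
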