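import Mathlib
import Cfsg.Agent.S0197.H5_Glue

/-!
# S2916 / L33U, piece P2 (part 1): the glue of S0197 with the signed degrees exported

Same hypotheses as `Cfsg.Agent.S0197.glue197` (minus the relation for `θ1`); the conclusion also
says what `D` and `F` are: `D = sP * deg xP = sQ * deg xQ = sS * deg xS`, `sR * deg xR = D + 1`,
`F = sU * deg xU`, `sV * deg xV = F + 1`, `sE * deg xE = -(D + F + 1)`.
-/

set_option autoImplicit false

namespace Cfsg.Agent.L33U

open Cfsg.Agent.S0197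

variable {ι : Type*} [Fintype ι] [DecidableEq ι]

set_option maxHeartbeats 3200000 in
/-- the glue of S0197, exporting the signed degrees -/
theorem h5_glue_export (triv xP xQ xS xR xU xV xE : ι)
    (hnd : [triv, xP, xQ, xS, xR, xU, xV, xE].Nodup)
    (sP sQ sS sR sU sV sE : ℤ) (hsP : sP = 1 ∨ sP = -1) (hsQ : sQ = 1 ∨ sQ = -1)
    (hsS : sS = 1 ∨ sS = -1) (hsR : sR = 1 ∨ sR = -1) (hsU : sU = 1 ∨ sU = -1)
    (hsV : sV = 1 ∨ sV = -1) (hsE : sE = 1 ∨ sE = -1)
    (m1 m2 m3 m4 m5 : ι → ℤ)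
    (hform : ∀ x, m1 x = (if x = triv then 1 else 0) - sR * (if x = xR then 1 else 0) -
          sV * (if x = xV then 1 else 0) - sE * (if x = xE then 1 else 0) ∧
        m2 x = sQ * (if x = xQ then 1 else 0) - sS * (if x = xS then 1 else 0) ∧
        m3 x = (if x = triv then 1 else 0) + sP * (if x = xP then 1 else 0) -
          sR * (if x = xR then 1 else 0) ∧
        m4 x = sP * (if x = xP then 1 else 0) - sQ * (if x = xQ then 1 else 0) ∧
        m5 x = (if x = triv then 1 else 0) + sU * (if x = xU then 1 else 0) -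
          sV * (if x = xV then 1 else 0))
    (deg : ι → ℤ) (hdeg : ∀ x, 0 < deg x) (hdtriv : deg triv = 1)
    (hd1 : ∑ x, m1 x * deg x = 0) (hd2 : ∑ x, m2 x * deg x = 0) (hd3 : ∑ x, m3 x * deg x = 0)
    (hd4 : ∑ x, m4 x * deg x = 0) (hd5 : ∑ x, m5 x * deg x = 0)
    (T : ι → ℂ)
    (hT : ∀ x, T x = 4 * (m4 x : ℂ) + 4 * (m5 x : ℂ) - 2 * (m3 x : ℂ) - (m1 x : ℂ) + 2 * (m2 x : ℂ))
    (g : ℤ) (hg : 0 < g)
    (hr3 : (g : ℂ) * ∑ x, (m3 x : ℂ) * (T x * T x / (deg x : ℂ)) = 48 * ((96 : ℤ) : ℂ))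
    (hr5 : (g : ℂ) * ∑ x, (m5 x : ℂ) * (T x * T x / (deg x : ℂ)) = 48 * ((192 : ℤ) : ℂ)) :
    ∃ D F : ℤ, sP * deg xP = D ∧ sQ * deg xQ = D ∧ sS * deg xS = D ∧ sR * deg xR = D + 1 ∧
      sU * deg xU = F ∧ sV * deg xV = F + 1 ∧ sE * deg xE = -(D + F + 1) ∧
      g * (D - 2) ^ 2 = 4608 * (D * (D + 1)) ∧ g * (F + 4) ^ 2 = 9216 * (F * (F + 1)) := by
  simp only [List.nodup_cons, List.mem_cons, List.not_mem_nil, or_false, not_or,
    List.nodup_nil, and_true] at hnd
  obtain ⟨⟨n01, n02, n03, n04, n05, n06, n07⟩, ⟨n12, n13, n14, n15, n16, n17⟩,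
    ⟨n23, n24, n25, n26, n27⟩, ⟨n34, n35, n36, n37⟩, ⟨n45, n46, n47⟩, ⟨n56, n57⟩, n67, -⟩ := hnd
  have f1 : ∀ x, m1 x = (if x = triv then 1 else 0) - sR * (if x = xR then 1 else 0) -
          sV * (if x = xV then 1 else 0) - sE * (if x = xE then 1 else 0) := fun x => (hform x).1
  have f2 : ∀ x, m2 x = sQ * (if x = xQ then 1 else 0) - sS * (if x = xS then 1 else 0) :=
    fun x => (hform x).2.1
  have f3 : ∀ x, m3 x = (if x = triv then 1 else 0) + sP * (if x = xP then 1 else 0) -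
          sR * (if x = xR then 1 else 0) := fun x => (hform x).2.2.1
  have f4 : ∀ x, m4 x = sP * (if x = xP then 1 else 0) - sQ * (if x = xQ then 1 else 0) :=
    fun x => (hform x).2.2.2.1
  have f5 : ∀ x, m5 x = (if x = triv then 1 else 0) + sU * (if x = xU then 1 else 0) -
          sV * (if x = xV then 1 else 0) := fun x => (hform x).2.2.2.2
  -- degree sums
  have e2 : sQ * deg xQ - sS * deg xS = 0 := by
    rw [← hd2]
    simp_rw [f2, sub_mul]
    rw [Finset.sum_sub_distrib, h5_sum_indZ, h5_sum_indZ]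
  have e4 : sP * deg xP - sQ * deg xQ = 0 := by
    rw [← hd4]
    simp_rw [f4, sub_mul]
    rw [Finset.sum_sub_distrib, h5_sum_indZ, h5_sum_indZ]
  have e3 : 1 + sP * deg xP - sR * deg xR = 0 := by
    rw [← hd3, ← hdtriv]
    simp_rw [f3, sub_mul, add_mul]
    rw [Finset.sum_sub_distrib, Finset.sum_add_distrib, h5_sum_indZ, h5_sum_indZ, h5_sum_indZ']
  have e5 : 1 + sU * deg xU - sV * deg xV = 0 := by
    rw [← hd5, ← hdtriv]
    simp_rw [f5, sub_mul, add_mul]
    rw [Finset.sum_sub_distrib, Finset.sum_add_distrib, h5_sum_indZ, h5_sum_indZ, h5_sum_indZ']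
  have e1 : 1 - sR * deg xR - sV * deg xV - sE * deg xE = 0 := by
    rw [← hd1, ← hdtriv]
    simp_rw [f1, sub_mul]
    rw [Finset.sum_sub_distrib, Finset.sum_sub_distrib, Finset.sum_sub_distrib, h5_sum_indZ,
      h5_sum_indZ, h5_sum_indZ, h5_sum_indZ']
  -- all inequalities, both ways
  have q01 := Ne.symm n01; have q02 := Ne.symm n02; have q03 := Ne.symm n03
  have q04 := Ne.symm n04; have q05 := Ne.symm n05; have q06 := Ne.symm n06
  have q07 := Ne.symm n07; have q12 := Ne.symm n12; have q13 := Ne.symm n13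
  have q14 := Ne.symm n14; have q15 := Ne.symm n15; have q16 := Ne.symm n16
  have q17 := Ne.symm n17; have q23 := Ne.symm n23; have q24 := Ne.symm n24
  have q25 := Ne.symm n25; have q26 := Ne.symm n26; have q27 := Ne.symm n27
  have q34 := Ne.symm n34; have q35 := Ne.symm n35; have q36 := Ne.symm n36
  have q37 := Ne.symm n37; have q45 := Ne.symm n45; have q46 := Ne.symm n46
  have q47 := Ne.symm n47; have q56 := Ne.symm n56; have q57 := Ne.symm n57
  have q67 := Ne.symm n67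
  -- the values at the involution
  have Tt : T triv = 1 := by
    rw [hT, f1, f2, f3, f4, f5]
    simp [n01, n02, n03, n04, n05, n06, n07]
    norm_num
  have TP : T xP = 2 * (sP : ℂ) := by
    rw [hT, f1, f2, f3, f4, f5]
    simp [q01, n12, n13, n14, n15, n16, n17]
    ring
  have TR : T xR = 3 * (sR : ℂ) := by
    rw [hT, f1, f2, f3, f4, f5]
    simp [q04, q14, q24, q34, n45, n46, n47]
    ring
  have TU : T xU = 4 * (sU : ℂ) := by
    rw [hT, f1, f2, f3, f4, f5]
    simp [q05, q15, q25, q35, q45, n56, n57]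
  have TV : T xV = -3 * (sV : ℂ) := by
    rw [hT, f1, f2, f3, f4, f5]
    simp [q06, q16, q26, q36, q46, q56, n67]
    ring
  have TE : T xE = (sE : ℂ) := by
    rw [hT, f1, f2, f3, f4, f5]
    simp [q07, q17, q27, q37, q47, q57, q67]
  -- signed degrees
  obtain ⟨D, hD⟩ : ∃ D : ℤ, D = sP * deg xP := ⟨_, rfl⟩
  obtain ⟨F, hF⟩ : ∃ F : ℤ, F = sU * deg xU := ⟨_, rfl⟩
  have hR : sR * deg xR = D + 1 := by rw [hD]; linarith
  have hV : sV * deg xV = F + 1 := by rw [hF]; linarith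
  have hE' : sE * deg xE = -(D + F + 1) := by linarith
  have nz : ∀ (s : ℤ) (x : ι), (s = 1 ∨ s = -1) → s * deg x ≠ 0 := by
    intro s x hs
    have := hdeg x
    rcases hs with rfl | rfl <;> omega
  have hD0 : D ≠ 0 := by rw [hD]; exact nz sP xP hsP
  have hF0 : F ≠ 0 := by rw [hF]; exact nz sU xU hsU
  have hD1 : D + 1 ≠ 0 := by rw [← hR]; exact nz sR xR hsR
  have hF1 : F + 1 ≠ 0 := by rw [← hV]; exact nz sV xV hsV
  have hE0 : D + F + 1 ≠ 0 := by
    have := nz sE xE hsE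
    rw [hE'] at this
    intro h
    apply this
    rw [h]
    rfl
  -- casts of the signed degrees
  have cP : (sP : ℂ) * (deg xP : ℂ) = (D : ℂ) := by rw [hD]; push_cast; ring
  have cU : (sU : ℂ) * (deg xU : ℂ) = (F : ℂ) := by rw [hF]; push_cast; ring
  have cR : (sR : ℂ) * (deg xR : ℂ) = (D : ℂ) + 1 := by
    have := congrArg (fun z : ℤ => (z : ℂ)) hR
    push_cast at this
    exact this
  have cV : (sV : ℂ) * (deg xV : ℂ) = (F : ℂ) + 1 := by
    have := congrArg (fun z : ℤ => (z : ℂ)) hV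
    push_cast at this
    exact this
  have cE : (sE : ℂ) * (deg xE : ℂ) = -((D : ℂ) + F + 1) := by
    have := congrArg (fun z : ℤ => (z : ℂ)) hE'
    push_cast at this
    exact this
  have zD : (D : ℂ) ≠ 0 := by exact_mod_cast hD0
  have zF : (F : ℂ) ≠ 0 := by exact_mod_cast hF0
  have zD1 : (D : ℂ) + 1 ≠ 0 := by exact_mod_cast hD1
  have zF1 : (F : ℂ) + 1 ≠ 0 := by exact_mod_cast hF1
  have zE : (D : ℂ) + F + 1 ≠ 0 := by exact_mod_cast hE0
  have zg : (g : ℂ) ≠ 0 := by exact_mod_cast hg.ne'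
  have S3 : ∑ x, (m3 x : ℂ) * (T x * T x / (deg x : ℂ)) =
      1 + 4 / (D : ℂ) - 9 / ((D : ℂ) + 1) := by
    simp_rw [f3]
    push_cast
    simp_rw [sub_mul, add_mul]
    rw [Finset.sum_sub_distrib, Finset.sum_add_distrib, h5_sum_indC', h5_sum_indC, h5_sum_indC,
      Tt, TP, TR, hdtriv]
    have t1 := h5_term sR hsR 3 (deg xR : ℂ)
    have t2 := h5_term sP hsP 2 (deg xP : ℂ)
    rw [t1, t2, cR, cP]
    push_cast
    ring
  have S5 : ∑ x, (m5 x : ℂ) * (T x * T x / (deg x : ℂ)) =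
      1 + 16 / (F : ℂ) - 9 / ((F : ℂ) + 1) := by
    simp_rw [f5]
    push_cast
    simp_rw [sub_mul, add_mul]
    rw [Finset.sum_sub_distrib, Finset.sum_add_distrib, h5_sum_indC', h5_sum_indC, h5_sum_indC,
      Tt, TU, TV, hdtriv]
    have t1 := h5_term sV hsV (-3) (deg xV : ℂ)
    have t2 := h5_term sU hsU 4 (deg xU : ℂ)
    rw [t1, t2, cV, cU]
    push_cast
    ring
  rw [S3] at hr3
  rw [S5] at hr5
  refine ⟨D, F, hD.symm, by rw [hD]; linarith, by rw [hD]; linarith, hR, hF.symm, hV, hE', ?_, ?_⟩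
  · have h1 := hr3
    push_cast at h1
    field_simp at h1
    have h2 : (g : ℂ) * ((D : ℂ) - 2) ^ 2 = 4608 * ((D : ℂ) * ((D : ℂ) + 1)) := by
      linear_combination h1
    exact_mod_cast h2
  · have h1 := hr5
    push_cast at h1
    field_simp at h1
    have h2 : (g : ℂ) * ((F : ℂ) + 4) ^ 2 = 9216 * ((F : ℂ) * ((F : ℂ) + 1)) := by
      linear_combination h1
    exact_mod_cast h2

end Cfsg.Agent.L33U
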