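import Mathlib
import Cfsg.Prelude.Def_Characters
import Cfsg.Agent.S0197.H5_Assembly
import Cfsg.Agent.GL23U.H2_GenChar
import Cfsg.Agent.L33U.H5_Glue2
import Cfsg.Agent.L33U.Base
import Cfsg.Agent.L33U.H2_Others

/-!
# S2916 / L33U, piece P2: `exists_table`

The character table of a simple group of order 5616 with `C_G(t) ≅ GL(2,3)` on `1` and on the singular
classes of `C_G(t)`: `frame` + `embedding_unique` + `values_of_inner` (as in `h5_assembly`), the glue of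
S0197 with the signed degrees exported (`h5_glue_export`), `g = 5616 ⇒ D = 26, F = 12`, and helper2's
`others_sixteen` for the characters outside the frame.
-/

set_option autoImplicit false
set_option linter.style.haveILetI false

namespace Cfsg.Agent.L33U

open Cfsg.Agent.Helper6 Cfsg.Agent.Helper6.H72 Cfsg.Agent.GL23U Cfsg.Agent.S0197

universe u

/-! ### the arithmetic for `|G| = 5616` -/

theorem h5_D_eq (D : ℤ) (h : (5616 : ℤ) * (D - 2) ^ 2 = 4608 * (D * (D + 1))) : D = 26 := by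
  have h1 : 144 * ((D - 26) * (7 * D - 6)) = 0 := by linear_combination h
  rcases mul_eq_zero.mp h1 with h2 | h2
  · omega
  · rcases mul_eq_zero.mp h2 with h3 | h3 <;> omega

theorem h5_F_eq (F : ℤ) (h : (5616 : ℤ) * (F + 4) ^ 2 = 9216 * (F * (F + 1))) : F = 12 := by
  have h1 : 144 * ((F - 12) * (25 * F + 52)) = 0 := by linear_combination -h
  rcases mul_eq_zero.mp h1 with h2 | h2
  · omega
  · rcases mul_eq_zero.mp h2 with h3 | h3 <;> omega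

/-- a signed positive degree -/
theorem h5_sign_pos (s d k : ℤ) (hs : s = 1 ∨ s = -1) (hd : 0 < d) (hk : 0 < k) (h : s * d = k) :
    s = 1 ∧ d = k := by
  rcases hs with rfl | rfl
  · exact ⟨rfl, by linarith⟩
  · exfalso; linarith

theorem h5_sign_neg (s d k : ℤ) (hs : s = 1 ∨ s = -1) (hd : 0 < d) (hk : 0 < k) (h : s * d = -k) :
    s = -1 ∧ d = k := by
  rcases hs with rfl | rfl
  · exfalso; linarith
  · exact ⟨rfl, by linarith⟩

section data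

variable {G : Type u} [Group G] [Fintype G]

/-- the five values in terms of the five inner products (reordering of `values_of_inner`) -/
theorem h5_vals (S : GSetup G M48 sing) (χ : Cfsg.IrrCharacter G) (a1 a2 a3 a4 a5 : ℤ)
    (h1 : Cfsg.classInner (Th1 S) (χ : G → ℂ) = a1) (h2 : Cfsg.classInner (Th2 S) (χ : G → ℂ) = a2)
    (h3 : Cfsg.classInner (Th3 S) (χ : G → ℂ) = a3) (h4 : Cfsg.classInner (Th4 S) (χ : G → ℂ) = a4)
    (h5 : Cfsg.classInner (Th5 S) (χ : G → ℂ) = a5) :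
    (χ : G → ℂ) (S.ι tt) = 4 * a4 + 4 * a5 - 2 * a3 - a1 + 2 * a2 ∧
      (χ : G → ℂ) (S.ι r4) = 2 * a3 - a1 ∧
      (χ : G → ℂ) (S.ι r6) = a5 - a1 - 2 * a4 + a3 - a2 ∧
      (χ : G → ℂ) (S.ι r8a) = a1 + s2 * a2 ∧ (χ : G → ℂ) (S.ι r8b) = a1 - s2 * a2 := by
  obtain ⟨v1, v2, v3, v4, v5⟩ := values_of_inner S (χ : G → ℂ)
    (IsCharacter.isClassFunction (IsIrrCharacter.isCharacter χ.2)) a1 a2 a3 a4 a5 h1 h2 h3 h4 h5
  exact ⟨v4, v3, v5, v1, v2⟩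

/-- the class of `t` has `|G| / 48` elements -/
theorem h5_card_class (C : Ctx G) :
    (classFinset (C.S.ι tt)).card * 48 = Nat.card G := by
  rw [card_classFinset, ← C.hN]
  have h := C.S.card_N
  rw [card_M48] at h
  rw [← h, mul_comm]
  exact Subgroup.card_mul_index _

theorem h5_sing_cases (m : M48) (h : sing m = true) :
    cT m = true ∨ c6 m = true ∨ c4 m = true ∨ c8a m = true ∨ c8b m = true := by
  unfold sing at h
  simp only [Bool.or_eq_true] at h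
  tauto

set_option maxHeartbeats 3200000 in
/-- **P2.** -/
theorem exists_table (C : Ctx G) : Nonempty (Table C) := by
  have hconj := C.conj2
  have hK := h5_card_class C
  have hcard := C.card
  generalize hSdef : C.S = S at hconj hK
  classical
  haveI : Finite (Cfsg.IrrCharacter G) := irr_finite
  haveI : Fintype (Cfsg.IrrCharacter G) := Fintype.ofFinite _
  obtain ⟨m1, m2, m3, m4, m5, hm1, hm2, hm3, hm4, hm5,
    ⟨g11, g12, g13, g14, g15, g22, g23, g24, g25, g33, g34, g35, g44, g45, g55⟩,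
    ⟨t1, t2, t3, t4, t5⟩, ⟨d1, d2, d3, d4, d5⟩⟩ :=
    frame S isGenChar_th1 isGenChar_th2 isGenChar_th3 isGenChar_th4 isGenChar_th5
  obtain ⟨xP, xQ, xS, xR, xU, xV, xE, hnd, sP, sQ, sS, sR, sU, sV, sE, hsP, hsQ, hsS, hsR, hsU,
    hsV, hsE, hform⟩ := embedding_unique m1 m2 m3 m4 m5 (S0197.trivIrr G) g11 g12 g13 g14 g15 g22
      g23 g24 g25 g33 g34 g35 g44 g45 g55 t1 t2 t3 t4 t5
  -- the class relations
  have r3 := class_rel197 S hconj hK al3 al3_van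
  have r5 := class_rel197 S hconj hK al5 al5_van
  rw [pairsum_al3, ← Th3_eq] at r3
  rw [pairsum_al5, ← Th5_eq] at r5
  simp_rw [hm3, h5_deg_cast] at r3
  simp_rw [hm5, h5_deg_cast] at r5
  have hgc : (((Nat.card G : ℕ) : ℤ) : ℂ) = ((Nat.card G : ℕ) : ℂ) := Int.cast_natCast _
  rw [← hgc] at r3 r5
  have hT : ∀ χ : Cfsg.IrrCharacter G, (χ : G → ℂ) (S.ι tt) =
      4 * (m4 χ : ℂ) + 4 * (m5 χ : ℂ) - 2 * (m3 χ : ℂ) - (m1 χ : ℂ) + 2 * (m2 χ : ℂ) := fun χ =>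
    (h5_vals S χ (m1 χ) (m2 χ) (m3 χ) (m4 χ) (m5 χ) (hm1 χ) (hm2 χ) (hm3 χ) (hm4 χ) (hm5 χ)).1
  have hgpos : (0 : ℤ) < ((Nat.card G : ℕ) : ℤ) := by
    have : 0 < Nat.card G := Nat.card_pos
    exact_mod_cast this
  obtain ⟨D, F, eP, eQ, eS, eR, eU, eV, eE, h3, h5⟩ := h5_glue_export (S0197.trivIrr G) xP xQ xS xR
    xU xV xE hnd sP sQ sS sR sU sV sE hsP hsQ hsS hsR hsU hsV hsE m1 m2 m3 m4 m5 hform
    (fun χ => (Cfsg.charDegree (χ : G → ℂ) : ℤ)) h5_deg_pos h5_deg_triv d1 d2 d3 d4 d5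
    (fun χ => (χ : G → ℂ) (S.ι tt)) hT ((Nat.card G : ℕ) : ℤ) hgpos r3 r5
  have hg : ((Nat.card G : ℕ) : ℤ) = 5616 := by rw [hcard]; rfl
  rw [hg] at h3 h5
  have hD := h5_D_eq D h3
  have hF := h5_F_eq F h5
  subst hD hF
  obtain ⟨rfl, dP⟩ := h5_sign_pos sP _ 26 hsP (h5_deg_pos xP) (by norm_num) eP
  obtain ⟨rfl, dQ⟩ := h5_sign_pos sQ _ 26 hsQ (h5_deg_pos xQ) (by norm_num) eQ
  obtain ⟨rfl, dS⟩ := h5_sign_pos sS _ 26 hsS (h5_deg_pos xS) (by norm_num) eS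
  obtain ⟨rfl, dR⟩ := h5_sign_pos sR _ 27 hsR (h5_deg_pos xR) (by norm_num) (by rw [eR]; norm_num)
  obtain ⟨rfl, dU⟩ := h5_sign_pos sU _ 12 hsU (h5_deg_pos xU) (by norm_num) eU
  obtain ⟨rfl, dV⟩ := h5_sign_pos sV _ 13 hsV (h5_deg_pos xV) (by norm_num) (by rw [eV]; norm_num)
  obtain ⟨rfl, dE⟩ := h5_sign_neg sE _ 39 hsE (h5_deg_pos xE) (by norm_num) (by rw [eE]; norm_num)
  -- the inequalities
  have hnd' := hnd
  simp only [List.nodup_cons, List.mem_cons, List.not_mem_nil, or_false, not_or,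
    List.nodup_nil, and_true] at hnd'
  obtain ⟨⟨n01, n02, n03, n04, n05, n06, n07⟩, ⟨n12, n13, n14, n15, n16, n17⟩,
    ⟨n23, n24, n25, n26, n27⟩, ⟨n34, n35, n36, n37⟩, ⟨n45, n46, n47⟩, ⟨n56, n57⟩, n67, -⟩ := hnd'
  have q01 := Ne.symm n01; have q02 := Ne.symm n02; have q03 := Ne.symm n03
  have q04 := Ne.symm n04; have q05 := Ne.symm n05; have q06 := Ne.symm n06
  have q07 := Ne.symm n07; have q12 := Ne.symm n12; have q13 := Ne.symm n13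
  have q14 := Ne.symm n14; have q15 := Ne.symm n15; have q16 := Ne.symm n16
  have q17 := Ne.symm n17; have q23 := Ne.symm n23; have q24 := Ne.symm n24
  have q25 := Ne.symm n25; have q26 := Ne.symm n26; have q27 := Ne.symm n27
  have q34 := Ne.symm n34; have q35 := Ne.symm n35; have q36 := Ne.symm n36
  have q37 := Ne.symm n37; have q45 := Ne.symm n45; have q46 := Ne.symm n46
  have q47 := Ne.symm n47; have q56 := Ne.symm n56; have q57 := Ne.symm n57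
  have q67 := Ne.symm n67
  have f1 : ∀ x, m1 x = (if x = S0197.trivIrr G then 1 else 0) - 1 * (if x = xR then 1 else 0) -
          1 * (if x = xV then 1 else 0) - (-1) * (if x = xE then 1 else 0) := fun x => (hform x).1
  have f2 : ∀ x, m2 x = 1 * (if x = xQ then 1 else 0) - 1 * (if x = xS then 1 else 0) :=
    fun x => (hform x).2.1
  have f3 : ∀ x, m3 x = (if x = S0197.trivIrr G then 1 else 0) + 1 * (if x = xP then 1 else 0) -
          1 * (if x = xR then 1 else 0) := fun x => (hform x).2.2.1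
  have f4 : ∀ x, m4 x = 1 * (if x = xP then 1 else 0) - 1 * (if x = xQ then 1 else 0) :=
    fun x => (hform x).2.2.2.1
  have f5 : ∀ x, m5 x = (if x = S0197.trivIrr G then 1 else 0) + 1 * (if x = xU then 1 else 0) -
          1 * (if x = xV then 1 else 0) := fun x => (hform x).2.2.2.2
  -- the inner products of the seven characters
  have aP : m1 xP = 0 ∧ m2 xP = 0 ∧ m3 xP = 1 ∧ m4 xP = 1 ∧ m5 xP = 0 := by
    refine ⟨?_, ?_, ?_, ?_, ?_⟩ <;> simp [f1, f2, f3, f4, f5, q01, n12, n13, n14, n15, n16, n17]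
  have aQ : m1 xQ = 0 ∧ m2 xQ = 1 ∧ m3 xQ = 0 ∧ m4 xQ = -1 ∧ m5 xQ = 0 := by
    refine ⟨?_, ?_, ?_, ?_, ?_⟩ <;> simp [f1, f2, f3, f4, f5, q02, q12, n23, n24, n25, n26, n27]
  have aS : m1 xS = 0 ∧ m2 xS = -1 ∧ m3 xS = 0 ∧ m4 xS = 0 ∧ m5 xS = 0 := by
    refine ⟨?_, ?_, ?_, ?_, ?_⟩ <;> simp [f1, f2, f3, f4, f5, q03, q13, q23, n34, n35, n36, n37]
  have aR : m1 xR = -1 ∧ m2 xR = 0 ∧ m3 xR = -1 ∧ m4 xR = 0 ∧ m5 xR = 0 := by
    refine ⟨?_, ?_, ?_, ?_, ?_⟩ <;> simp [f1, f2, f3, f4, f5, q04, q14, q24, q34, n45, n46, n47]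
  have aU : m1 xU = 0 ∧ m2 xU = 0 ∧ m3 xU = 0 ∧ m4 xU = 0 ∧ m5 xU = 1 := by
    refine ⟨?_, ?_, ?_, ?_, ?_⟩ <;> simp [f1, f2, f3, f4, f5, q05, q15, q25, q35, q45, n56, n57]
  have aV : m1 xV = -1 ∧ m2 xV = 0 ∧ m3 xV = 0 ∧ m4 xV = 0 ∧ m5 xV = -1 := by
    refine ⟨?_, ?_, ?_, ?_, ?_⟩ <;> simp [f1, f2, f3, f4, f5, q06, q16, q26, q36, q46, q56, n67]
  have aE : m1 xE = 1 ∧ m2 xE = 0 ∧ m3 xE = 0 ∧ m4 xE = 0 ∧ m5 xE = 0 := by
    refine ⟨?_, ?_, ?_, ?_, ?_⟩ <;> simp [f1, f2, f3, f4, f5, q07, q17, q27, q37, q47, q57, q67]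
  have vals := fun χ : Cfsg.IrrCharacter G =>
    h5_vals S χ (m1 χ) (m2 χ) (m3 χ) (m4 χ) (m5 χ) (hm1 χ) (hm2 χ) (hm3 χ) (hm4 χ) (hm5 χ)
  have cdeg : ∀ (χ : Cfsg.IrrCharacter G) (k : ℤ),
      (Cfsg.charDegree (χ : G → ℂ) : ℤ) = k → (χ : G → ℂ) 1 = (k : ℂ) := by
    intro χ k h
    rw [h5_deg_cast χ, h]
  have natdeg : ∀ (χ : Cfsg.IrrCharacter G) (k : ℕ),
      (Cfsg.charDegree (χ : G → ℂ) : ℤ) = (k : ℤ) → Cfsg.charDegree (χ : G → ℂ) = k := by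
    intro χ k h
    exact_mod_cast h
  have hndL : [S0197.trivIrr G, xU, xV, xP, xQ, xS, xR, xE].Nodup := by
    simp only [List.nodup_cons, List.mem_cons, List.not_mem_nil, or_false, not_or,
      List.nodup_nil, and_true]
    exact ⟨⟨n05, n06, n01, n02, n03, n04, n07⟩, ⟨n56, q15, q25, q35, q45, n57⟩,
      ⟨q16, q26, q36, q46, n67⟩, ⟨n12, n13, n14, n17⟩, ⟨n23, n24, n27⟩, ⟨n34, n37⟩, n47, not_false⟩
  have vU : (xU : G → ℂ) (S.ι tt) = 4 ∧ (xU : G → ℂ) (S.ι r4) = 0 ∧ (xU : G → ℂ) (S.ι r6) = 1 ∧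
      (xU : G → ℂ) (S.ι r8a) = 0 ∧ (xU : G → ℂ) (S.ι r8b) = 0 := by
    have v := vals xU
    rw [aU.1, aU.2.1, aU.2.2.1, aU.2.2.2.1, aU.2.2.2.2] at v
    norm_num at v
    exact v
  have vV : (xV : G → ℂ) (S.ι tt) = -3 ∧ (xV : G → ℂ) (S.ι r4) = 1 ∧ (xV : G → ℂ) (S.ι r6) = 0 ∧
      (xV : G → ℂ) (S.ι r8a) = -1 ∧ (xV : G → ℂ) (S.ι r8b) = -1 := by
    have v := vals xV
    rw [aV.1, aV.2.1, aV.2.2.1, aV.2.2.2.1, aV.2.2.2.2] at v
    norm_num at v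
    exact v
  have vP : (xP : G → ℂ) (S.ι tt) = 2 ∧ (xP : G → ℂ) (S.ι r4) = 2 ∧ (xP : G → ℂ) (S.ι r6) = -1 ∧
      (xP : G → ℂ) (S.ι r8a) = 0 ∧ (xP : G → ℂ) (S.ι r8b) = 0 := by
    have v := vals xP
    rw [aP.1, aP.2.1, aP.2.2.1, aP.2.2.2.1, aP.2.2.2.2] at v
    norm_num at v
    exact v
  have vQ : (xQ : G → ℂ) (S.ι tt) = -2 ∧ (xQ : G → ℂ) (S.ι r4) = 0 ∧ (xQ : G → ℂ) (S.ι r6) = 1 ∧
      (xQ : G → ℂ) (S.ι r8a) = s2 ∧ (xQ : G → ℂ) (S.ι r8b) = -s2 := by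
    have v := vals xQ
    rw [aQ.1, aQ.2.1, aQ.2.2.1, aQ.2.2.2.1, aQ.2.2.2.2] at v
    norm_num at v
    exact v
  have vS : (xS : G → ℂ) (S.ι tt) = -2 ∧ (xS : G → ℂ) (S.ι r4) = 0 ∧ (xS : G → ℂ) (S.ι r6) = 1 ∧
      (xS : G → ℂ) (S.ι r8a) = -s2 ∧ (xS : G → ℂ) (S.ι r8b) = s2 := by
    have v := vals xS
    rw [aS.1, aS.2.1, aS.2.2.1, aS.2.2.2.1, aS.2.2.2.2] at v
    norm_num at v
    exact v
  have vR : (xR : G → ℂ) (S.ι tt) = 3 ∧ (xR : G → ℂ) (S.ι r4) = -1 ∧ (xR : G → ℂ) (S.ι r6) = 0 ∧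
      (xR : G → ℂ) (S.ι r8a) = -1 ∧ (xR : G → ℂ) (S.ι r8b) = -1 := by
    have v := vals xR
    rw [aR.1, aR.2.1, aR.2.2.1, aR.2.2.2.1, aR.2.2.2.2] at v
    norm_num at v
    exact v
  have vE : (xE : G → ℂ) (S.ι tt) = -1 ∧ (xE : G → ℂ) (S.ι r4) = -1 ∧ (xE : G → ℂ) (S.ι r6) = -1 ∧
      (xE : G → ℂ) (S.ι r8a) = 1 ∧ (xE : G → ℂ) (S.ι r8b) = 1 := by
    have v := vals xE
    rw [aE.1, aE.2.1, aE.2.2.1, aE.2.2.2.1, aE.2.2.2.2] at v
    norm_num at v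
    exact v
  -- the other characters vanish on the singular set
  have hvan : ∀ ψ : Cfsg.IrrCharacter G, ψ ∉ [S0197.trivIrr G, xU, xV, xP, xQ, xS, xR, xE] →
      ∀ m : M48, sing m = true → (ψ : G → ℂ) (C.S.ι m) = 0 := by
    intro ψ hψ m hm
    simp only [List.mem_cons, List.not_mem_nil, or_false, not_or] at hψ
    obtain ⟨p0, p5, p6, p1, p2, p3, p4, p7⟩ := hψ
    have a : m1 ψ = 0 ∧ m2 ψ = 0 ∧ m3 ψ = 0 ∧ m4 ψ = 0 ∧ m5 ψ = 0 := by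
      refine ⟨?_, ?_, ?_, ?_, ?_⟩ <;> simp [f1, f2, f3, f4, f5, p0, p1, p2, p3, p4, p5, p6, p7]
    have v := vals ψ
    rw [a.1, a.2.1, a.2.2.1, a.2.2.2.1, a.2.2.2.2] at v
    norm_num at v
    obtain ⟨w1, w2, w3, w4, w5⟩ := v
    have hvc := value_of_class C ψ m
    rw [hSdef] at hvc ⊢
    rcases h5_sing_cases m hm with h | h | h | h | h
    · rw [hvc.1 h, w1]
    · rw [hvc.2.2.2.1 h, w3]
    · rw [hvc.2.2.1 h, w2]
    · rw [hvc.2.2.2.2.1 h, w4]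
    · rw [hvc.2.2.2.2.2.1 h, w5]
  have hsq : ([S0197.trivIrr G, xU, xV, xP, xQ, xS, xR, xE].map
      fun χ : Cfsg.IrrCharacter G => Cfsg.charDegree (χ : G → ℂ) ^ 2).sum = 4592 := by
    have e0 : Cfsg.charDegree ((S0197.trivIrr G : Cfsg.IrrCharacter G) : G → ℂ) = 1 := by
      have := h5_deg_triv (G := G)
      exact_mod_cast this
    simp only [List.map_cons, List.map_nil, List.sum_cons, List.sum_nil]
    rw [e0, natdeg xU 12 dU, natdeg xV 13 dV, natdeg xP 26 dP, natdeg xQ 26 dQ, natdeg xS 26 dS,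
      natdeg xR 27 dR, natdeg xE 39 dE]
    norm_num
  obtain ⟨h16, hcardIrr⟩ := others_sixteen C _ hndL hsq hvan
  subst hSdef
  exact ⟨⟨xU, xV, xP, xQ, xS, xR, xE, hndL,
    ⟨by rw [cdeg xU 12 dU]; norm_num, vU⟩, ⟨by rw [cdeg xV 13 dV]; norm_num, vV⟩,
    ⟨by rw [cdeg xP 26 dP]; norm_num, vP⟩, ⟨by rw [cdeg xQ 26 dQ]; norm_num, vQ⟩,
    ⟨by rw [cdeg xS 26 dS]; norm_num, vS⟩, ⟨by rw [cdeg xR 27 dR]; norm_num, vR⟩,
    ⟨by rw [cdeg xE 39 dE]; norm_num, vE⟩,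
    fun χ hχ => ⟨h16 χ hχ, hvan χ hχ⟩, by rw [hcardIrr]; rfl⟩⟩

end data

end Cfsg.Agent.L33U
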