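import Mathlib
import Cfsg.Prelude.Def_Characters
import Cfsg.Agent.Helper6.ColumnOrth
import Cfsg.Agent.Helper6.IrrBasis
import Cfsg.Agent.M11U.H3_Rep
import Cfsg.Agent.S0197.H5_Frame
import Cfsg.Agent.L33U.Base
import Cfsg.Agent.L33U.H4_Cent54

/-!
# S2916 / L33U, piece P3 (helper6): the values at an element of order `3` of `C(t)`

Blueprint `notes/S2916_blueprint_helper2.md`, section P3.  Input: helper1's `GSetup G M48 sing`
(the centralizer `H = C(t) ≅ GL(2,3)` with its TI set `A`), one class of involutions, and the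
character data exported by P2 (eight frame characters with their degrees and values on `A`, four
characters of degree `16` vanishing on `A`).  Output: the values of all twelve irreducible
characters at an element `x ∈ H` of order `3`, and `|C_G(x)| = 54`.

Method: for `K ≤ H` the number `d_K(χ) = |K|⁻¹ ∑_{k ∈ K} χ(k)` is a natural number, antitone in
`K` (dimension of the fixed space); `K = H, SD16, SL(2,3)` leave at most three candidates for
`χ(x)`; column orthogonality of `x` against the classes of `A` and against `1` does the rest.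
-/

set_option autoImplicit false
set_option linter.style.haveILetI false

namespace Cfsg.Agent.L33U

open Cfsg.Agent.Helper6 Cfsg.Agent.Helper6.H72 Cfsg.Agent.S0197 Cfsg.Agent.M11U
open scoped ComplexConjugate
open Module
open Classical

universe u

/-! ### Model facts -/

/-- representative of the class of non-central involutions -/
def h6_rR : M48 := ⟨((1, 0), (0, 2)), by decide⟩

/-- the identity class -/
def h6_is1 (m : M48) : Bool := decide (m = 1)

theorem h6_cR_rR : cR h6_rR = true := by decide +kernel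

theorem h6_conj_of_cR : ∀ m : M48, cR m = true → ∃ c : M48, c * h6_rR * c⁻¹ = m := by
  decide +kernel

/-- the eight classes partition the model -/
theorem h6_cls_split : ∀ m : M48,
    (1 : ℕ) = (if h6_is1 m = true then 1 else 0) + (if cT m = true then 1 else 0) +
      (if c3 m = true then 1 else 0) + (if c6 m = true then 1 else 0) +
      (if c4 m = true then 1 else 0) + (if cR m = true then 1 else 0) +
      (if c8a m = true then 1 else 0) + (if c8b m = true then 1 else 0) := by decide +kernel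

/-- the number of elements of a class in a subset -/
def h6_cnt (p q : M48 → Bool) : ℕ := (Finset.univ.filter fun m : M48 => p m = true ∧ q m = true).card

theorem h6_sum_pq (p q : M48 → Bool) (v : ℂ) :
    ∑ m : M48, (if p m = true ∧ q m = true then v else 0) = (h6_cnt p q : ℂ) * v := by
  rw [← Finset.sum_filter, Finset.sum_const, nsmul_eq_mul]
  rfl

/-- a class function of the model, class by class -/
theorem h6_F_decomp (F : M48 → ℂ) (hF : ∀ m c : M48, F (c * m * c⁻¹) = F m) (m : M48) :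
    F m = (if h6_is1 m = true then F 1 else 0) + (if cT m = true then F tt else 0) +
      (if c3 m = true then F x3 else 0) + (if c6 m = true then F r6 else 0) +
      (if c4 m = true then F r4 else 0) + (if cR m = true then F h6_rR else 0) +
      (if c8a m = true then F r8a else 0) + (if c8b m = true then F r8b else 0) := by
  have hs := h6_cls_split m
  have e1 : h6_is1 m = true → F m = F 1 := by
    intro h
    have : m = 1 := by simpa [h6_is1] using h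
    rw [this]
  have e2 : cT m = true → F m = F tt := fun h => by rw [eq_of_cT m h]
  have e3 : c3 m = true → F m = F x3 := fun h => by
    obtain ⟨c, rfl⟩ := conj_of_c3 m h
    exact hF _ _
  have e4 : c6 m = true → F m = F r6 := fun h => by
    obtain ⟨c, rfl⟩ := conj_of_c6 m h
    exact hF _ _
  have e5 : c4 m = true → F m = F r4 := fun h => by
    obtain ⟨c, rfl⟩ := conj_of_c4 m h
    exact hF _ _
  have e6 : cR m = true → F m = F h6_rR := fun h => by
    obtain ⟨c, rfl⟩ := h6_conj_of_cR m h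
    exact hF _ _
  have e7 : c8a m = true → F m = F r8a := fun h => by
    obtain ⟨c, rfl⟩ := conj_of_c8a m h
    exact hF _ _
  have e8 : c8b m = true → F m = F r8b := fun h => by
    obtain ⟨c, rfl⟩ := conj_of_c8b m h
    exact hF _ _
  by_cases a1 : h6_is1 m = true <;> by_cases a2 : cT m = true <;> by_cases a3 : c3 m = true <;>
    by_cases a4 : c6 m = true <;> by_cases a5 : c4 m = true <;> by_cases a6 : cR m = true <;>
    by_cases a7 : c8a m = true <;> by_cases a8 : c8b m = true <;>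
    simp only [a1, a2, a3, a4, a5, a6, a7, a8, if_true, if_false, Bool.false_eq_true] at hs ⊢ <;>
    first
      | omega
      | (simp only [add_zero, zero_add]
         first | exact e1 a1 | exact e2 a2 | exact e3 a3 | exact e4 a4 | exact e5 a5 | exact e6 a6 | exact e7 a7 | exact e8 a8)

/-- the sum of a class function of the model over a subset, class by class -/
theorem h6_sum_p (p : M48 → Bool) (F : M48 → ℂ) (hF : ∀ m c : M48, F (c * m * c⁻¹) = F m) :
    ∑ m : M48, (if p m = true then F m else 0) =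
      (h6_cnt p h6_is1 : ℂ) * F 1 + (h6_cnt p cT : ℂ) * F tt + (h6_cnt p c3 : ℂ) * F x3 +
      (h6_cnt p c6 : ℂ) * F r6 + (h6_cnt p c4 : ℂ) * F r4 + (h6_cnt p cR : ℂ) * F h6_rR +
      (h6_cnt p c8a : ℂ) * F r8a + (h6_cnt p c8b : ℂ) * F r8b := by
  have h1 : ∀ m : M48, (if p m = true then F m else 0) =
      (if p m = true ∧ h6_is1 m = true then F 1 else 0) +
      (if p m = true ∧ cT m = true then F tt else 0) +
      (if p m = true ∧ c3 m = true then F x3 else 0) +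
      (if p m = true ∧ c6 m = true then F r6 else 0) +
      (if p m = true ∧ c4 m = true then F r4 else 0) +
      (if p m = true ∧ cR m = true then F h6_rR else 0) +
      (if p m = true ∧ c8a m = true then F r8a else 0) +
      (if p m = true ∧ c8b m = true then F r8b else 0) := by
    intro m
    by_cases hp : p m = true
    · simp only [hp, true_and, if_true]
      exact h6_F_decomp F hF m
    · simp only [hp, false_and, if_false, add_zero, Bool.false_eq_true]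
  rw [Finset.sum_congr rfl (fun m _ => h1 m)]
  simp only [Finset.sum_add_distrib, h6_sum_pq]


/-! ### Three subgroups of the model: everything, `SD16`, `SL(2,3)` -/

/-- everything -/
def h6_pH (_ : M48) : Bool := true
/-- the Sylow `2`-subgroup normalizing `⟨r8a⟩` -/
def h6_pSD (m : M48) : Bool := decide (m * r8a * m⁻¹ = r8a ∨ m * r8a * m⁻¹ = r8a ^ 3)
/-- `SL(2,3)` -/
def h6_pSL (m : M48) : Bool := decide (dt m = 1)

theorem h6_pH_one : h6_pH 1 = true := rfl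
theorem h6_pH_mul : ∀ a b : M48, h6_pH a = true → h6_pH b = true → h6_pH (a * b) = true :=
  fun _ _ _ _ => rfl
theorem h6_pH_inv : ∀ a : M48, h6_pH a = true → h6_pH a⁻¹ = true := fun _ _ => rfl
theorem h6_pSD_one : h6_pSD 1 = true := by decide +kernel
theorem h6_pSD_mul : ∀ a b : M48, h6_pSD a = true → h6_pSD b = true → h6_pSD (a * b) = true := by
  decide +kernel
theorem h6_pSD_inv : ∀ a : M48, h6_pSD a = true → h6_pSD a⁻¹ = true := by decide +kernel
theorem h6_pSL_one : h6_pSL 1 = true := by decide +kernel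
theorem h6_pSL_mul : ∀ a b : M48, h6_pSL a = true → h6_pSL b = true → h6_pSL (a * b) = true := by
  decide +kernel
theorem h6_pSL_inv : ∀ a : M48, h6_pSL a = true → h6_pSL a⁻¹ = true := by decide +kernel

theorem h6_cnt_H : h6_cnt h6_pH h6_is1 = 1 ∧ h6_cnt h6_pH cT = 1 ∧ h6_cnt h6_pH c3 = 8 ∧
    h6_cnt h6_pH c6 = 8 ∧ h6_cnt h6_pH c4 = 6 ∧ h6_cnt h6_pH cR = 12 ∧ h6_cnt h6_pH c8a = 6 ∧
    h6_cnt h6_pH c8b = 6 := by decide +kernel
theorem h6_cnt_SD : h6_cnt h6_pSD h6_is1 = 1 ∧ h6_cnt h6_pSD cT = 1 ∧ h6_cnt h6_pSD c3 = 0 ∧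
    h6_cnt h6_pSD c6 = 0 ∧ h6_cnt h6_pSD c4 = 6 ∧ h6_cnt h6_pSD cR = 4 ∧ h6_cnt h6_pSD c8a = 2 ∧
    h6_cnt h6_pSD c8b = 2 := by decide +kernel
theorem h6_cnt_SL : h6_cnt h6_pSL h6_is1 = 1 ∧ h6_cnt h6_pSL cT = 1 ∧ h6_cnt h6_pSL c3 = 8 ∧
    h6_cnt h6_pSL c6 = 8 ∧ h6_cnt h6_pSL c4 = 6 ∧ h6_cnt h6_pSL cR = 0 ∧ h6_cnt h6_pSL c8a = 0 ∧
    h6_cnt h6_pSL c8b = 0 := by decide +kernel

theorem h6_card_pH : (Finset.univ.filter fun m : M48 => h6_pH m = true).card = 48 := by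
  decide +kernel
theorem h6_card_pSD : (Finset.univ.filter fun m : M48 => h6_pSD m = true).card = 16 := by
  decide +kernel
theorem h6_card_pSL : (Finset.univ.filter fun m : M48 => h6_pSL m = true).card = 24 := by
  decide +kernel

/-- a subgroup of the model given by a Boolean predicate -/
def h6_msub (p : M48 → Bool) (h1 : p 1 = true)
    (hm : ∀ a b : M48, p a = true → p b = true → p (a * b) = true)
    (hi : ∀ a : M48, p a = true → p a⁻¹ = true) : Subgroup M48 where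
  carrier := {m | p m = true}
  mul_mem' := fun ha hb => hm _ _ ha hb
  one_mem' := h1
  inv_mem' := fun ha => hi _ ha

theorem h6_mem_msub (p : M48 → Bool) (h1 : p 1 = true)
    (hm : ∀ a b : M48, p a = true → p b = true → p (a * b) = true)
    (hi : ∀ a : M48, p a = true → p a⁻¹ = true) (m : M48) :
    m ∈ h6_msub p h1 hm hi ↔ p m = true := Iff.rfl

theorem h6_card_msub (p : M48 → Bool) (h1 : p 1 = true)
    (hm : ∀ a b : M48, p a = true → p b = true → p (a * b) = true)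
    (hi : ∀ a : M48, p a = true → p a⁻¹ = true) :
    Nat.card (h6_msub p h1 hm hi) = (Finset.univ.filter fun m : M48 => p m = true).card := by
  show Nat.card {m : M48 // p m = true} = _
  rw [Nat.card_eq_fintype_card, Fintype.card_subtype]

/-- the three subgroups -/
def h6_KH : Subgroup M48 := h6_msub h6_pH h6_pH_one h6_pH_mul h6_pH_inv
/-- `SD16` -/
def h6_KSD : Subgroup M48 := h6_msub h6_pSD h6_pSD_one h6_pSD_mul h6_pSD_inv
/-- `SL(2,3)` -/
def h6_KSL : Subgroup M48 := h6_msub h6_pSL h6_pSL_one h6_pSL_mul h6_pSL_inv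

theorem h6_card_KH : Nat.card h6_KH = 48 := by
  unfold h6_KH
  rw [h6_card_msub, h6_card_pH]
theorem h6_card_KSD : Nat.card h6_KSD = 16 := by
  unfold h6_KSD
  rw [h6_card_msub, h6_card_pSD]
theorem h6_card_KSL : Nat.card h6_KSL = 24 := by
  unfold h6_KSL
  rw [h6_card_msub, h6_card_pSL]

/-! ### The group side -/

section gside

variable {G : Type u} [Group G] [Fintype G] (S : GSetup G M48 sing)

theorem h6_sum_map (K : Subgroup M48) (p : M48 → Bool) (hK : ∀ m, m ∈ K ↔ p m = true)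
    (χ : G → ℂ) :
    ∑ g : G, (if g ∈ K.map S.ι then χ g else 0) =
      ∑ m : M48, (if p m = true then χ (S.ι m) else 0) := by
  classical
  rw [← Finset.sum_filter, ← Finset.sum_filter]
  have himg : (Finset.univ.filter fun g : G => g ∈ K.map S.ι) =
      (Finset.univ.filter fun m : M48 => p m = true).image S.ι := by
    ext g
    simp only [Finset.mem_filter, Finset.mem_univ, true_and, Finset.mem_image, Subgroup.mem_map]
    constructor
    · rintro ⟨m, hm, rfl⟩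
      exact ⟨m, (hK m).1 hm, rfl⟩
    · rintro ⟨m, hm, rfl⟩
      exact ⟨m, (hK m).2 hm, rfl⟩
  rw [himg, Finset.sum_image]
  intro a _ b _ hab
  exact S.ι_injective hab

theorem h6_card_map (K : Subgroup M48) : Nat.card (K.map S.ι) = Nat.card K :=
  Subgroup.card_map_of_injective S.ι_injective

/-- the fixed space dimensions: natural numbers, antitone in the subgroup -/
theorem h6_char_sums (χ : Cfsg.IrrCharacter G) :
    ∃ d : Subgroup G → ℕ,
      (∀ X : Subgroup G, ∑ g : G, (if g ∈ X then (χ : G → ℂ) g else 0) =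
        (d X : ℂ) * (Nat.card X : ℂ)) ∧ ∀ X Y : Subgroup G, X ≤ Y → d Y ≤ d X := by
  obtain ⟨n, ρ, _, hρ⟩ := χ.2
  refine ⟨fun X => finrank ℂ (h3_fixedSpace ρ X), ?_, ?_⟩
  · intro X
    rw [← hρ]
    exact h3_sum_eq_finrank ρ X
  · intro X Y h
    exact Submodule.finrank_mono (h3_fixedSpace_anti ρ h)

theorem h6_orderOf_rR : orderOf (S.ι h6_rR) = 2 := by
  have h := sq_of_cR h6_rR h6_cR_rR
  apply orderOf_eq_prime
  · rw [pow_two, ← map_mul, h.1, map_one]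
  · intro h1
    exact h.2 ((S.ι_eq_one_iff _).1 h1)

/-- the three sums of an irreducible character -/
theorem h6_three_sums (hconj : ∀ u : G, orderOf u = 2 → IsConj (S.ι tt) u)
    (χ : Cfsg.IrrCharacter G) :
    ∃ dH dSD dSL : ℕ, dH ≤ dSD ∧ dH ≤ dSL ∧
      (dH : ℂ) * 48 = (χ : G → ℂ) 1 + 13 * (χ : G → ℂ) (S.ι tt) + 8 * (χ : G → ℂ) (S.ι x3) +
        8 * (χ : G → ℂ) (S.ι r6) + 6 * (χ : G → ℂ) (S.ι r4) + 6 * (χ : G → ℂ) (S.ι r8a) +
        6 * (χ : G → ℂ) (S.ι r8b) ∧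
      (dSD : ℂ) * 16 = (χ : G → ℂ) 1 + 5 * (χ : G → ℂ) (S.ι tt) + 6 * (χ : G → ℂ) (S.ι r4) +
        2 * (χ : G → ℂ) (S.ι r8a) + 2 * (χ : G → ℂ) (S.ι r8b) ∧
      (dSL : ℂ) * 24 = (χ : G → ℂ) 1 + (χ : G → ℂ) (S.ι tt) + 8 * (χ : G → ℂ) (S.ι x3) +
        8 * (χ : G → ℂ) (S.ι r6) + 6 * (χ : G → ℂ) (S.ι r4) := by
  obtain ⟨d, hd, hmono⟩ := h6_char_sums χ
  have hcf : Cfsg.IsClassFunction G (χ : G → ℂ) :=
    IsCharacter.isClassFunction (IsIrrCharacter.isCharacter χ.2)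
  set F : M48 → ℂ := fun m => (χ : G → ℂ) (S.ι m) with hFdef
  have hF : ∀ m c : M48, F (c * m * c⁻¹) = F m := by
    intro m c
    show (χ : G → ℂ) (S.ι (c * m * c⁻¹)) = (χ : G → ℂ) (S.ι m)
    rw [map_mul, map_mul, map_inv]
    exact hcf _ _
  have hF1 : F 1 = (χ : G → ℂ) 1 := by
    show (χ : G → ℂ) (S.ι 1) = _
    rw [map_one]
  have hFR : F h6_rR = (χ : G → ℂ) (S.ι tt) := by
    show (χ : G → ℂ) (S.ι h6_rR) = _
    obtain ⟨c, hc⟩ := isConj_iff.1 (hconj _ (h6_orderOf_rR S))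
    rw [← hc]
    exact hcf _ _
  have leSD : h6_KSD.map S.ι ≤ h6_KH.map S.ι := Subgroup.map_mono (fun m _ => rfl)
  have leSL : h6_KSL.map S.ι ≤ h6_KH.map S.ι := Subgroup.map_mono (fun m _ => rfl)
  refine ⟨d (h6_KH.map S.ι), d (h6_KSD.map S.ι), d (h6_KSL.map S.ι), hmono _ _ leSD,
    hmono _ _ leSL, ?_, ?_, ?_⟩
  · have h := hd (h6_KH.map S.ι)
    rw [h6_sum_map S h6_KH h6_pH (fun m => Iff.rfl), h6_card_map, h6_card_KH,
      h6_sum_p h6_pH F hF] at h
    obtain ⟨c1, c2, c3', c4', c5, c6', c7, c8⟩ := h6_cnt_H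
    rw [c1, c2, c3', c4', c5, c6', c7, c8, hF1, hFR] at h
    push_cast at h
    rw [← h]
    ring
  · have h := hd (h6_KSD.map S.ι)
    rw [h6_sum_map S h6_KSD h6_pSD (fun m => Iff.rfl), h6_card_map, h6_card_KSD,
      h6_sum_p h6_pSD F hF] at h
    obtain ⟨c1, c2, c3', c4', c5, c6', c7, c8⟩ := h6_cnt_SD
    rw [c1, c2, c3', c4', c5, c6', c7, c8, hF1, hFR] at h
    push_cast at h
    rw [← h]
    ring
  · have h := hd (h6_KSL.map S.ι)
    rw [h6_sum_map S h6_KSL h6_pSL (fun m => Iff.rfl), h6_card_map, h6_card_KSL,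
      h6_sum_p h6_pSL F hF] at h
    obtain ⟨c1, c2, c3', c4', c5, c6', c7, c8⟩ := h6_cnt_SL
    rw [c1, c2, c3', c4', c5, c6', c7, c8, hF1, hFR] at h
    push_cast at h
    rw [← h]
    ring

end gside


/-! ### Candidates for the value at `x` -/

section main

variable {G : Type u} [Group G] [Fintype G]

theorem h6_row_eqs (C : Ctx G) (χ : Cfsg.IrrCharacter G) (deg vt v4 v6 v8 : ℤ) (w : ℂ)
    (h1 : (χ : G → ℂ) 1 = (deg : ℂ)) (ht : (χ : G → ℂ) (C.S.ι tt) = (vt : ℂ))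
    (h4 : (χ : G → ℂ) (C.S.ι r4) = (v4 : ℂ)) (h6 : (χ : G → ℂ) (C.S.ι r6) = (v6 : ℂ))
    (h8a : (χ : G → ℂ) (C.S.ι r8a) = (v8 : ℂ) + w) (h8b : (χ : G → ℂ) (C.S.ι r8b) = (v8 : ℂ) - w) :
    ∃ dH dSD dSL : ℕ, dH ≤ dSD ∧ dH ≤ dSL ∧
      16 * (dSD : ℤ) = deg + 5 * vt + 6 * v4 + 4 * v8 ∧
      24 * (dSL : ℤ) = 48 * (dH : ℤ) - 12 * vt - 12 * v8 ∧
      8 * (χ : G → ℂ) C.x =
        ((48 * (dH : ℤ) - (deg + 13 * vt + 6 * v4 + 8 * v6 + 12 * v8) : ℤ) : ℂ) := by
  obtain ⟨dH, dSD, dSL, l1, l2, eH, eSD, eSL⟩ := h6_three_sums C.S C.conj2 χ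
  rw [h1, ht, h4, h6, h8a, h8b] at eH
  rw [h1, ht, h4, h8a, h8b] at eSD
  rw [h1, ht, h4, h6] at eSL
  refine ⟨dH, dSD, dSL, l1, l2, ?_, ?_, ?_⟩
  · have : ((16 * (dSD : ℤ) : ℤ) : ℂ) = ((deg + 5 * vt + 6 * v4 + 4 * v8 : ℤ) : ℂ) := by
      push_cast
      linear_combination eSD
    exact_mod_cast this
  · have : ((24 * (dSL : ℤ) : ℤ) : ℂ) = ((48 * (dH : ℤ) - 12 * vt - 12 * v8 : ℤ) : ℂ) := by
      push_cast
      linear_combination eSL - eH
    exact_mod_cast this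
  · push_cast
    show 8 * (χ : G → ℂ) (C.S.ι x3) = _
    linear_combination (-1 : ℂ) * eH

theorem h6_int_of (c : ℂ) (d : ℕ) (s q : ℤ) (hs : s = 8 * q)
    (h : 8 * c = ((48 * (d : ℤ) - s : ℤ) : ℂ)) : c = ((6 * (d : ℤ) - q : ℤ) : ℂ) := by
  subst hs
  push_cast at h ⊢
  linear_combination h / 8

/-- an integer combination `a + s2 b`, `a - s2 b` both zero -/
theorem h6_s2_split (a b : ℤ) (h1 : (a : ℂ) + s2 * (b : ℂ) = 0) (h2 : (a : ℂ) - s2 * (b : ℂ) = 0) :
    a = 0 ∧ b = 0 := by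
  have ha : (a : ℂ) = 0 := by linear_combination (h1 + h2) / 2
  have hb : s2 * (b : ℂ) = 0 := by linear_combination (h1 - h2) / 2
  rcases mul_eq_zero.1 hb with h | h
  · exact absurd h s2_ne_zero
  · exact ⟨by exact_mod_cast ha, by exact_mod_cast h⟩

theorem h6_x_pow (C : Ctx G) : C.x ^ 3 = 1 := by
  show (C.S.ι x3) ^ 3 = 1
  rw [← map_pow, pow_succ, pow_two, x3_facts.2.1, map_one]

theorem h6_pow_ne : tt ^ 3 ≠ 1 ∧ r4 ^ 3 ≠ 1 ∧ r6 ^ 3 ≠ 1 ∧ r8a ^ 3 ≠ 1 ∧ r8b ^ 3 ≠ 1 := by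
  decide +kernel

theorem h6_not_conj (C : Ctx G) (m : M48) (hm : m ^ 3 ≠ 1) : ¬ IsConj C.x (C.S.ι m) := by
  intro h
  obtain ⟨c, hc⟩ := isConj_iff.1 h
  apply hm
  apply C.S.ι_injective
  rw [map_pow, map_one, ← hc, conj_pow, h6_x_pow, mul_one, mul_inv_cancel]

theorem h6_not_conj_one (C : Ctx G) : ¬ IsConj C.x (1 : G) := by
  intro h
  have h1 : C.x = 1 := by
    obtain ⟨c, hc⟩ := isConj_iff.1 h
    have : C.x = c⁻¹ * 1 * c := by rw [← hc]; group
    rw [this]; group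
  exact x3_facts.2.2.1 ((C.S.ι_eq_one_iff x3).1 h1)

/-- column orthogonality of `x` against `h`, split along the table -/
theorem h6_col (C : Ctx G) (T : Table C) [Fintype (Cfsg.IrrCharacter G)] (h : G)
    (hne : ¬ IsConj C.x h) :
    1 * conj (1 : ℂ) + (T.xU : G → ℂ) C.x * conj ((T.xU : G → ℂ) h) +
      (T.xV : G → ℂ) C.x * conj ((T.xV : G → ℂ) h) + (T.xP : G → ℂ) C.x * conj ((T.xP : G → ℂ) h) +
      (T.xQ : G → ℂ) C.x * conj ((T.xQ : G → ℂ) h) + (T.xS : G → ℂ) C.x * conj ((T.xS : G → ℂ) h) +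
      (T.xR : G → ℂ) C.x * conj ((T.xR : G → ℂ) h) + (T.xE : G → ℂ) C.x * conj ((T.xE : G → ℂ) h) +
      ∑ χ ∈ ([Cfsg.Agent.S0197.trivIrr G, T.xU, T.xV, T.xP, T.xQ, T.xS, T.xR,
        T.xE].toFinset)ᶜ, (χ : G → ℂ) C.x * conj ((χ : G → ℂ) h) = 0 := by
  have hco := column_orthogonality_aux C.x h
  rw [if_neg hne] at hco
  have hsplit := Finset.sum_add_sum_compl
    ([Cfsg.Agent.S0197.trivIrr G, T.xU, T.xV, T.xP, T.xQ, T.xS, T.xR, T.xE].toFinset)
    (fun χ : Cfsg.IrrCharacter G => (χ : G → ℂ) C.x * conj ((χ : G → ℂ) h))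
  rw [hco, List.sum_toFinset _ T.hnd] at hsplit
  have htriv : ∀ g : G, ((Cfsg.Agent.S0197.trivIrr G : Cfsg.IrrCharacter G) : G → ℂ) g = 1 :=
    fun _ => rfl
  simp only [List.map_cons, List.map_nil, List.sum_cons, List.sum_nil, htriv] at hsplit
  rw [← hsplit]
  ring


set_option maxHeartbeats 1600000 in
/-- **P3.** The values of the twelve irreducible characters at `x`.  (Spare copy: S2916 uses
helper2's `L33U/H2_ValX.values_at_x`, landed in the same minutes; renamed to avoid a clash.) -/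
theorem h6_values_at_x (C : Ctx G) (T : Table C) :
    (T.xU : G → ℂ) C.x = 3 ∧ (T.xV : G → ℂ) C.x = 4 ∧ (T.xP : G → ℂ) C.x = -1 ∧
    (T.xQ : G → ℂ) C.x = -1 ∧ (T.xS : G → ℂ) C.x = -1 ∧ (T.xR : G → ℂ) C.x = 0 ∧
    (T.xE : G → ℂ) C.x = 3 ∧
    (∀ χ : Cfsg.IrrCharacter G,
      χ ∉ [Cfsg.Agent.S0197.trivIrr G, T.xU, T.xV, T.xP, T.xQ, T.xS, T.xR, T.xE] →
      (χ : G → ℂ) C.x = -2) := by
  classical
  haveI : Finite (Cfsg.IrrCharacter G) := irr_finite
  haveI : Fintype (Cfsg.IrrCharacter G) := Fintype.ofFinite _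
  obtain ⟨U1, Ut, U4, U6, U8a, U8b⟩ := T.hU
  obtain ⟨V1, Vt, V4, V6, V8a, V8b⟩ := T.hV
  obtain ⟨P1, Pt, P4, P6, P8a, P8b⟩ := T.hP
  obtain ⟨Q1, Qt, Q4, Q6, Q8a, Q8b⟩ := T.hQ
  obtain ⟨S1, St, S4, S6, S8a, S8b⟩ := T.hS
  obtain ⟨R1, Rt, R4, R6, R8a, R8b⟩ := T.hR
  obtain ⟨E1, Et, E4, E6, E8a, E8b⟩ := T.hE
  -- the candidates
  obtain ⟨dU, aU, bU, lU1, lU2, eU2, eU3, eU1⟩ := h6_row_eqs C T.xU 12 4 0 1 0 0
    (by rw [U1]; norm_num) (by rw [Ut]; norm_num) (by rw [U4]; norm_num) (by rw [U6]; norm_num)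
    (by rw [U8a]; norm_num) (by rw [U8b]; norm_num)
  have kU := h6_int_of _ dU _ 9 (by norm_num) eU1
  obtain ⟨dV, aV, bV, lV1, lV2, eV2, eV3, eV1⟩ := h6_row_eqs C T.xV 13 (-3) 1 0 (-1) 0
    (by rw [V1]; norm_num) (by rw [Vt]; norm_num) (by rw [V4]; norm_num) (by rw [V6]; norm_num)
    (by rw [V8a]; norm_num) (by rw [V8b]; norm_num)
  have kV := h6_int_of _ dV _ (-4) (by norm_num) eV1
  obtain ⟨dP, aP, bP, lP1, lP2, eP2, eP3, eP1⟩ := h6_row_eqs C T.xP 26 2 2 (-1) 0 0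
    (by rw [P1]; norm_num) (by rw [Pt]; norm_num) (by rw [P4]; norm_num) (by rw [P6]; norm_num)
    (by rw [P8a]; norm_num) (by rw [P8b]; norm_num)
  have kP := h6_int_of _ dP _ 7 (by norm_num) eP1
  obtain ⟨dQ, aQ, bQ, lQ1, lQ2, eQ2, eQ3, eQ1⟩ := h6_row_eqs C T.xQ 26 (-2) 0 1 0 s2
    (by rw [Q1]; norm_num) (by rw [Qt]; norm_num) (by rw [Q4]; norm_num) (by rw [Q6]; norm_num)
    (by rw [Q8a]; norm_num) (by rw [Q8b]; norm_num)
  have kQ := h6_int_of _ dQ _ 1 (by norm_num) eQ1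
  obtain ⟨dS, aS, bS, lS1, lS2, eS2, eS3, eS1⟩ := h6_row_eqs C T.xS 26 (-2) 0 1 0 (-s2)
    (by rw [S1]; norm_num) (by rw [St]; norm_num) (by rw [S4]; norm_num) (by rw [S6]; norm_num)
    (by rw [S8a]; norm_num) (by rw [S8b]; norm_num)
  have kS := h6_int_of _ dS _ 1 (by norm_num) eS1
  obtain ⟨dR, aR, bR, lR1, lR2, eR2, eR3, eR1⟩ := h6_row_eqs C T.xR 27 3 (-1) 0 (-1) 0
    (by rw [R1]; norm_num) (by rw [Rt]; norm_num) (by rw [R4]; norm_num) (by rw [R6]; norm_num)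
    (by rw [R8a]; norm_num) (by rw [R8b]; norm_num)
  have kR := h6_int_of _ dR _ 6 (by norm_num) eR1
  obtain ⟨dE, aE, bE, lE1, lE2, eE2, eE3, eE1⟩ := h6_row_eqs C T.xE 39 (-1) (-1) (-1) 1 0
    (by rw [E1]; norm_num) (by rw [Et]; norm_num) (by rw [E4]; norm_num) (by rw [E6]; norm_num)
    (by rw [E8a]; norm_num) (by rw [E8b]; norm_num)
  have kE := h6_int_of _ dE _ 3 (by norm_num) eE1
  -- the other characters
  set L : List (Cfsg.IrrCharacter G) :=
    [Cfsg.Agent.S0197.trivIrr G, T.xU, T.xV, T.xP, T.xQ, T.xS, T.xR, T.xE] with hL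
  have hoth : ∀ χ : Cfsg.IrrCharacter G, ∃ d : ℕ, χ ∉ L →
      (d ≤ 1 ∧ (χ : G → ℂ) C.x = ((6 * (d : ℤ) - 2 : ℤ) : ℂ)) := by
    intro χ
    by_cases hχ : χ ∈ L
    · exact ⟨0, fun h => absurd hχ h⟩
    · obtain ⟨h1, hv⟩ := T.hoth χ hχ
      obtain ⟨d, a, b, l1, l2, e2, e3, e1⟩ := h6_row_eqs C χ 16 0 0 0 0 0
        (by rw [h1]; norm_num) (by rw [hv tt sing_tt]; norm_num)
        (by rw [hv r4 sing_r4]; norm_num) (by rw [hv r6 sing_r6]; norm_num)
        (by rw [hv r8a sing_r8a]; norm_num) (by rw [hv r8b sing_r8b]; norm_num)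
      exact ⟨d, fun _ => ⟨by omega, h6_int_of _ d _ 2 (by norm_num) e1⟩⟩
  choose dO hdO using hoth
  have hcardL : L.toFinset.card = 8 := by
    rw [List.toFinset_card_of_nodup T.hnd]
    rfl
  have hcardc : (L.toFinsetᶜ).card = 4 := by
    rw [Finset.card_compl, hcardL, ← Nat.card_eq_fintype_card, T.hcard]
  set n : ℕ := ∑ χ ∈ L.toFinsetᶜ, dO χ with hn
  have hsumO : ∑ χ ∈ L.toFinsetᶜ, (χ : G → ℂ) C.x = ((6 * (n : ℤ) - 8 : ℤ) : ℂ) := by
    have h1 : ∀ χ ∈ L.toFinsetᶜ, (χ : G → ℂ) C.x = 6 * (dO χ : ℂ) - 2 := by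
      intro χ hχ
      rw [Finset.mem_compl, List.mem_toFinset] at hχ
      rw [(hdO χ hχ).2]
      push_cast
      ring
    rw [Finset.sum_congr rfl h1, Finset.sum_sub_distrib, ← Finset.mul_sum, Finset.sum_const,
      hcardc, hn]
    push_cast
    ring
  -- the columns
  obtain ⟨nt, n4, n6, n8a, n8b⟩ := h6_pow_ne
  have vanO : ∀ m : M48, sing m = true →
      ∑ χ ∈ L.toFinsetᶜ, (χ : G → ℂ) C.x * conj ((χ : G → ℂ) (C.S.ι m)) = 0 := by
    intro m hm
    apply Finset.sum_eq_zero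
    intro χ hχ
    rw [Finset.mem_compl, List.mem_toFinset] at hχ
    rw [(T.hoth χ hχ).2 m hm, map_zero, mul_zero]
  have ct := h6_col C T (C.S.ι tt) (h6_not_conj C tt nt)
  have c4 := h6_col C T (C.S.ι r4) (h6_not_conj C r4 n4)
  have c6 := h6_col C T (C.S.ι r6) (h6_not_conj C r6 n6)
  have c8a := h6_col C T (C.S.ι r8a) (h6_not_conj C r8a n8a)
  have c8b := h6_col C T (C.S.ι r8b) (h6_not_conj C r8b n8b)
  have c1 := h6_col C T 1 (h6_not_conj_one C)
  rw [← hL, vanO tt sing_tt, Ut, Vt, Pt, Qt, St, Rt, Et, kU, kV, kP, kQ, kS, kR, kE] at ct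
  rw [← hL, vanO r4 sing_r4, U4, V4, P4, Q4, S4, R4, E4, kU, kV, kP, kQ, kS, kR, kE] at c4
  rw [← hL, vanO r6 sing_r6, U6, V6, P6, Q6, S6, R6, E6, kU, kV, kP, kQ, kS, kR, kE] at c6
  rw [← hL, vanO r8a sing_r8a, U8a, V8a, P8a, Q8a, S8a, R8a, E8a, kU, kV, kP, kQ, kS, kR, kE]
    at c8a
  rw [← hL, vanO r8b sing_r8b, U8b, V8b, P8b, Q8b, S8b, R8b, E8b, kU, kV, kP, kQ, kS, kR, kE]
    at c8b
  have hdegO : ∑ χ ∈ L.toFinsetᶜ, (χ : G → ℂ) C.x * conj ((χ : G → ℂ) 1) =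
      16 * ((6 * (n : ℤ) - 8 : ℤ) : ℂ) := by
    rw [← hsumO, Finset.mul_sum]
    apply Finset.sum_congr rfl
    intro χ hχ
    rw [Finset.mem_compl, List.mem_toFinset] at hχ
    rw [(T.hoth χ hχ).1]
    simp only [map_ofNat]
    ring
  rw [← hL, hdegO, U1, V1, P1, Q1, S1, R1, E1, kU, kV, kP, kQ, kS, kR, kE] at c1
  simp only [map_one, map_neg, map_zero, map_ofNat, conj_s2] at ct c4 c6 c8a c8b c1
  -- integer equations
  have it : 1 + 4 * (6 * (dU : ℤ) - 9) - 3 * (6 * (dV : ℤ) - -4) + 2 * (6 * (dP : ℤ) - 7) -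
      2 * (6 * (dQ : ℤ) - 1) - 2 * (6 * (dS : ℤ) - 1) + 3 * (6 * (dR : ℤ) - 6) -
      (6 * (dE : ℤ) - 3) = 0 := by
    have : ((1 + 4 * (6 * (dU : ℤ) - 9) - 3 * (6 * (dV : ℤ) - -4) + 2 * (6 * (dP : ℤ) - 7) -
      2 * (6 * (dQ : ℤ) - 1) - 2 * (6 * (dS : ℤ) - 1) + 3 * (6 * (dR : ℤ) - 6) -
      (6 * (dE : ℤ) - 3) : ℤ) : ℂ) = 0 := by
      push_cast at ct ⊢
      linear_combination ct
    exact_mod_cast this
  have i4 : 1 + (6 * (dV : ℤ) - -4) + 2 * (6 * (dP : ℤ) - 7) - (6 * (dR : ℤ) - 6) -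
      (6 * (dE : ℤ) - 3) = 0 := by
    have : ((1 + (6 * (dV : ℤ) - -4) + 2 * (6 * (dP : ℤ) - 7) - (6 * (dR : ℤ) - 6) -
      (6 * (dE : ℤ) - 3) : ℤ) : ℂ) = 0 := by
      push_cast at c4 ⊢
      linear_combination c4
    exact_mod_cast this
  have i6 : 1 + (6 * (dU : ℤ) - 9) - (6 * (dP : ℤ) - 7) + (6 * (dQ : ℤ) - 1) +
      (6 * (dS : ℤ) - 1) - (6 * (dE : ℤ) - 3) = 0 := by
    have : ((1 + (6 * (dU : ℤ) - 9) - (6 * (dP : ℤ) - 7) + (6 * (dQ : ℤ) - 1) +
      (6 * (dS : ℤ) - 1) - (6 * (dE : ℤ) - 3) : ℤ) : ℂ) = 0 := by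
      push_cast at c6 ⊢
      linear_combination c6
    exact_mod_cast this
  have i8 := h6_s2_split (1 - (6 * (dV : ℤ) - -4) - (6 * (dR : ℤ) - 6) + (6 * (dE : ℤ) - 3))
    ((6 * (dS : ℤ) - 1) - (6 * (dQ : ℤ) - 1))
    (by push_cast at c8a ⊢; linear_combination c8a)
    (by push_cast at c8b ⊢; linear_combination c8b)
  have i1 : 1 + 12 * (6 * (dU : ℤ) - 9) + 13 * (6 * (dV : ℤ) - -4) + 26 * (6 * (dP : ℤ) - 7) +
      26 * (6 * (dQ : ℤ) - 1) + 26 * (6 * (dS : ℤ) - 1) + 27 * (6 * (dR : ℤ) - 6) +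
      39 * (6 * (dE : ℤ) - 3) + 16 * (6 * (n : ℤ) - 8) = 0 := by
    have : ((1 + 12 * (6 * (dU : ℤ) - 9) + 13 * (6 * (dV : ℤ) - -4) + 26 * (6 * (dP : ℤ) - 7) +
      26 * (6 * (dQ : ℤ) - 1) + 26 * (6 * (dS : ℤ) - 1) + 27 * (6 * (dR : ℤ) - 6) +
      39 * (6 * (dE : ℤ) - 3) + 16 * (6 * (n : ℤ) - 8) : ℤ) : ℂ) = 0 := by
      push_cast at c1 ⊢
      linear_combination c1
    exact_mod_cast this
  obtain ⟨i8a, i8b⟩ := i8
  have fU : dU = 2 := by omega
  have fV : dV = 0 := by omega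
  have fR : dR = 1 := by omega
  have fP : dP = 1 := by omega
  have fQ : dQ = 0 := by omega
  have fS : dS = 0 := by omega
  have fE : dE = 1 := by omega
  have fn : n = 0 := by omega
  subst fU fV fR fP fQ fS fE
  refine ⟨?_, ?_, ?_, ?_, ?_, ?_, ?_, ?_⟩
  · rw [kU]; norm_num
  · rw [kV]; norm_num
  · rw [kP]; norm_num
  · rw [kQ]; norm_num
  · rw [kS]; norm_num
  · rw [kR]; norm_num
  · rw [kE]; norm_num
  · intro χ hχ
    have hz : dO χ = 0 := by
      have := (Finset.sum_eq_zero_iff.1 (hn ▸ fn)) χ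
        (by rw [Finset.mem_compl, List.mem_toFinset]; exact hχ)
      exact this
    rw [(hdO χ hχ).2, hz]
    norm_num

/-- **P3, second half.** `|C_G(x)| = 54`. -/
theorem h6_card_centralizer_x (C : Ctx G) (T : Table C) :
    Nat.card (Subgroup.centralizer ({C.x} : Set G)) = 54 :=
  h4_card_centralizer_of_values C T (h6_values_at_x C T)

end main

end Cfsg.Agent.L33U
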