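import Mathlib

/-!
# S2916 / L33U (helper7): homomorphisms from `DihedralGroup 3`, and sums over images of subgroups
-/

set_option autoImplicit false

namespace Cfsg.Agent.L33U

open DihedralGroup

section d3

variable {G : Type*} [Group G]

/-- powers of an element of order dividing 3, indexed by `ZMod 3` -/
def h7_pw (y : G) (i : ZMod 3) : G := y ^ i.val

theorem h7_pw_add (y : G) (hy : y ^ 3 = 1) (i j : ZMod 3) :
    h7_pw y (i + j) = h7_pw y i * h7_pw y j := by
  unfold h7_pw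
  rw [ZMod.val_add, ← pow_add, ← pow_eq_pow_mod _ hy]

theorem h7_pw_zero (y : G) : h7_pw y 0 = 1 := by
  unfold h7_pw
  rw [ZMod.val_zero, pow_zero]

theorem h7_pw_one (y : G) : h7_pw y 1 = y := by
  unfold h7_pw
  have : (1 : ZMod 3).val = 1 := rfl
  rw [this, pow_one]

theorem h7_pw_neg (y : G) (hy : y ^ 3 = 1) (i : ZMod 3) : h7_pw y (-i) = (h7_pw y i)⁻¹ := by
  have h := h7_pw_add y hy i (-i)
  rw [add_neg_cancel, h7_pw_zero] at h
  exact eq_inv_of_mul_eq_one_right h.symm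

theorem h7_pw_sub (y : G) (hy : y ^ 3 = 1) (i j : ZMod 3) :
    h7_pw y (j - i) = (h7_pw y i)⁻¹ * h7_pw y j := by
  rw [sub_eq_add_neg, add_comm, h7_pw_add y hy, h7_pw_neg y hy]

theorem h7_conj_pw (y s : G) (hsy : s * y * s⁻¹ = y⁻¹) (i : ZMod 3) :
    s * h7_pw y i * s⁻¹ = (h7_pw y i)⁻¹ := by
  unfold h7_pw
  have := map_pow (MulAut.conj s) y i.val
  rw [MulAut.conj_apply, MulAut.conj_apply, hsy, inv_pow] at this
  exact this

/-- the homomorphism from `DihedralGroup 3` given by an element `y` with `y ^ 3 = 1` and an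
element `s` with `s * s = 1` inverting it -/
def h7_d3Hom (y s : G) (hy : y ^ 3 = 1) (hs : s * s = 1) (hsy : s * y * s⁻¹ = y⁻¹) :
    DihedralGroup 3 →* G :=
  MonoidHom.mk' (fun d => match d with
    | r i => h7_pw y i
    | sr i => s * h7_pw y i) (by
    have hsinv : s⁻¹ = s := inv_eq_of_mul_eq_one_right hs
    have hc : ∀ i, s * h7_pw y i * s = (h7_pw y i)⁻¹ := by
      intro i
      have := h7_conj_pw y s hsy i
      rwa [hsinv] at this
    have hc' : ∀ i, h7_pw y i * s = s * (h7_pw y i)⁻¹ := by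
      intro i
      have h1 := hc i
      calc h7_pw y i * s = s * (s * h7_pw y i * s) := by
            rw [← mul_assoc, ← mul_assoc, hs, one_mul]
        _ = s * (h7_pw y i)⁻¹ := by rw [h1]
    rintro (i | i) (j | j)
    · show h7_pw y (i + j) = h7_pw y i * h7_pw y j
      exact h7_pw_add y hy i j
    · show s * h7_pw y (j - i) = h7_pw y i * (s * h7_pw y j)
      rw [h7_pw_sub y hy, ← mul_assoc (h7_pw y i), hc', mul_assoc]
    · show s * h7_pw y (i + j) = s * h7_pw y i * h7_pw y j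
      rw [h7_pw_add y hy, mul_assoc]
    · show h7_pw y (j - i) = s * h7_pw y i * (s * h7_pw y j)
      rw [h7_pw_sub y hy, ← mul_assoc, hc])

theorem h7_d3Hom_r (y s : G) (hy : y ^ 3 = 1) (hs : s * s = 1) (hsy : s * y * s⁻¹ = y⁻¹)
    (i : ZMod 3) : h7_d3Hom y s hy hs hsy (r i) = h7_pw y i := rfl

theorem h7_d3Hom_sr (y s : G) (hy : y ^ 3 = 1) (hs : s * s = 1) (hsy : s * y * s⁻¹ = y⁻¹)
    (i : ZMod 3) : h7_d3Hom y s hy hs hsy (sr i) = s * h7_pw y i := rfl

theorem h7_d3Hom_r_one (y s : G) (hy : y ^ 3 = 1) (hs : s * s = 1) (hsy : s * y * s⁻¹ = y⁻¹) :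
    h7_d3Hom y s hy hs hsy (r 1) = y := h7_pw_one y

theorem h7_d3Hom_sr_zero (y s : G) (hy : y ^ 3 = 1) (hs : s * s = 1) (hsy : s * y * s⁻¹ = y⁻¹) :
    h7_d3Hom y s hy hs hsy (sr 0) = s := by
  rw [h7_d3Hom_sr, h7_pw_zero, mul_one]

theorem h7_d3_gen : ∀ d : DihedralGroup 3,
    d ∈ Subgroup.closure ({r 1, sr 0} : Set (DihedralGroup 3)) := by
  have h1 : (r 1 : DihedralGroup 3) ∈ Subgroup.closure ({r 1, sr 0} : Set (DihedralGroup 3)) :=
    Subgroup.subset_closure (by simp)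
  have h2 : (sr 0 : DihedralGroup 3) ∈ Subgroup.closure ({r 1, sr 0} : Set (DihedralGroup 3)) :=
    Subgroup.subset_closure (by simp)
  have hr : ∀ i : ZMod 3, (r i : DihedralGroup 3) = r 1 ^ i.val := by decide
  have hsr : ∀ i : ZMod 3, (sr i : DihedralGroup 3) = sr 0 * r 1 ^ i.val := by decide
  rintro (i | i)
  · rw [hr i]; exact Subgroup.pow_mem _ h1 _
  · rw [hsr i]; exact Subgroup.mul_mem _ h2 (Subgroup.pow_mem _ h1 _)

/-- the homomorphism is injective when `y ≠ 1` and `s ≠ 1` -/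
theorem h7_d3Hom_injective (y s : G) (hy : y ^ 3 = 1) (hs : s * s = 1)
    (hsy : s * y * s⁻¹ = y⁻¹) (hy1 : y ≠ 1) (hs1 : s ≠ 1) :
    Function.Injective (h7_d3Hom y s hy hs hsy) := by
  rw [injective_iff_map_eq_one]
  set f := h7_d3Hom y s hy hs hsy with hf
  have hy2 : y ^ 2 ≠ 1 := by
    intro h
    apply hy1
    have : y = y ^ 3 * (y ^ 2)⁻¹ := by group
    rw [this, hy, h]; group
  have hpw : ∀ i : ZMod 3, h7_pw y i = 1 → i = 0 := by
    intro i hi
    fin_cases i
    · rfl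
    · change h7_pw y (1 : ZMod 3) = 1 at hi
      rw [h7_pw_one] at hi
      exact absurd hi hy1
    · exfalso
      apply hy2
      have h2 : ((2 : ZMod 3)).val = 2 := rfl
      have : h7_pw y (2 : ZMod 3) = y ^ 2 := by unfold h7_pw; rw [h2]
      rw [← this]
      exact hi
  rintro (i | i) h
  · have := hpw i h
    rw [this]; rfl
  · exfalso
    have h1 : s * h7_pw y i = 1 := h
    have h2 : s = (h7_pw y i)⁻¹ := eq_inv_of_mul_eq_one_left h1
    -- `s` has order dividing 3 and 2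
    have h3 : s ^ 3 = 1 := by
      rw [h2, inv_pow]
      unfold h7_pw
      rw [← pow_mul, mul_comm, pow_mul, hy, one_pow, inv_one]
    apply hs1
    have : s = s ^ 3 * (s * s)⁻¹ := by group
    rw [this, h3, hs]; group

end d3

end Cfsg.Agent.L33U
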