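import Mathlib
import Cfsg.Agent.L33U.Base

/-!
# S2916 / L33U (helper7): values of a character on involutions, on elements of order 3 commuting
with an involution, and on elements of order 6
-/

set_option autoImplicit false

namespace Cfsg.Agent.L33U

open Cfsg.Agent.S0197 Cfsg.Agent.Helper6 Cfsg.Agent.Helper6.H72

universe u

variable {G : Type u} [Group G] [Fintype G]

theorem h7_c3_of_cube : ∀ m : M48, m * m * m = 1 → m ≠ 1 → c3 m = true := by decide +kernel

theorem h7_c6_of_pow : ∀ m : M48, m * m * m * m * m * m = 1 → m * m ≠ 1 → m * m * m ≠ 1 →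
    c6 m = true := by decide +kernel

theorem h7_mem_N (C : Ctx G) (g : G) : g ∈ C.S.N ↔ g * C.t = C.t * g := by
  rw [C.hN, Subgroup.mem_centralizer_singleton_iff]
  rfl

theorem h7_t_sq (C : Ctx G) : C.t * C.t = 1 := by
  show C.S.ι tt * C.S.ι tt = 1
  rw [← map_mul, tt_mul_self, map_one]

theorem h7_t_ne (C : Ctx G) : C.t ≠ 1 := by
  intro h
  exact tt_ne_one ((C.S.ι_eq_one_iff tt).mp h)

omit [Fintype G] in
theorem h7_orderOf_two {u : G} (hu : u * u = 1) (hu1 : u ≠ 1) : orderOf u = 2 := by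
  apply orderOf_eq_prime
  · rw [sq]; exact hu
  · exact hu1

/-- all involutions have the value of `t` -/
theorem h7_val_invol (C : Ctx G) (χ : Cfsg.IrrCharacter G) (u : G) (hu : u * u = 1)
    (hu1 : u ≠ 1) : (χ : G → ℂ) u = (χ : G → ℂ) (C.S.ι tt) :=
  (char_conj χ (C.conj2 u (h7_orderOf_two hu hu1))).symm

/-- an element commuting with an involution is conjugate to an element of `N` -/
theorem h7_conj_into_N (C : Ctx G) (y u : G) (hu : u * u = 1) (hu1 : u ≠ 1)
    (hc : u * y = y * u) : ∃ (h : G) (m : M48), h⁻¹ * y * h = C.S.ι m := by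
  obtain ⟨h, hh⟩ := isConj_iff.mp (C.conj2 u (h7_orderOf_two hu hu1))
  have hmem : h⁻¹ * y * h ∈ C.S.N := by
    rw [h7_mem_N]
    have ht : C.t = h⁻¹ * u * h := by
      show C.S.ι tt = _
      rw [← hh]; group
    rw [ht]
    calc h⁻¹ * y * h * (h⁻¹ * u * h) = h⁻¹ * (y * u) * h := by group
      _ = h⁻¹ * (u * y) * h := by rw [hc]
      _ = h⁻¹ * u * h * (h⁻¹ * y * h) := by group
  obtain ⟨m, hm⟩ := C.S.exists_of_mem hmem
  exact ⟨h, m, hm.symm⟩

/-- elements of order 3 commuting with an involution have the value of `x` -/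
theorem h7_val_three (C : Ctx G) (χ : Cfsg.IrrCharacter G) (y u : G) (hy : y * y * y = 1)
    (hy1 : y ≠ 1) (hu : u * u = 1) (hu1 : u ≠ 1) (hc : u * y = y * u) :
    (χ : G → ℂ) y = (χ : G → ℂ) C.x := by
  obtain ⟨h, m, hm⟩ := h7_conj_into_N C y u hu hu1 hc
  have hconj : IsConj y (C.S.ι m) := by
    rw [isConj_iff]
    exact ⟨h⁻¹, by rw [inv_inv]; exact hm⟩
  rw [char_conj χ hconj]
  have hm3 : m * m * m = 1 := by
    apply C.S.ι_injective
    rw [map_mul, map_mul, map_one, ← hm]
    calc h⁻¹ * y * h * (h⁻¹ * y * h) * (h⁻¹ * y * h) = h⁻¹ * (y * y * y) * h := by group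
      _ = 1 := by rw [hy]; group
  have hm1 : m ≠ 1 := by
    rintro rfl
    rw [map_one] at hm
    apply hy1
    have : y = h * (h⁻¹ * y * h) * h⁻¹ := by group
    rw [this, hm]; group
  exact (value_of_class C χ m).2.2.2.2.2.2 (h7_c3_of_cube m hm3 hm1)

/-- elements of order 6 have the value of `r6` -/
theorem h7_val_six (C : Ctx G) (χ : Cfsg.IrrCharacter G) (g : G)
    (h6 : g * g * g * g * g * g = 1) (h2 : g * g ≠ 1) (h3 : g * g * g ≠ 1) :
    (χ : G → ℂ) g = (χ : G → ℂ) (C.S.ι r6) := by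
  have hu : (g * g * g) * (g * g * g) = 1 := by rw [← h6]; group
  have hc : (g * g * g) * g = g * (g * g * g) := by group
  obtain ⟨h, m, hm⟩ := h7_conj_into_N C g (g * g * g) hu h3 hc
  have hconj : IsConj g (C.S.ι m) := by
    rw [isConj_iff]
    exact ⟨h⁻¹, by rw [inv_inv]; exact hm⟩
  rw [char_conj χ hconj]
  have key : ∀ w : G, h⁻¹ * w * h = 1 → w = 1 := by
    intro w hw
    have : w = h * (h⁻¹ * w * h) * h⁻¹ := by group
    rw [this, hw]; group
  have hm6 : m * m * m * m * m * m = 1 := by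
    apply C.S.ι_injective
    simp only [map_mul, map_one, ← hm]
    calc h⁻¹ * g * h * (h⁻¹ * g * h) * (h⁻¹ * g * h) * (h⁻¹ * g * h) * (h⁻¹ * g * h) *
          (h⁻¹ * g * h) = h⁻¹ * (g * g * g * g * g * g) * h := by group
      _ = 1 := by rw [h6]; group
  have hm2 : m * m ≠ 1 := by
    intro hmm
    apply h2
    apply key
    have := congrArg C.S.ι hmm
    simp only [map_mul, map_one, ← hm] at this
    rw [← this]; group
  have hm3 : m * m * m ≠ 1 := by
    intro hmm
    apply h3
    apply key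
    have := congrArg C.S.ι hmm
    simp only [map_mul, map_one, ← hm] at this
    rw [← this]; group
  exact (value_of_class C χ m).2.2.2.1 (h7_c6_of_pow m hm6 hm2 hm3)

end Cfsg.Agent.L33U
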