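import Mathlib
import Cfsg.Agent.L33U.Base
import Cfsg.Agent.L33U.H7_D3
import Cfsg.Agent.L33U.H7_Values

/-!
# S2916 / L33U (helper7): the subgroup `F = ⟨x, ι r0⟩ × ⟨x', t⟩ ≅ S₃ × S₃` of a configuration
-/

set_option autoImplicit false
set_option linter.style.haveILetI false

namespace Cfsg.Agent.L33U

open Cfsg.Agent.S0197 Cfsg.Agent.Helper6 Cfsg.Agent.Helper6.H72 DihedralGroup

universe u

variable {G : Type u} [Group G] [Fintype G]

/-- the model of `S₃` -/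
abbrev D3 := DihedralGroup 3

/-- the involution `ι r0` -/
def Cfg.r {C : Ctx G} (K : Cfg C) : G := C.S.ι K.r0

theorem h7_x_cube (C : Ctx G) : C.x ^ 3 = 1 := by
  show C.S.ι x3 ^ 3 = 1
  rw [← map_pow]
  have : x3 ^ 3 = 1 := by
    rw [pow_succ, pow_two]; exact x3_facts.2.1
  rw [this, map_one]

theorem h7_x_ne (C : Ctx G) : C.x ≠ 1 := by
  intro h
  exact x3_facts.2.2.1 ((C.S.ι_eq_one_iff x3).mp h)

theorem h7_r0_facts {C : Ctx G} (K : Cfg C) :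
    cR K.r0 = true ∧ K.r0 * x3 * K.r0⁻¹ = x3⁻¹ := by
  rcases K.hr0 with h | h
  · rw [h]; exact ⟨x3_facts.2.2.2.1, x3_facts.2.2.2.2.2.2.1⟩
  · rw [h]; exact ⟨x3_facts.2.2.2.2.1, x3_facts.2.2.2.2.2.2.2⟩

theorem h7_r_sq {C : Ctx G} (K : Cfg C) : K.r * K.r = 1 := by
  show C.S.ι K.r0 * C.S.ι K.r0 = 1
  rw [← map_mul, (sq_of_cR K.r0 (h7_r0_facts K).1).1, map_one]

theorem h7_r_ne {C : Ctx G} (K : Cfg C) : K.r ≠ 1 := by
  intro h
  exact (sq_of_cR K.r0 (h7_r0_facts K).1).2 ((C.S.ι_eq_one_iff K.r0).mp h)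

theorem h7_r_x {C : Ctx G} (K : Cfg C) : K.r * C.x * K.r⁻¹ = C.x⁻¹ := by
  show C.S.ι K.r0 * C.S.ι x3 * (C.S.ι K.r0)⁻¹ = (C.S.ι x3)⁻¹
  rw [← map_inv, ← map_mul, ← map_mul, (h7_r0_facts K).2, map_inv]

theorem h7_t_x (C : Ctx G) : Commute C.x C.t := by
  show C.S.ι x3 * C.S.ι tt = C.S.ι tt * C.S.ι x3
  rw [← map_mul, ← map_mul, tt_central]

theorem h7_t_r {C : Ctx G} (K : Cfg C) : Commute K.r C.t := by
  show C.S.ι K.r0 * C.S.ι tt = C.S.ι tt * C.S.ι K.r0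
  rw [← map_mul, ← map_mul, tt_central]

theorem h7_x'_cube {C : Ctx G} (K : Cfg C) : K.x' ^ 3 = 1 := by
  rw [← K.hx'3]; exact pow_orderOf_eq_one _

theorem h7_x'_ne {C : Ctx G} (K : Cfg C) : K.x' ≠ 1 := by
  intro h
  have := K.hx'3
  rw [h, orderOf_one] at this
  omega

/-- `⟨x, ι r0⟩` -/
def Cfg.fA {C : Ctx G} (K : Cfg C) : D3 →* G :=
  h7_d3Hom C.x K.r (h7_x_cube C) (h7_r_sq K) (h7_r_x K)

/-- `⟨x', t⟩` -/
def Cfg.fB {C : Ctx G} (K : Cfg C) : D3 →* G :=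
  h7_d3Hom K.x' C.t (h7_x'_cube K) (h7_t_sq C) K.ht

theorem h7_comm {C : Ctx G} (K : Cfg C) (a b : D3) : Commute (K.fA a) (K.fB b) := by
  have cxx' : Commute C.x K.x' := K.hcomm.symm
  have cxt : Commute C.x C.t := h7_t_x C
  have crx' : Commute K.r K.x' := K.hr
  have crt : Commute K.r C.t := h7_t_r K
  rcases a with i | i <;> rcases b with j | j
  · show Commute (C.x ^ i.val) (K.x' ^ j.val)
    exact cxx'.pow_pow _ _
  · show Commute (C.x ^ i.val) (C.t * K.x' ^ j.val)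
    exact Commute.mul_right (cxt.pow_left _) (cxx'.pow_pow _ _)
  · show Commute (K.r * C.x ^ i.val) (K.x' ^ j.val)
    exact Commute.mul_left (crx'.pow_right _) (cxx'.pow_pow _ _)
  · show Commute (K.r * C.x ^ i.val) (C.t * K.x' ^ j.val)
    exact Commute.mul_left (Commute.mul_right crt (crx'.pow_right _))
      (Commute.mul_right (cxt.pow_left _) (cxx'.pow_pow _ _))

/-- the embedding of `S₃ × S₃` -/
def Cfg.φ {C : Ctx G} (K : Cfg C) : D3 × D3 →* G :=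
  K.fA.noncommCoprod K.fB (h7_comm K)

theorem h7_φ_apply {C : Ctx G} (K : Cfg C) (m : D3 × D3) : K.φ m = K.fA m.1 * K.fB m.2 := rfl

theorem h7_center_D3 : ∀ b : D3, (∀ b' : D3, b * b' = b' * b) → b = 1 := by decide

theorem h7_φ_injective {C : Ctx G} (K : Cfg C) : Function.Injective K.φ := by
  have hA : Function.Injective K.fA :=
    h7_d3Hom_injective _ _ _ _ _ (h7_x_ne C) (h7_r_ne K)
  have hB : Function.Injective K.fB :=
    h7_d3Hom_injective _ _ _ _ _ (h7_x'_ne K) (h7_t_ne C)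
  rw [Cfg.φ, MonoidHom.noncommCoprod_injective]
  refine ⟨hA, hB, ?_⟩
  rw [disjoint_iff_inf_le]
  rintro g ⟨⟨a, ha⟩, ⟨b, hb⟩⟩
  have hb1 : b = 1 := by
    apply h7_center_D3
    intro b'
    apply hB
    rw [map_mul, map_mul, hb]
    have : g = K.fA a := ha.symm
    rw [this]
    exact (h7_comm K a b').eq
  rw [Subgroup.mem_bot, ← hb, hb1, map_one]

theorem h7_φ_r1_1 {C : Ctx G} (K : Cfg C) : K.φ (r 1, 1) = C.x := by
  rw [h7_φ_apply, map_one, mul_one]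
  exact h7_d3Hom_r_one _ _ _ _ _

theorem h7_φ_sr0_1 {C : Ctx G} (K : Cfg C) : K.φ (sr 0, 1) = K.r := by
  rw [h7_φ_apply, map_one, mul_one]
  exact h7_d3Hom_sr_zero _ _ _ _ _

theorem h7_φ_1_r1 {C : Ctx G} (K : Cfg C) : K.φ (1, r 1) = K.x' := by
  rw [h7_φ_apply, map_one, one_mul]
  exact h7_d3Hom_r_one _ _ _ _ _

theorem h7_φ_1_sr0 {C : Ctx G} (K : Cfg C) : K.φ (1, sr 0) = C.t := by
  rw [h7_φ_apply, map_one, one_mul]
  exact h7_d3Hom_sr_zero _ _ _ _ _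

end Cfsg.Agent.L33U
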