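import Mathlib
import Cfsg.Prelude.Def_Characters
import Cfsg.Agent.M11U.H3_Rep

/-!
# S2916 / L33U, piece P5 (helper7): the fixed-vector trick

`h7_exists_dim`: for an irreducible character `χ`, the numbers `d X = |X|⁻¹ ∑_{x ∈ X} χ x` are
natural numbers, antitone in the subgroup `X`.
`h7_sup_ne_top`: the numerical core of P5 (`H = C(t)` of order 48, `R = D12`, `F₀ < F` of orders
18, 36): `H ⊔ F ≠ ⊤`.
-/

set_option autoImplicit false
set_option linter.style.haveILetI false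

namespace Cfsg.Agent.L33U

open Cfsg.Agent.M11U Module
open Classical

universe u

/-- dimensions of the fixed spaces, as an antitone function of the subgroup -/
theorem h7_exists_dim {G : Type u} [Group G] [Fintype G] (χ : Cfsg.IrrCharacter G) :
    ∃ d : Subgroup G → ℕ,
      (∀ X : Subgroup G, ∑ g : G, (if g ∈ X then (χ : G → ℂ) g else 0) =
        (d X : ℂ) * (Nat.card X : ℂ)) ∧
      (∀ X Y : Subgroup G, X ≤ Y → d Y ≤ d X) := by
  classical
  obtain ⟨n, ρ, _, hρ⟩ := χ.2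
  refine ⟨fun X => finrank ℂ (h3_fixedSpace ρ X), ?_, ?_⟩
  · intro X
    rw [← hρ]
    exact h3_sum_eq_finrank ρ X
  · intro X Y hXY
    exact Submodule.finrank_mono (h3_fixedSpace_anti ρ hXY)

/-- **P5, numerical core.** -/
theorem h7_sup_ne_top {G : Type u} [Group G] [Fintype G] (χ : Cfsg.IrrCharacter G)
    (hχ : (χ : G → ℂ) 1 ≠ 1)
    (H R F0 F : Subgroup G) (hRH : R ≤ H) (hRF : R ≤ F) (hF0F : F0 ≤ F)
    (hH : Nat.card H = 48) (hR : Nat.card R = 12) (hF0 : Nat.card F0 = 18)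
    (hF : Nat.card F = 36) (c : ℂ)
    (sH : ∑ g : G, (if g ∈ H then (χ : G → ℂ) g else 0) = 96)
    (sR : ∑ g : G, (if g ∈ R then (χ : G → ℂ) g else 0) = 48)
    (sF0 : ∑ g : G, (if g ∈ F0 then (χ : G → ℂ) g else 0) = 42 + 4 * c)
    (sF : ∑ g : G, (if g ∈ F then (χ : G → ℂ) g else 0) = 96 + 4 * c) :
    H ⊔ F ≠ ⊤ := by
  obtain ⟨d, hd, hanti⟩ := h7_exists_dim χ
  have eH := hd H
  have eR := hd R
  have eF0 := hd F0
  have eF := hd F
  rw [sH, hH] at eH
  rw [sR, hR] at eR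
  rw [sF0, hF0] at eF0
  rw [sF, hF] at eF
  have dH : d H = 2 := by
    have : ((d H : ℕ) : ℂ) = 2 := by
      have h : (96 : ℂ) = 2 * ((48 : ℕ) : ℂ) := by norm_num
      rw [h] at eH
      exact (mul_right_cancel₀ (by norm_num) eH).symm
    exact_mod_cast this
  have dR : d R = 4 := by
    have : ((d R : ℕ) : ℂ) = 4 := by
      have h : (48 : ℂ) = 4 * ((12 : ℕ) : ℂ) := by norm_num
      rw [h] at eR
      exact (mul_right_cancel₀ (by norm_num) eR).symm
    exact_mod_cast this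
  -- `2 d_F = d_{F0} + 3`
  have hrel : 2 * d F = d F0 + 3 := by
    have h1 : (2 * d F : ℂ) = (d F0 : ℂ) + 3 := by
      have e1 : (4 : ℂ) * c = (d F : ℂ) * ((36 : ℕ) : ℂ) - 96 := by rw [← eF]; ring
      have e2 : (4 : ℂ) * c = (d F0 : ℂ) * ((18 : ℕ) : ℂ) - 42 := by rw [← eF0]; ring
      have e3 : (d F : ℂ) * 36 - 96 = (d F0 : ℂ) * 18 - 42 := by
        have := e1.symm.trans e2
        push_cast at this
        exact this
      linear_combination e3 / 18
    exact_mod_cast h1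
  have hle : d F ≤ d F0 := hanti F0 F hF0F
  have dF3 : 3 ≤ d F := by omega
  refine sup_ne_top_of_char_sums χ hχ H R F hRH hRF (d H) (d R) (d F) (hd H) (hd R) (hd F) ?_
  omega

end Cfsg.Agent.L33U
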