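import Mathlib
import Cfsg.Agent.L33U.Base
import Cfsg.Agent.L33U.H7_Cfg
import Cfsg.Agent.M11U.H3_Rep

/-!
# S2916 / L33U, piece P5 (helper7): `χ_U` has a nonzero vector fixed by `P1 = N ⊔ ⟨x'⟩`
-/

set_option autoImplicit false
set_option linter.style.haveILetI false

namespace Cfsg.Agent.L33U

open Cfsg.Agent.S0197 Cfsg.Agent.Helper6 Cfsg.Agent.Helper6.H72 DihedralGroup
open Cfsg.Agent.M11U Module
open Classical

universe u

variable {G : Type u} [Group G] [Fintype G]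

/-! ### the model `S₃ × S₃` -/

/-- the type of an element of `S₃ × S₃`: `0` identity, `1` order 3 in one factor, `2` order 3
diagonal, `3` involution, `4` order 6 -/
def h7_ty (m : D3 × D3) : Fin 5 :=
  if m = 1 then 0
  else if m * m = 1 then 3
  else if m * m * m = 1 then (if m.1 = 1 ∨ m.2 = 1 then 1 else 2)
  else 4

theorem h7_ty0 : ∀ m : D3 × D3, h7_ty m = 0 → m = 1 := by decide
theorem h7_ty3 : ∀ m : D3 × D3, h7_ty m = 3 → m * m = 1 ∧ m ≠ 1 := by decide
theorem h7_ty1 : ∀ m : D3 × D3, h7_ty m = 1 → m * m * m = 1 ∧ m ≠ 1 ∧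
    ∃ u : D3 × D3, u * u = 1 ∧ u ≠ 1 ∧ u * m = m * u := by decide
theorem h7_ty2 : ∀ m : D3 × D3, h7_ty m = 2 →
    ∃ g : D3 × D3, g * ((r 1 : D3), (r 1 : D3)) * g⁻¹ = m := by decide
theorem h7_ty4 : ∀ m : D3 × D3, h7_ty m = 4 →
    m * m * m * m * m * m = 1 ∧ m * m ≠ 1 ∧ m * m * m ≠ 1 := by decide

/-- membership in `F₀ = ⟨x⟩ × ⟨x', t⟩` -/
def h7_pF0 (m : D3 × D3) : Bool := decide (∃ i : ZMod 3, m.1 = r i)
/-- membership in `D12 = ⟨x, ι r0⟩ × ⟨t⟩` -/
def h7_pR (m : D3 × D3) : Bool := decide (m.2 = 1 ∨ m.2 = sr 0)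
/-- membership in `E = ⟨x⟩ × ⟨x'⟩` -/
def h7_pE (m : D3 × D3) : Bool := decide ((∃ i : ZMod 3, m.1 = r i) ∧ ∃ i : ZMod 3, m.2 = r i)

/-- membership in `F` (everything) -/
def h7_pT (_ : D3 × D3) : Bool := true

/-- a subgroup from a boolean predicate -/
def h7_sub (p : D3 × D3 → Bool) (h1 : p 1 = true)
    (hm : ∀ a b, p a = true → p b = true → p (a * b) = true)
    (hi : ∀ a, p a = true → p a⁻¹ = true) : Subgroup (D3 × D3) where
  carrier := {m | p m = true}
  one_mem' := h1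
  mul_mem' := fun {a b} ha hb => hm a b ha hb
  inv_mem' := fun {a} ha => hi a ha

/-- `F₀` in the model -/
def h7_KF0 : Subgroup (D3 × D3) := h7_sub h7_pF0 (by decide) (by decide) (by decide)
/-- `D12` in the model -/
def h7_KR : Subgroup (D3 × D3) := h7_sub h7_pR (by decide) (by decide) (by decide)
/-- `F` in the model -/
def h7_KF : Subgroup (D3 × D3) := h7_sub h7_pT (by decide) (by decide) (by decide)
/-- `E` in the model -/
def h7_KE : Subgroup (D3 × D3) := h7_sub h7_pE (by decide) (by decide) (by decide)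

theorem h7_card_sub (p : D3 × D3 → Bool) (h1 hm hi) :
    Nat.card (h7_sub p h1 hm hi) = (Finset.univ.filter (fun m => p m = true)).card := by
  rw [Nat.card_eq_fintype_card, Fintype.card_subtype]
  congr 1
  ext m
  simp only [Finset.mem_filter, Finset.mem_univ, true_and]
  rfl

/-- counting by types -/
theorem h7_sum_types (p : D3 × D3 → Bool) (w : Fin 5 → ℂ) :
    ∑ m : D3 × D3, (if p m = true then w (h7_ty m) else 0) =
      ∑ k : Fin 5, ((Finset.univ.filter (fun m => p m = true ∧ h7_ty m = k)).card : ℂ) * w k := by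
  have h1 : ∀ m : D3 × D3, (if p m = true then w (h7_ty m) else 0) =
      ∑ k : Fin 5, (if p m = true ∧ h7_ty m = k then w k else 0) := by
    intro m
    by_cases hp : p m = true
    · simp only [hp, true_and, if_true]
      rw [Finset.sum_ite_eq]
      simp
    · simp [hp]
  simp_rw [h1]
  rw [Finset.sum_comm]
  apply Finset.sum_congr rfl
  intro k _
  rw [← Finset.sum_filter, Finset.sum_const, nsmul_eq_mul]

theorem h7_cnt_F : ∀ k : Fin 5,
    (Finset.univ.filter (fun m : D3 × D3 => h7_pT m = true ∧ h7_ty m = k)).card =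
      ![1, 4, 4, 15, 12] k := by decide
theorem h7_cnt_F0 : ∀ k : Fin 5,
    (Finset.univ.filter (fun m : D3 × D3 => h7_pF0 m = true ∧ h7_ty m = k)).card =
      ![1, 4, 4, 3, 6] k := by decide
theorem h7_cnt_R : ∀ k : Fin 5,
    (Finset.univ.filter (fun m : D3 × D3 => h7_pR m = true ∧ h7_ty m = k)).card =
      ![1, 2, 0, 7, 2] k := by decide

theorem h7_card_KF : Nat.card h7_KF = 36 := by
  rw [h7_KF, h7_card_sub]; decide
theorem h7_card_KF0 : Nat.card h7_KF0 = 18 := by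
  rw [h7_KF0, h7_card_sub]; decide
theorem h7_card_KR : Nat.card h7_KR = 12 := by
  rw [h7_KR, h7_card_sub]; decide
theorem h7_card_KE : Nat.card h7_KE = 9 := by
  rw [h7_KE, h7_card_sub]; decide

/-! ### sums over images -/

/-- the sum over the image of a subgroup under an injective homomorphism -/
theorem h7_sum_map {M : Type*} [Group M] [Fintype M] (φ : M →* G) (hφ : Function.Injective φ)
    (K : Subgroup M) (f : G → ℂ) :
    ∑ g : G, (if g ∈ K.map φ then f g else 0) = ∑ m : M, (if m ∈ K then f (φ m) else 0) := by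
  rw [← Finset.sum_filter, ← Finset.sum_filter]
  have : Finset.univ.filter (fun g : G => g ∈ K.map φ) =
      (Finset.univ.filter (fun m : M => m ∈ K)).image φ := by
    ext g
    simp only [Finset.mem_filter, Finset.mem_univ, true_and, Finset.mem_image, Subgroup.mem_map]
  rw [this, Finset.sum_image]
  intro a _ b _ hab
  exact hφ hab

omit [Fintype G] in
theorem h7_card_map {M : Type*} [Group M] [Finite M] (φ : M →* G) (hφ : Function.Injective φ)
    (K : Subgroup M) : Nat.card (K.map φ) = Nat.card K :=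
  Nat.card_congr (Subgroup.equivMapOfInjective K φ hφ).toEquiv.symm

/-! ### the values of `χ_U` on `F` -/

/-- the weights -/
def h7_w (c : ℂ) : Fin 5 → ℂ := ![12, 3, c, 4, 1]

theorem h7_v0 {α : Type*} (a b c d e : α) : (![a, b, c, d, e] : Fin 5 → α) 0 = a := rfl
theorem h7_v1 {α : Type*} (a b c d e : α) : (![a, b, c, d, e] : Fin 5 → α) 1 = b := rfl
theorem h7_v2 {α : Type*} (a b c d e : α) : (![a, b, c, d, e] : Fin 5 → α) 2 = c := rfl
theorem h7_v3 {α : Type*} (a b c d e : α) : (![a, b, c, d, e] : Fin 5 → α) 3 = d := rfl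
theorem h7_v4 {α : Type*} (a b c d e : α) : (![a, b, c, d, e] : Fin 5 → α) 4 = e := rfl

theorem h7_val_φ (C : Ctx G) (T : Table C) (hx : (T.xU : G → ℂ) C.x = 3) (K : Cfg C)
    (m : D3 × D3) :
    (T.xU : G → ℂ) (K.φ m) = h7_w ((T.xU : G → ℂ) (K.φ ((r 1 : D3), (r 1 : D3)))) (h7_ty m) := by
  have hinj := h7_φ_injective K
  have hne : ∀ a : D3 × D3, a ≠ 1 → K.φ a ≠ 1 := by
    intro a ha h
    apply ha
    apply hinj
    rw [h, map_one]
  have hk : ∀ k : Fin 5, k = 0 ∨ k = 1 ∨ k = 2 ∨ k = 3 ∨ k = 4 := by decide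
  rcases hk (h7_ty m) with h | h | h | h | h
  · rw [h, h7_ty0 m h, map_one]
    exact T.hU.1
  · rw [h]
    obtain ⟨h3, h1, u, hu, hu1, hc⟩ := h7_ty1 m h
    have := h7_val_three C T.xU (K.φ m) (K.φ u)
      (by rw [← map_mul, ← map_mul, h3, map_one]) (hne m h1)
      (by rw [← map_mul, hu, map_one]) (hne u hu1)
      (by rw [← map_mul, ← map_mul, hc])
    rw [this, hx]
    rfl
  · rw [h]
    obtain ⟨g, hg⟩ := h7_ty2 m h
    have hconj : IsConj (K.φ ((r 1 : D3), (r 1 : D3))) (K.φ m) := by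
      rw [isConj_iff]
      exact ⟨K.φ g, by rw [← map_inv, ← map_mul, ← map_mul, hg]⟩
    rw [← char_conj T.xU hconj]
    rfl
  · rw [h]
    obtain ⟨h2, h1⟩ := h7_ty3 m h
    have := h7_val_invol C T.xU (K.φ m) (by rw [← map_mul, h2, map_one]) (hne m h1)
    rw [this, T.hU.2.1]
    rfl
  · rw [h]
    obtain ⟨h6, h2, h3⟩ := h7_ty4 m h
    have := h7_val_six C T.xU (K.φ m)
      (by simp only [← map_mul]; rw [h6, map_one])
      (by rw [← map_mul]; exact hne _ h2)
      (by rw [← map_mul, ← map_mul]; exact hne _ h3)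
    rw [this, T.hU.2.2.2.1]
    rfl

theorem h7_ite_sub (p : D3 × D3 → Bool) (h1 hm hi) (f : D3 × D3 → ℂ) :
    ∑ m : D3 × D3, (if m ∈ h7_sub p h1 hm hi then f m else 0) =
      ∑ m : D3 × D3, (if p m = true then f m else 0) := by
  apply Finset.sum_congr rfl
  intro m _
  by_cases h : p m = true
  · have h' : m ∈ h7_sub p h1 hm hi := h
    rw [if_pos h', if_pos h]
  · have h' : m ∉ h7_sub p h1 hm hi := h
    rw [if_neg h', if_neg h]

/-- the sum of `χ_U` over the image of a model subgroup -/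
theorem h7_sum_sub (C : Ctx G) (T : Table C) (hx : (T.xU : G → ℂ) C.x = 3) (K : Cfg C)
    (p : D3 × D3 → Bool) (h1 hm hi) :
    ∑ g : G, (if g ∈ (h7_sub p h1 hm hi).map K.φ then (T.xU : G → ℂ) g else 0) =
      ∑ k : Fin 5, ((Finset.univ.filter (fun m => p m = true ∧ h7_ty m = k)).card : ℂ) *
        h7_w ((T.xU : G → ℂ) (K.φ ((r 1 : D3), (r 1 : D3)))) k := by
  rw [h7_sum_map K.φ (h7_φ_injective K), h7_ite_sub]
  have hv := h7_val_φ C T hx K
  generalize (T.xU : G → ℂ) (K.φ ((r 1 : D3), (r 1 : D3))) = c at hv ⊢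
  rw [← h7_sum_types p (h7_w c)]
  apply Finset.sum_congr rfl
  intro m _
  rw [hv m]

/-- the values of `χ_U` on `N`, as a function on the model -/
def h7_valZ (m : M48) : ℤ :=
  if m = 1 then 12 else if cT m = true ∨ cR m = true then 4 else if c3 m = true then 3
    else if c6 m = true then 1 else 0

theorem h7_valZ_cls : ∀ m : M48,
    (m = 1 → h7_valZ m = 12) ∧ (cT m = true → h7_valZ m = 4) ∧ (cR m = true → h7_valZ m = 4) ∧
    (c3 m = true → h7_valZ m = 3) ∧ (c6 m = true → h7_valZ m = 1) ∧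
    (c4 m = true → h7_valZ m = 0) ∧ (c8a m = true → h7_valZ m = 0) ∧
    (c8b m = true → h7_valZ m = 0) := by decide +kernel

theorem h7_sum_valZ : ∑ m : M48, h7_valZ m = 96 := by decide +kernel

theorem h7_N_eq_map (C : Ctx G) : C.S.N = (⊤ : Subgroup M48).map C.S.ι := by
  ext g
  constructor
  · intro hg
    obtain ⟨m, hm⟩ := C.S.exists_of_mem hg
    exact Subgroup.mem_map.mpr ⟨m, Subgroup.mem_top _, hm⟩
  · intro hg
    obtain ⟨m, -, rfl⟩ := Subgroup.mem_map.mp hg
    exact C.S.ι_mem m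

/-- the sum of `χ_U` over `N` -/
theorem h7_sum_N (C : Ctx G) (T : Table C) (hx : (T.xU : G → ℂ) C.x = 3) :
    ∑ g : G, (if g ∈ C.S.N then (T.xU : G → ℂ) g else 0) = 96 := by
  rw [h7_N_eq_map C, h7_sum_map C.S.ι C.S.ι_injective]
  have hval : ∀ m : M48, (T.xU : G → ℂ) (C.S.ι m) = ((h7_valZ m : ℤ) : ℂ) := by
    intro m
    have hv := value_of_class C T.xU m
    obtain ⟨h12, h4, h40, h61, h8a, h8b⟩ := T.hU
    obtain ⟨z1, zT, zR, z3, z6, z4, z8a, z8b⟩ := h7_valZ_cls m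
    rcases cls_cases m with h | h | h | h | h | h | h | h
    · rw [z1 h, h, map_one, h12]; norm_num
    · rw [zT h, hv.1 h, h4]; norm_num
    · rw [z3 h, hv.2.2.2.2.2.2 h, hx]; norm_num
    · rw [z6 h, hv.2.2.2.1 h, h61]; norm_num
    · rw [z4 h, hv.2.2.1 h, h40]; norm_num
    · rw [zR h, hv.2.1 h, h4]; norm_num
    · rw [z8a h, hv.2.2.2.2.1 h, h8a]; norm_num
    · rw [z8b h, hv.2.2.2.2.2.1 h, h8b]; norm_num
  have h1 : ∑ m : M48, (if m ∈ (⊤ : Subgroup M48) then (T.xU : G → ℂ) (C.S.ι m) else 0) =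
      ∑ m : M48, ((h7_valZ m : ℤ) : ℂ) := by
    apply Finset.sum_congr rfl
    intro m _
    rw [if_pos (Subgroup.mem_top m), hval m]
  rw [h1, ← Int.cast_sum, h7_sum_valZ]
  norm_num

omit [Fintype G] in
/-- a vector fixed by `H` and by `F` is fixed by every subgroup of `H ⊔ F` -/
theorem h7_fixedSpace_sup {n : ℕ} (ρ : Representation ℂ G (Fin n → ℂ)) (H F P : Subgroup G)
    (hP : P ≤ H ⊔ F) : h3_fixedSpace ρ H ⊓ h3_fixedSpace ρ F ≤ h3_fixedSpace ρ P := by
  intro v hv g hg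
  let St : Subgroup G :=
    { carrier := {g | ρ g v = v}
      one_mem' := by show ρ 1 v = v; rw [map_one]; rfl
      mul_mem' := by
        intro a b ha hb
        show ρ (a * b) v = v
        rw [map_mul, Module.End.mul_apply, hb, ha]
      inv_mem' := by
        intro a ha
        show ρ a⁻¹ v = v
        have h1 : ρ a⁻¹ (ρ a v) = v := by
          rw [← Module.End.mul_apply, ← map_mul, inv_mul_cancel, map_one]; rfl
        rw [ha] at h1
        exact h1 }
  have hH : H ≤ St := fun h hh => hv.1 h hh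
  have hF : F ≤ St := fun f hf => hv.2 f hf
  exact (sup_le hH hF) (hP hg)

/-- **P5, core**: the numerical data give a nonzero vector fixed by `P ≤ H ⊔ F`. -/
theorem h7_hasFixed_core (χ : Cfsg.IrrCharacter G)
    (H R F0 F P : Subgroup G) (hRH : R ≤ H) (hRF : R ≤ F) (hF0F : F0 ≤ F) (hP : P ≤ H ⊔ F)
    (hH : Nat.card H = 48) (hR : Nat.card R = 12) (hF0 : Nat.card F0 = 18)
    (hF : Nat.card F = 36) (c : ℂ)
    (sH : ∑ g : G, (if g ∈ H then (χ : G → ℂ) g else 0) = 96)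
    (sR : ∑ g : G, (if g ∈ R then (χ : G → ℂ) g else 0) = 48)
    (sF0 : ∑ g : G, (if g ∈ F0 then (χ : G → ℂ) g else 0) = 42 + 4 * c)
    (sF : ∑ g : G, (if g ∈ F then (χ : G → ℂ) g else 0) = 96 + 4 * c) :
    HasFixed χ P := by
  obtain ⟨n, ρ, _, hρ⟩ := χ.2
  have hd : ∀ X : Subgroup G, ∑ g : G, (if g ∈ X then (χ : G → ℂ) g else 0) =
      (finrank ℂ (h3_fixedSpace ρ X) : ℂ) * (Nat.card X : ℂ) := by
    intro X
    rw [← hρ]
    exact h3_sum_eq_finrank ρ X
  set d : Subgroup G → ℕ := fun X => finrank ℂ (h3_fixedSpace ρ X) with hddef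
  have eH := hd H
  have eR := hd R
  have eF0 := hd F0
  have eF := hd F
  rw [sH, hH] at eH
  rw [sR, hR] at eR
  rw [sF0, hF0] at eF0
  rw [sF, hF] at eF
  have dH : d H = 2 := by
    have : ((d H : ℕ) : ℂ) = 2 := by
      have h : (96 : ℂ) = 2 * ((48 : ℕ) : ℂ) := by norm_num
      rw [h] at eH
      exact (mul_right_cancel₀ (by norm_num) eH).symm
    exact_mod_cast this
  have dR : d R = 4 := by
    have : ((d R : ℕ) : ℂ) = 4 := by
      have h : (48 : ℂ) = 4 * ((12 : ℕ) : ℂ) := by norm_num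
      rw [h] at eR
      exact (mul_right_cancel₀ (by norm_num) eR).symm
    exact_mod_cast this
  have hrel : 2 * d F = d F0 + 3 := by
    have h1 : (2 * d F : ℂ) = (d F0 : ℂ) + 3 := by
      have e1 : (4 : ℂ) * c = (d F : ℂ) * ((36 : ℕ) : ℂ) - 96 := by rw [← eF]; ring
      have e2 : (4 : ℂ) * c = (d F0 : ℂ) * ((18 : ℕ) : ℂ) - 42 := by rw [← eF0]; ring
      have e3 : (d F : ℂ) * 36 - 96 = (d F0 : ℂ) * 18 - 42 := by
        have := e1.symm.trans e2
        push_cast at this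
        exact this
      linear_combination e3 / 18
    exact_mod_cast h1
  have hle : d F ≤ d F0 := Submodule.finrank_mono (h3_fixedSpace_anti ρ hF0F)
  have dF3 : 3 ≤ d F := by omega
  -- the intersection of the fixed spaces
  have hsup : finrank ℂ ↥(h3_fixedSpace ρ H ⊔ h3_fixedSpace ρ F) ≤ d R :=
    Submodule.finrank_mono (sup_le (h3_fixedSpace_anti ρ hRH) (h3_fixedSpace_anti ρ hRF))
  have hadd := Submodule.finrank_sup_add_finrank_inf_eq (h3_fixedSpace ρ H) (h3_fixedSpace ρ F)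
  have hinf : 1 ≤ finrank ℂ ↥(h3_fixedSpace ρ H ⊓ h3_fixedSpace ρ F) := by
    have h1 : finrank ℂ ↥(h3_fixedSpace ρ H) = 2 := dH
    have h2 : 3 ≤ finrank ℂ ↥(h3_fixedSpace ρ F) := dF3
    omega
  have hPpos : 1 ≤ d P :=
    le_trans hinf (Submodule.finrank_mono (h7_fixedSpace_sup ρ H F P hP))
  exact ⟨d P, hPpos, hd P⟩

/-- **P5.** -/
theorem fixed_vector (C : Ctx G) (T : Table C) (hx : (T.xU : G → ℂ) C.x = 3) (K : Cfg C) :
    HasFixed T.xU K.P1 := by
  have hinj := h7_φ_injective K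
  -- the subgroups
  have hRF : h7_KR.map K.φ ≤ h7_KF.map K.φ :=
    Subgroup.map_mono (fun m _ => (rfl : h7_pT m = true))
  have hF0F : h7_KF0.map K.φ ≤ h7_KF.map K.φ :=
    Subgroup.map_mono (fun m _ => (rfl : h7_pT m = true))
  have hxN : C.x ∈ C.S.N := C.S.ι_mem x3
  have hrN : K.r ∈ C.S.N := C.S.ι_mem K.r0
  have htN : C.t ∈ C.S.N := C.S.ι_mem tt
  have hfA : ∀ d : D3, K.fA d ∈ C.S.N := by
    rintro (i | i)
    · exact Subgroup.pow_mem _ hxN _
    · exact Subgroup.mul_mem _ hrN (Subgroup.pow_mem _ hxN _)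
  have hRN : h7_KR.map K.φ ≤ C.S.N := by
    rintro g ⟨m, hm, rfl⟩
    have hm' : h7_pR m = true := hm
    rw [h7_φ_apply]
    apply Subgroup.mul_mem _ (hfA m.1)
    have h2 : m.2 = 1 ∨ m.2 = sr 0 := of_decide_eq_true hm'
    rcases h2 with h | h
    · rw [h, map_one]; exact Subgroup.one_mem _
    · rw [h]
      have : K.fB (sr 0) = C.t := h7_d3Hom_sr_zero _ _ _ _ _
      rw [this]; exact htN
  have hP : K.P1 ≤ C.S.N ⊔ h7_KF.map K.φ := by
    apply sup_le le_sup_left
    apply le_trans _ le_sup_right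
    rw [Subgroup.zpowers_le]
    exact ⟨(1, r 1), (rfl : h7_pT _ = true), h7_φ_1_r1 K⟩
  -- cardinalities
  have cN : Nat.card C.S.N = 48 := by
    rw [Nat.card_congr C.S.e.toEquiv, Nat.card_eq_fintype_card, card_M48]
  have cR : Nat.card (h7_KR.map K.φ) = 12 := by rw [h7_card_map K.φ hinj, h7_card_KR]
  have cF0 : Nat.card (h7_KF0.map K.φ) = 18 := by rw [h7_card_map K.φ hinj, h7_card_KF0]
  have cF : Nat.card (h7_KF.map K.φ) = 36 := by rw [h7_card_map K.φ hinj, h7_card_KF]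
  -- sums
  set c := (T.xU : G → ℂ) (K.φ ((r 1 : D3), (r 1 : D3))) with hc
  have sR : ∑ g : G, (if g ∈ h7_KR.map K.φ then (T.xU : G → ℂ) g else 0) = 48 := by
    rw [h7_KR, h7_sum_sub C T hx K, Fin.sum_univ_five]
    simp only [h7_cnt_R, h7_w, h7_v0, h7_v1, h7_v2, h7_v3, h7_v4]
    norm_num
  have sF0 : ∑ g : G, (if g ∈ h7_KF0.map K.φ then (T.xU : G → ℂ) g else 0) = 42 + 4 * c := by
    rw [h7_KF0, h7_sum_sub C T hx K, Fin.sum_univ_five]
    simp only [h7_cnt_F0, h7_w, h7_v0, h7_v1, h7_v2, h7_v3, h7_v4]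
    push_cast
    ring
  have sF : ∑ g : G, (if g ∈ h7_KF.map K.φ then (T.xU : G → ℂ) g else 0) = 96 + 4 * c := by
    rw [h7_KF, h7_sum_sub C T hx K, Fin.sum_univ_five]
    simp only [h7_cnt_F, h7_w, h7_v0, h7_v1, h7_v2, h7_v3, h7_v4]
    push_cast
    ring
  exact h7_hasFixed_core T.xU C.S.N (h7_KR.map K.φ) (h7_KF0.map K.φ) (h7_KF.map K.φ) K.P1
    hRN hRF hF0F hP cN cR cF0 cF c (h7_sum_N C T hx) sR sF0 sF

end Cfsg.Agent.L33U
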