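import Mathlib
import Cfsg.Agent.S0197.H5_Data
import Cfsg.Agent.GL23U.H4_Local
import Cfsg.Agent.Helper1.Sims3A

/-!
# S2916 / L33U, piece P6 (helper7): a proper subgroup containing `C_G(t) ≅ GL(2,3)` and of order
divisible by 9 has order 432 (index 13) in a simple group of order 5616
-/

set_option autoImplicit false
set_option linter.style.haveILetI false

namespace Cfsg.Agent.L33U

open Cfsg.Agent.S0197 Cfsg.Agent.GL23U

/-- an element of `GL(2,3)` commuting with all elements of order 3 is a scalar -/
theorem h7_comm_c3 : ∀ m : M48, (∀ a : M48, a * a * a = 1 → m * a = a * m) → m = 1 ∨ m = tt := by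
  decide +kernel

/-- the central involution is the square of a product of two elements of order 3 -/
theorem h7_tt_eq : ∃ a b : M48, a * a * a = 1 ∧ b * b * b = 1 ∧ (a * b) * (a * b) = tt := by
  decide +kernel

/-- a simple group of order 5616 has no subgroup of index 3 -/
theorem h7_no_index_three {G : Type*} [Group G] [Finite G] [IsSimpleGroup G]
    (hG : Nat.card G = 5616) (K : Subgroup G) : K.index ≠ 3 := by
  intro h3
  have h6 := Cfsg.Agent.Helper1.Sims3.index_normalCore_dvd_six K h3
  rcases IsSimpleGroup.eq_bot_or_eq_top_of_normal K.normalCore K.normalCore_normal with h | h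
  · rw [h, Subgroup.index_bot, hG] at h6
    omega
  · have : K = ⊤ := top_le_iff.mp (h ▸ K.normalCore_le)
    rw [this, Subgroup.index_top] at h3
    omega

/-- **P6.** -/
theorem h7_card_P1 {G : Type*} [Group G] [Finite G] [IsSimpleGroup G] (hG : Nat.card G = 5616)
    (t : G) (ht : orderOf t = 2) (e : ↥(Subgroup.centralizer ({t} : Set G)) ≃* M48)
    (P1 : Subgroup G) (hHP : Subgroup.centralizer ({t} : Set G) ≤ P1) (h9 : 9 ∣ Nat.card P1)
    (hne : P1 ≠ ⊤) : Nat.card P1 = 432 := by
  classical
  set H := Subgroup.centralizer ({t} : Set G) with hH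
  have hH48 : Nat.card H = 48 := by
    rw [Nat.card_congr e.toEquiv, Nat.card_eq_fintype_card, card_M48]
  have h48 : 48 ∣ Nat.card P1 := by rw [← hH48]; exact Subgroup.card_dvd_of_le hHP
  have h144 : 144 ∣ Nat.card P1 := by
    have : Nat.lcm 48 9 ∣ Nat.card P1 := Nat.lcm_dvd h48 h9
    have h : Nat.lcm 48 9 = 144 := by norm_num
    rwa [h] at this
  have hdvd : Nat.card P1 ∣ 5616 := by rw [← hG]; exact Subgroup.card_subgroup_dvd_card P1
  obtain ⟨k, hk⟩ := h144
  have hk39 : k ∣ 39 := by
    have : 144 * k ∣ 144 * 39 := by rw [← hk]; exact hdvd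
    exact Nat.dvd_of_mul_dvd_mul_left (by norm_num) this
  have hkle : k ≤ 39 := Nat.le_of_dvd (by norm_num) hk39
  have hidx := P1.card_mul_index
  rw [hG] at hidx
  have hkcases : k = 1 ∨ k = 3 ∨ k = 13 ∨ k = 39 := by
    have hk0 : 0 < k := Nat.pos_of_dvd_of_pos hk39 (by norm_num)
    interval_cases k <;> simp_all
  rcases hkcases with rfl | rfl | rfl | rfl
  · -- order 144: `⟨t⟩` is normal in `P1`, so `P1 ≤ H`
    exfalso
    rw [hk] at hidx
    let T : Subgroup ↥P1 := H.subgroupOf P1
    have hTcard : Nat.card T = 48 := by
      rw [← hH48]; exact Nat.card_congr (Subgroup.subgroupOfEquivOfLe hHP).toEquiv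
    have hT3 : T.index = 3 := by
      have := T.card_mul_index
      rw [hTcard, hk] at this
      omega
    -- elements of order 3 of `H` lie in the core
    have hcore : ∀ a : ↥P1, (a : G) ∈ H → (a : G) * a * a = 1 → a ∈ T.normalCore := by
      intro a haH ha3
      by_cases ha1 : a = 1
      · rw [ha1]; exact Subgroup.one_mem _
      apply Cfsg.Agent.Helper1.Sims3.odd_mem_normalCore T hT3 (Subgroup.mem_subgroupOf.mpr haH)
      have h3 : a ^ 3 = 1 := by
        apply Subtype.ext
        rw [pow_succ, pow_two]
        exact ha3
      have ho : orderOf a = 3 := by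
        rcases (Nat.dvd_prime Nat.prime_three).mp (orderOf_dvd_of_pow_eq_one h3) with h | h
        · exact absurd (orderOf_eq_one_iff.mp h) ha1
        · exact h
      rw [ho]; decide
    -- `t` lies in the core
    have htH : t ∈ H := h4_t_mem t
    have het : e ⟨t, htH⟩ = tt := h4_e_t t ht e
    obtain ⟨a0, b0, ha0, hb0, hab0⟩ := h7_tt_eq
    let a : ↥H := e.symm a0
    let b : ↥H := e.symm b0
    have ha3 : a * a * a = 1 := by
      apply e.injective
      rw [map_mul, map_mul, map_one]
      show e (e.symm a0) * e (e.symm a0) * e (e.symm a0) = 1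
      rw [MulEquiv.apply_symm_apply]; exact ha0
    have hb3 : b * b * b = 1 := by
      apply e.injective
      rw [map_mul, map_mul, map_one]
      show e (e.symm b0) * e (e.symm b0) * e (e.symm b0) = 1
      rw [MulEquiv.apply_symm_apply]; exact hb0
    have habt : (a * b) * (a * b) = ⟨t, htH⟩ := by
      apply e.injective
      rw [het, map_mul, map_mul]
      show (e (e.symm a0) * e (e.symm b0)) * (e (e.symm a0) * e (e.symm b0)) = tt
      rw [MulEquiv.apply_symm_apply, MulEquiv.apply_symm_apply]; exact hab0
    let aP : ↥P1 := ⟨(a : G), hHP a.2⟩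
    let bP : ↥P1 := ⟨(b : G), hHP b.2⟩
    let tP : ↥P1 := ⟨t, hHP htH⟩
    have haP : aP ∈ T.normalCore := hcore aP a.2 (by
      have := congrArg Subtype.val ha3
      simpa using this)
    have hbP : bP ∈ T.normalCore := hcore bP b.2 (by
      have := congrArg Subtype.val hb3
      simpa using this)
    have htP : tP ∈ T.normalCore := by
      have h1 : (aP * bP) * (aP * bP) = tP := by
        apply Subtype.ext
        have := congrArg Subtype.val habt
        simpa using this
      rw [← h1]
      exact Subgroup.mul_mem _ (Subgroup.mul_mem _ haP hbP) (Subgroup.mul_mem _ haP hbP)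
    -- `t` centralizes the core
    have hcent : ∀ n ∈ T.normalCore, (n : G) * t = t * (n : G) := by
      intro n hn
      have h1 : n ∈ T := T.normalCore_le hn
      have h2 : (n : G) ∈ H := Subgroup.mem_subgroupOf.mp h1
      exact Subgroup.mem_centralizer_singleton_iff.mp h2
    -- every element of `P1` centralizes `t`
    have hP1H : P1 ≤ H := by
      intro g hg
      let gP : ↥P1 := ⟨g, hg⟩
      -- `s := g t g⁻¹` centralizes the core
      set s : G := g * t * g⁻¹ with hs
      have hscent : ∀ n ∈ T.normalCore, (n : G) * s = s * (n : G) := by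
        intro n hn
        have hn' : gP⁻¹ * n * gP ∈ T.normalCore := by
          have := (T.normalCore_normal).conj_mem n hn gP⁻¹
          simpa using this
        have h1 := hcent _ hn'
        have h2 : ((gP⁻¹ * n * gP : ↥P1) : G) = g⁻¹ * (n : G) * g := by simp [gP]
        rw [h2] at h1
        rw [hs]
        calc (n : G) * (g * t * g⁻¹) = g * ((g⁻¹ * (n : G) * g) * t) * g⁻¹ := by group
          _ = g * (t * (g⁻¹ * (n : G) * g)) * g⁻¹ := by rw [h1]
          _ = g * t * g⁻¹ * (n : G) := by group
      -- `s ∈ H`
      have hsH : s ∈ H := by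
        rw [hH, Subgroup.mem_centralizer_singleton_iff]
        exact (hscent tP htP).symm
      -- `e s` commutes with all elements of order 3
      have hes : e ⟨s, hsH⟩ = 1 ∨ e ⟨s, hsH⟩ = tt := by
        apply h7_comm_c3
        intro c hc
        let cH : ↥H := e.symm c
        have hc3 : cH * cH * cH = 1 := by
          apply e.injective
          rw [map_mul, map_mul, map_one]
          show e (e.symm c) * e (e.symm c) * e (e.symm c) = 1
          rw [MulEquiv.apply_symm_apply]; exact hc
        let cP : ↥P1 := ⟨(cH : G), hHP cH.2⟩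
        have hcP : cP ∈ T.normalCore := hcore cP cH.2 (by
          have := congrArg Subtype.val hc3
          simpa using this)
        have h1 := hscent cP hcP
        have h2 : (⟨s, hsH⟩ : ↥H) * cH = cH * ⟨s, hsH⟩ := Subtype.ext h1.symm
        have h3 := congrArg e h2
        rw [map_mul, map_mul] at h3
        have h4 : e cH = c := MulEquiv.apply_symm_apply e c
        rw [h4] at h3
        exact h3
      have hst : s = t := by
        rcases hes with h | h
        · exfalso
          have h1 : (⟨s, hsH⟩ : ↥H) = 1 := (MulEquiv.map_eq_one_iff e).mp h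
          have h2 : s = 1 := congrArg Subtype.val h1
          rw [hs] at h2
          have h3 : t = 1 := by
            have : t = g⁻¹ * (g * t * g⁻¹) * g := by group
            rw [this, h2]; group
          exact h4_t_ne t ht h3
        · have h1 : (⟨s, hsH⟩ : ↥H) = ⟨t, htH⟩ := e.injective (h.trans het.symm)
          exact congrArg Subtype.val h1
      rw [hH, Subgroup.mem_centralizer_singleton_iff]
      calc g * t = (g * t * g⁻¹) * g := by group
        _ = t * g := by rw [← hs, hst]
    have := Subgroup.card_dvd_of_le hP1H
    rw [hk, hH48] at this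
    omega
  · rw [hk]
  · -- index 3
    exfalso
    rw [hk] at hidx
    have : P1.index = 3 := by omega
    exact h7_no_index_three hG P1 this
  · -- everything
    exfalso
    apply hne
    rw [← Subgroup.card_eq_iff_eq_top, hk, hG]

end Cfsg.Agent.L33U
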