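-- S2916 / L33U piece P1: a simple group of order 7920 is `Spor.IsoM11`
-- (S0420 = uniqueness of the simple group of order 7920, plus `h8_sporM11Equiv`).
import Cfsg.Agent.S0420
import Cfsg.Agent.Helper8.M11Recog

set_option autoImplicit false
open Cfsg

namespace Cfsg.Agent.L33U

open Cfsg.Agent.Helper8.M11Recog

/-- P1: a simple group of order `7920` is isomorphic to the concrete Mathieu group `M₁₁`. -/
theorem isoM11_of_isM11 {G : Type*} [Group G] [Finite G] (h : Cfsg.IsM11 G) :
    Cfsg.Spor.IsoM11 G := by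
  obtain ⟨e1⟩ := Cfsg.Agent.S0420.result h Spor.squareDodecad
    Cfsg.Agent.Helper9.Golay.sqDod_mem (some 0) Cfsg.Agent.Helper9.Golay.zero_mem_sqDod
  exact ⟨e1.trans h8_sporM11Equiv.symm⟩

/-- P1, order form. -/
theorem isoM11_of_simple_card {G : Type*} [Group G] [Finite G] [hs : IsSimpleGroup G]
    (hcard : Nat.card G = 7920) : Cfsg.Spor.IsoM11 G :=
  isoM11_of_isM11 ⟨hs, hcard⟩

end Cfsg.Agent.L33U
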