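import Mathlib
import Cfsg.Agent.S0197
import Cfsg.Agent.GL23U.H4_Local
import Cfsg.Agent.L33U.Base
import Cfsg.Agent.L33U.H5_Table
import Cfsg.Agent.L33U.H2_ValX
import Cfsg.Agent.L33U.H4_Cent54
import Cfsg.Agent.L33U.H2_Local
import Cfsg.Agent.L33U.H7_FixedVec
import Cfsg.Agent.L33U.H1_Index
import Cfsg.Agent.L33U.H3_PermChar
import Cfsg.Agent.L33U.H4_FixPts
import Cfsg.Agent.L33U.H1_Steiner
import Cfsg.Agent.L33U.H9_PlaneIso

/-!
# S2916, piece P11 (helper8): assembly of the 5616 branch

A simple group `G` of order 5616 with an involution `t` such that `C_G(t) ≃* GL(2,3)` is isomorphic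
to `PSL(3,3)`: character table (P2), values at `x` (P3), 3-local configuration (P4), fixed vector
(P5), index 13 (P6), permutation character, fixed points of 3-elements (P7), Steiner system (P8),
recognition of the plane of order 3 (P9, P10).
-/

set_option autoImplicit false

namespace Cfsg.Agent.L33U

open Cfsg.Agent.S0197 Cfsg.Agent.GL23U

universe u

/-- the action of a simple group on the cosets of a proper subgroup is faithful -/
theorem h8_faithful_quotient {G : Type u} [Group G] [IsSimpleGroup G] (P : Subgroup G)
    (hP : P ≠ ⊤) : FaithfulSMul G (G ⧸ P) := by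
  constructor
  intro g h hgh
  have hcore : P.normalCore = ⊥ := by
    rcases (P.normalCore_normal).eq_bot_or_eq_top with h0 | h1
    · exact h0
    · exfalso
      apply hP
      rw [eq_top_iff, ← h1]
      exact Subgroup.normalCore_le P
  have hmem : h⁻¹ * g ∈ P.normalCore := by
    rw [Subgroup.normalCore_eq_ker, MonoidHom.mem_ker]
    ext a
    simp only [MulAction.toPermHom_apply, MulAction.toPerm_apply, Equiv.Perm.coe_one, id_eq]
    rw [mul_smul, hgh a, ← mul_smul, inv_mul_cancel, one_smul]
  rw [hcore, Subgroup.mem_bot] at hmem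
  calc g = h * (h⁻¹ * g) := by group
    _ = h := by rw [hmem, mul_one]

/-- the 5616 branch of S2916 -/
theorem h8_main5616 {G : Type u} [Group G] [Finite G] [hs : IsSimpleGroup G] (t : G)
    (ht : orderOf t = 2) (e : Subgroup.centralizer ({t} : Set G) ≃* GL23)
    (h : Nat.card G = 5616) :
    Nonempty (G ≃* Matrix.ProjectiveSpecialLinearGroup (Fin 3) (ZMod 3)) := by
  classical
  haveI : Fintype G := Fintype.ofFinite G
  let C : Ctx G :=
    { S := setup197 t ht e
      hN := by rw [setup197_N, setup197_ι_tt]
      simple := hs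
      card := h
      conj2 := by
        intro u hu
        rw [setup197_ι_tt]
        exact isConj_invol197 t ht e u hu }
  obtain ⟨T⟩ := exists_table C
  have hv := values_at_x C T
  have h54 := h4_card_centralizer_of_values C T hv
  obtain ⟨K⟩ := exists_cfg C h54
  have hfix := fixed_vector C T hv.1 K
  have h13 := index_thirteen C T K hfix
  have hπ := perm_char C T K h13 hfix
  haveI : Fintype (G ⧸ K.P1) := Fintype.ofFinite _
  have hΩ : Fintype.card (G ⧸ K.P1) = 13 := by
    rw [← Nat.card_eq_fintype_card, ← Subgroup.index_eq_card]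
    exact h13
  have hne : K.P1 ≠ ⊤ := by
    intro htop
    rw [htop, Subgroup.index_top] at h13
    omega
  haveI : FaithfulSMul G (G ⧸ K.P1) := h8_faithful_quotient K.P1 hne
  have h3 := fun y hy hy1 => fix_three C T hv.1 h54 hΩ hπ y hy hy1
  obtain ⟨B, hB, hinv⟩ := exists_steiner C T hΩ hπ h3
  exact iso_of_plane h hΩ B hB hinv

end Cfsg.Agent.L33U
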