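import Cfsg.Agent.L33U.H9_Model

/-!
# The automorphism group of the cyclic plane of order 3 has at most 5616 elements (S2916, P9)
-/

set_option autoImplicit false

namespace Cfsg.Agent.L33U

open Cfsg
open scoped Pointwise

/-- ordered quadrangles. -/
def h9_isQuad (q : ZMod 13 × ZMod 13 × ZMod 13 × ZMod 13) : Bool :=
  decide (q.1 ≠ q.2.1) && !(h9_inc q.2.2.1 (h9_join q.1 q.2.1)) && !(h9_inc q.2.2.2 (h9_join q.1 q.2.1))
    && !(h9_inc q.2.2.2 (h9_join q.1 q.2.2.1)) && !(h9_inc q.2.2.2 (h9_join q.2.1 q.2.2.1))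

theorem h9_card_quad : (Finset.univ.filter (fun q => h9_isQuad q = true)).card = 5616 := by
  decide +kernel

/-- an automorphism maps lines to lines. -/
theorem h9_aut_line {π : Equiv.Perm (ZMod 13)} (hπ : π ∈ setSystemAut h9_B0) (i : ZMod 13) :
    ∃ j, (h9_line i).image π = h9_line j := by
  have h1 : π • h9_B0 = h9_B0 := hπ
  have h2 : π • h9_line i ∈ π • h9_B0 := Set.smul_mem_smul_set ⟨i, rfl⟩
  rw [h1] at h2
  obtain ⟨j, hj⟩ := h2
  exact ⟨j, hj.symm⟩

theorem h9_aut_inc {π : Equiv.Perm (ZMod 13)} (hπ : π ∈ setSystemAut h9_B0) (i : ZMod 13) :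
    ∃ j, ∀ p, h9_inc (π p) j = true ↔ h9_inc p i = true := by
  obtain ⟨j, hj⟩ := h9_aut_line hπ i
  refine ⟨j, fun p => ?_⟩
  rw [← h9_mem_line, ← h9_mem_line, ← hj]
  exact π.injective.mem_finset_image

/-- the image of the line through `a ≠ b` is the line through the images. -/
theorem h9_aut_join {π : Equiv.Perm (ZMod 13)} (hπ : π ∈ setSystemAut h9_B0) {a b : ZMod 13}
    (hab : a ≠ b) (p : ZMod 13) :
    h9_inc (π p) (h9_join (π a) (π b)) = true ↔ h9_inc p (h9_join a b) = true := by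
  obtain ⟨j, hj⟩ := h9_aut_inc hπ (h9_join a b)
  have hs := h9_join_spec a b hab
  have h1 : h9_inc (π a) j = true := (hj a).mpr hs.1
  have h2 : h9_inc (π b) j = true := (hj b).mpr hs.2
  have hne : π a ≠ π b := fun h => hab (π.injective h)
  have : j = h9_join (π a) (π b) := h9_join_unique _ _ _ hne h1 h2
  rw [← this]
  exact hj p

/-- the fixed points of an automorphism are closed under "meet of two joins". -/
theorem h9_fix_step {ρ : Equiv.Perm (ZMod 13)} (hρ : ρ ∈ setSystemAut h9_B0) {a b c d p : ZMod 13}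
    (ha : ρ a = a) (hb : ρ b = b) (hc : ρ c = c) (hd : ρ d = d) (hab : a ≠ b) (hcd : c ≠ d)
    (hne : h9_join a b ≠ h9_join c d) (h1 : h9_inc p (h9_join a b) = true)
    (h2 : h9_inc p (h9_join c d) = true) : ρ p = p := by
  have e1 := (h9_aut_join hρ hab p).mpr h1
  have e2 := (h9_aut_join hρ hcd p).mpr h2
  rw [ha, hb] at e1
  rw [hc, hd] at e2
  exact h9_meet_unique _ _ _ _ hne e1 e2 h1 h2

/-- an automorphism fixing the quadrangle `0, 1, 2, 5` is the identity. -/
theorem h9_fix_quad {ρ : Equiv.Perm (ZMod 13)} (hρ : ρ ∈ setSystemAut h9_B0)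
    (h0 : ρ 0 = 0) (h1 : ρ 1 = 1) (h2 : ρ 2 = 2) (h5 : ρ 5 = 5) : ρ = 1 := by
  have h3 : ρ 3 = 3 := h9_fix_step hρ h0 h1 h2 h5 (by decide) (by decide) (by decide) (by decide) (by decide)
  have h8 : ρ 8 = 8 := h9_fix_step hρ h0 h2 h1 h5 (by decide) (by decide) (by decide) (by decide) (by decide)
  have h4 : ρ 4 = 4 := h9_fix_step hρ h0 h5 h1 h2 (by decide) (by decide) (by decide) (by decide) (by decide)
  have h12 : ρ 12 = 12 := h9_fix_step hρ h3 h4 h0 h2 (by decide) (by decide) (by decide) (by decide) (by decide)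
  have h6 : ρ 6 = 6 := h9_fix_step hρ h3 h4 h1 h5 (by decide) (by decide) (by decide) (by decide) (by decide)
  have h7 : ρ 7 = 7 := h9_fix_step hρ h3 h8 h0 h5 (by decide) (by decide) (by decide) (by decide) (by decide)
  have h10 : ρ 10 = 10 := h9_fix_step hρ h3 h8 h1 h2 (by decide) (by decide) (by decide) (by decide) (by decide)
  have h9 : ρ 9 = 9 := h9_fix_step hρ h4 h8 h0 h1 (by decide) (by decide) (by decide) (by decide) (by decide)
  have h11 : ρ 11 = 11 := h9_fix_step hρ h4 h8 h2 h5 (by decide) (by decide) (by decide) (by decide) (by decide)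
  ext x
  have hx : x = 0 ∨ x = 1 ∨ x = 2 ∨ x = 3 ∨ x = 4 ∨ x = 5 ∨ x = 6 ∨ x = 7 ∨ x = 8 ∨ x = 9 ∨ x = 10 ∨
      x = 11 ∨ x = 12 := by revert x; decide
  rcases hx with rfl | rfl | rfl | rfl | rfl | rfl | rfl | rfl | rfl | rfl | rfl | rfl | rfl <;>
    simp only [Equiv.Perm.coe_one, id_eq] <;> (congr 1)

/-- the image of the standard quadrangle under an automorphism is a quadrangle. -/
theorem h9_aut_quad {π : Equiv.Perm (ZMod 13)} (hπ : π ∈ setSystemAut h9_B0) :
    h9_isQuad (π 0, π 1, π 2, π 5) = true := by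
  have hne : π 0 ≠ π 1 := fun h => absurd (π.injective h) (by decide)
  have q1 : h9_inc (π 2) (h9_join (π 0) (π 1)) = false := by
    rw [← Bool.not_eq_true, h9_aut_join hπ (by decide)]; decide
  have q2 : h9_inc (π 5) (h9_join (π 0) (π 1)) = false := by
    rw [← Bool.not_eq_true, h9_aut_join hπ (by decide)]; decide
  have q3 : h9_inc (π 5) (h9_join (π 0) (π 2)) = false := by
    rw [← Bool.not_eq_true, h9_aut_join hπ (by decide)]; decide
  have q4 : h9_inc (π 5) (h9_join (π 1) (π 2)) = false := by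
    rw [← Bool.not_eq_true, h9_aut_join hπ (by decide)]; decide
  simp [h9_isQuad, hne, q1, q2, q3, q4]

/-- **The automorphism group of the cyclic plane of order 3 has at most 5616 elements.** -/
theorem h9_card_aut_le : Nat.card (setSystemAut h9_B0) ≤ 5616 := by
  classical
  let Φ : setSystemAut h9_B0 → {q : ZMod 13 × ZMod 13 × ZMod 13 × ZMod 13 // h9_isQuad q = true} :=
    fun π => ⟨(π.1 0, π.1 1, π.1 2, π.1 5), h9_aut_quad π.2⟩
  have hΦ : Function.Injective Φ := by
    intro π π' h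
    have h' : (π.1 0, π.1 1, π.1 2, π.1 5) = (π'.1 0, π'.1 1, π'.1 2, π'.1 5) :=
      congrArg Subtype.val h
    simp only [Prod.mk.injEq] at h'
    obtain ⟨e0, e1, e2, e5⟩ := h'
    have hρ : (π'⁻¹ * π).1 ∈ setSystemAut h9_B0 := (π'⁻¹ * π).2
    have : (π'⁻¹ * π).1 = 1 := by
      apply h9_fix_quad hρ
      · show π'.1⁻¹ (π.1 0) = 0
        rw [e0]; simp
      · show π'.1⁻¹ (π.1 1) = 1
        rw [e1]; simp
      · show π'.1⁻¹ (π.1 2) = 2
        rw [e2]; simp
      · show π'.1⁻¹ (π.1 5) = 5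
        rw [e5]; simp
    have h1 : π'⁻¹ * π = 1 := Subtype.ext this
    have : π = π' := by
      have := congrArg (fun x => π' * x) h1
      simpa using this
    exact this
  have := Nat.card_le_card_of_injective Φ hΦ
  rw [Nat.card_eq_fintype_card (α := {q : ZMod 13 × ZMod 13 × ZMod 13 × ZMod 13 // h9_isQuad q = true}),
    Fintype.card_subtype, h9_card_quad] at this
  exact this

end Cfsg.Agent.L33U
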