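import Cfsg.Agent.L33U.H9_Model

/-!
# A Steiner system S(2,4,13) invariant under a 13-cycle is the cyclic plane (S2916, piece P9)
-/

set_option autoImplicit false

namespace Cfsg.Agent.L33U

open Cfsg

instance h9_fact13 : Fact (Nat.Prime 13) := ⟨by norm_num⟩

/-- the set of differences of distinct elements. -/
def h9_diffs (D : Finset (ZMod 13)) : Finset (ZMod 13) := D.offDiag.image (fun p => p.1 - p.2)

set_option synthInstance.maxSize 1000 in
set_option synthInstance.maxHeartbeats 200000 in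
theorem h9_pds_list_aux : ∀ a b : ZMod 13, a ≠ 0 → a ≠ 1 → b ≠ 0 → b ≠ 1 → a ≠ b →
    (h9_diffs {0,1,a,b}).card = 12 →
    ({0,1,a,b} : Finset (ZMod 13)) = {0,1,3,9} ∨ ({0,1,a,b} : Finset (ZMod 13)) = {0,1,8,10} ∨
    ({0,1,a,b} : Finset (ZMod 13)) = {0,1,5,11} ∨ ({0,1,a,b} : Finset (ZMod 13)) = {0,1,4,6} := by
  decide +kernel

theorem h9_pds_list (D : Finset (ZMod 13)) (h4 : D.card = 4) (h0 : 0 ∈ D) (h1 : 1 ∈ D)
    (hd : (h9_diffs D).card = 12) :
    D = {0,1,3,9} ∨ D = {0,1,8,10} ∨ D = {0,1,5,11} ∨ D = {0,1,4,6} := by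
  have h2 : ((D.erase 0).erase 1).card = 2 := by
    rw [Finset.card_erase_of_mem, Finset.card_erase_of_mem h0, h4]
    exact Finset.mem_erase.mpr ⟨by decide, h1⟩
  obtain ⟨a, b, hab, hE⟩ := Finset.card_eq_two.mp h2
  have hD : D = {0,1,a,b} := by
    have e1 : insert 1 ((D.erase 0).erase 1) = D.erase 0 :=
      Finset.insert_erase (Finset.mem_erase.mpr ⟨by decide, h1⟩)
    have e0 : insert 0 (D.erase 0) = D := Finset.insert_erase h0
    rw [← e0, ← e1, hE]
  have ha : a ∈ (D.erase 0).erase 1 := by rw [hE]; simp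
  have hb : b ∈ (D.erase 0).erase 1 := by rw [hE]; simp
  simp only [Finset.mem_erase] at ha hb
  subst hD
  exact h9_pds_list_aux a b ha.2.1 ha.1 hb.2.1 hb.1 hab hd

/-- translation of a finset. -/
def h9_tr (D : Finset (ZMod 13)) (c : ZMod 13) : Finset (ZMod 13) := D.image (· + c)

theorem h9_mem_tr {D : Finset (ZMod 13)} {c x : ZMod 13} : x ∈ h9_tr D c ↔ x - c ∈ D := by
  unfold h9_tr
  rw [Finset.mem_image]
  constructor
  · rintro ⟨y, hy, rfl⟩
    simpa using hy
  · intro h
    exact ⟨x - c, h, by ring⟩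

theorem h9_tr_zero (D : Finset (ZMod 13)) : h9_tr D 0 = D := by
  ext x; rw [h9_mem_tr]; simp

theorem h9_tr_add (D : Finset (ZMod 13)) (c c' : ZMod 13) :
    h9_tr (h9_tr D c) c' = h9_tr D (c + c') := by
  ext x
  rw [h9_mem_tr, h9_mem_tr, h9_mem_tr]
  have : x - c' - c = x - (c + c') := by ring
  rw [this]

theorem h9_card_tr (D : Finset (ZMod 13)) (c : ZMod 13) : (h9_tr D c).card = D.card := by
  unfold h9_tr
  exact Finset.card_image_of_injective _ (add_left_injective c)

theorem h9_line_eq_tr (i : ZMod 13) : h9_line i = h9_tr h9_D0 i := rfl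

/-- a finset fixed by a nonzero translation is everything (if nonempty). -/
theorem h9_tr_fixed {D : Finset (ZMod 13)} {c : ZMod 13} (hc : c ≠ 0) (h : h9_tr D c = D)
    (h0 : (0 : ZMod 13) ∈ D) : D = Finset.univ := by
  have hn : ∀ n : ℕ, h9_tr D ((n : ZMod 13) * c) = D := by
    intro n
    induction n with
    | zero => simp [h9_tr_zero]
    | succ n ih =>
      have : ((n + 1 : ℕ) : ZMod 13) * c = (n : ZMod 13) * c + c := by push_cast; ring
      rw [this, ← h9_tr_add, ih, h]
  have hall : ∀ x : ZMod 13, h9_tr D x = D := by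
    intro x
    have hx : x = (((x * c⁻¹).val : ℕ) : ZMod 13) * c := by
      rw [ZMod.natCast_zmod_val, mul_assoc, inv_mul_cancel₀ hc, mul_one]
    rw [hx]
    exact hn _
  ext x
  simp only [Finset.mem_univ, iff_true]
  have := hall x
  rw [← this, h9_mem_tr]
  simpa using h0

/-- affine permutations of `ZMod 13`. -/
def h9_aff (u v c : ZMod 13) (h : v * u = 1) : Equiv.Perm (ZMod 13) where
  toFun x := u * x + c
  invFun x := v * (x - c)
  left_inv x := by
    show v * (u * x + c - c) = x
    have : v * (u * x + c - c) = (v * u) * x := by ring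
    rw [this, h, one_mul]
  right_inv x := by
    show u * (v * (x - c)) + c = x
    have : u * (v * (x - c)) + c = (v * u) * (x - c) + c := by ring
    rw [this, h, one_mul]; ring

theorem h9_aff_apply (u v c : ZMod 13) (h : v * u = 1) (x : ZMod 13) :
    h9_aff u v c h x = u * x + c := rfl

theorem h9_image_aff_line (u v c : ZMod 13) (h : v * u = 1) (i : ZMod 13) :
    (h9_line i).image (h9_aff u v c h) = h9_tr (h9_D0.image (h9_aff u v c h)) (u * i) := by
  unfold h9_line h9_tr
  rw [Finset.image_image, Finset.image_image]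
  apply Finset.image_congr
  intro x _
  simp only [Function.comp, h9_aff_apply]
  ring

/-- **Cyclic planes of order 3.**  A Steiner system `S(2,4,13)` on `ZMod 13` invariant under
`x ↦ x + 1` is the image of the standard cyclic plane under an (affine) permutation. -/
theorem h9_cyclic (B : Set (Finset (ZMod 13))) (hB : IsSteinerSystem 2 4 B)
    (hinv : ∀ b ∈ B, h9_tr b 1 ∈ B) :
    ∃ π : Equiv.Perm (ZMod 13), ∀ b : Finset (ZMod 13), b ∈ B ↔ ∃ i, b = (h9_line i).image π := by
  -- invariance under all translations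
  have hinvn : ∀ n : ℕ, ∀ b ∈ B, h9_tr b (n : ZMod 13) ∈ B := by
    intro n
    induction n with
    | zero => intro b hb; simpa [h9_tr_zero] using hb
    | succ n ih =>
      intro b hb
      have : ((n + 1 : ℕ) : ZMod 13) = (n : ZMod 13) + 1 := by push_cast; rfl
      rw [this, ← h9_tr_add]
      exact hinv _ (ih b hb)
  have hinv' : ∀ c : ZMod 13, ∀ b ∈ B, h9_tr b c ∈ B := by
    intro c b hb
    have := hinvn c.val b hb
    rwa [ZMod.natCast_zmod_val] at this
  -- uniqueness of the block through two points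
  have huniq : ∀ a b : ZMod 13, a ≠ b → ∀ E ∈ B, ∀ E' ∈ B, a ∈ E → b ∈ E → a ∈ E' → b ∈ E' →
      E = E' := by
    intro a b hab E hE E' hE' haE hbE haE' hbE'
    obtain ⟨X, _, hX⟩ := hB.2 {a, b} (Finset.card_pair hab)
    have hsub : ∀ F : Finset (ZMod 13), a ∈ F → b ∈ F → ({a, b} : Finset (ZMod 13)) ⊆ F := by
      intro F ha hb x hx
      simp only [Finset.mem_insert, Finset.mem_singleton] at hx
      rcases hx with rfl | rfl <;> assumption
    have h1 := hX E ⟨hE, hsub E haE hbE⟩
    have h2 := hX E' ⟨hE', hsub E' haE' hbE'⟩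
    rw [h1, h2]
  -- the block through 0 and 1
  obtain ⟨D, ⟨hDB, hD01⟩, -⟩ := hB.2 {0, 1} (Finset.card_pair (by decide))
  have h0 : (0 : ZMod 13) ∈ D := hD01 (by simp)
  have h1 : (1 : ZMod 13) ∈ D := hD01 (by simp)
  have h4 : D.card = 4 := hB.1 D hDB
  -- perfect difference set
  have hpds : ∀ d1 ∈ D, ∀ d2 ∈ D, ∀ d3 ∈ D, ∀ d4 ∈ D, d1 ≠ d2 → d1 - d2 = d3 - d4 → d1 = d3 := by
    intro d1 hd1 d2 hd2 d3 hd3 d4 hd4 hne heq
    by_contra hc
    have hc' : d1 - d3 ≠ 0 := sub_ne_zero.mpr hc
    have hD' : h9_tr D (d1 - d3) ∈ B := hinv' _ D hDB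
    have m1 : d1 ∈ h9_tr D (d1 - d3) := by
      rw [h9_mem_tr]; have : d1 - (d1 - d3) = d3 := by ring
      rw [this]; exact hd3
    have m2 : d2 ∈ h9_tr D (d1 - d3) := by
      rw [h9_mem_tr]
      have : d2 - (d1 - d3) = d4 := by
        have : d4 = d3 - (d1 - d2) := by rw [heq]; ring
        rw [this]; ring
      rw [this]; exact hd4
    have hfix : h9_tr D (d1 - d3) = D := (huniq d1 d2 hne _ hD' _ hDB m1 m2 hd1 hd2)
    have huniv := h9_tr_fixed hc' hfix h0
    rw [huniv] at h4
    simp at h4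
  -- the differences
  have hdiffs : (h9_diffs D).card = 12 := by
    unfold h9_diffs
    rw [Finset.card_image_of_injOn, Finset.offDiag_card, h4]
    intro p hp q hq hpq
    simp only [Finset.coe_offDiag] at hp hq
    have e1 : p.1 = q.1 := hpds p.1 hp.1 p.2 hp.2.1 q.1 hq.1 q.2 hq.2.1 hp.2.2 hpq
    have e2 : p.2 = q.2 := by
      have : p.1 - p.2 = q.1 - q.2 := hpq
      rw [e1] at this
      exact sub_right_injective this
    exact Prod.ext e1 e2
  have hdiffs_eq : h9_diffs D = Finset.univ.erase 0 := by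
    apply Finset.eq_of_subset_of_card_le
    · intro x hx
      unfold h9_diffs at hx
      rw [Finset.mem_image] at hx
      obtain ⟨p, hp, rfl⟩ := hx
      rw [Finset.mem_offDiag] at hp
      exact Finset.mem_erase.mpr ⟨sub_ne_zero.mpr hp.2.2, Finset.mem_univ _⟩
    · rw [hdiffs, Finset.card_erase_of_mem (Finset.mem_univ _)]
      simp
  -- every block is a translate of D
  have htrans : ∀ E ∈ B, ∃ c, E = h9_tr D c := by
    intro E hE
    have hE4 : E.card = 4 := hB.1 E hE
    obtain ⟨a, ha, b, hb, hab⟩ := Finset.one_lt_card.mp (by rw [hE4]; norm_num)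
    have : a - b ∈ h9_diffs D := by
      rw [hdiffs_eq]
      exact Finset.mem_erase.mpr ⟨sub_ne_zero.mpr hab, Finset.mem_univ _⟩
    unfold h9_diffs at this
    rw [Finset.mem_image] at this
    obtain ⟨p, hp, hpe⟩ := this
    rw [Finset.mem_offDiag] at hp
    refine ⟨a - p.1, ?_⟩
    have hT : h9_tr D (a - p.1) ∈ B := hinv' _ D hDB
    have m1 : a ∈ h9_tr D (a - p.1) := by
      rw [h9_mem_tr]; have : a - (a - p.1) = p.1 := by ring
      rw [this]; exact hp.1
    have m2 : b ∈ h9_tr D (a - p.1) := by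
      rw [h9_mem_tr]
      have : b - (a - p.1) = p.2 := by
        have : p.2 = p.1 - (a - b) := by rw [← hpe]; ring
        rw [this]; ring
      rw [this]; exact hp.2.1
    exact huniq a b hab E hE _ hT ha hb m1 m2
  -- conclusion for an affine image of D0
  have key : ∀ (u v c : ZMod 13) (h : v * u = 1), h9_D0.image (h9_aff u v c h) = D →
      ∃ π : Equiv.Perm (ZMod 13), ∀ b : Finset (ZMod 13), b ∈ B ↔ ∃ i, b = (h9_line i).image π := by
    intro u v c h hD
    refine ⟨h9_aff u v c h, fun b => ⟨fun hb => ?_, ?_⟩⟩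
    · obtain ⟨c', rfl⟩ := htrans b hb
      refine ⟨v * c', ?_⟩
      rw [h9_image_aff_line, hD]
      have : u * (v * c') = c' := by
        have : u * (v * c') = (v * u) * c' := by ring
        rw [this, h, one_mul]
      rw [this]
    · rintro ⟨i, rfl⟩
      rw [h9_image_aff_line, hD]
      exact hinv' _ D hDB
  rcases h9_pds_list D h4 h0 h1 hdiffs with hD | hD | hD | hD
  · exact key 1 1 0 (by decide) (by rw [hD]; decide)
  · exact key 2 7 8 (by decide) (by rw [hD]; decide)
  · exact key 4 10 1 (by decide) (by rw [hD]; decide)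
  · exact key 7 2 6 (by decide) (by rw [hD]; decide)

end Cfsg.Agent.L33U
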