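import Mathlib
import Cfsg.Prelude.Def_Sporadic_a

/-!
# The cyclic model of the projective plane of order 3 (S2916, piece P9)

Points and lines are both indexed by `ZMod 13`; the line `i` is `{0,1,3,9} + i`.
-/

set_option autoImplicit false

namespace Cfsg.Agent.L33U

open scoped Pointwise

/-- the perfect difference set `{0,1,3,9}` modulo 13. -/
def h9_D0 : Finset (ZMod 13) := {0, 1, 3, 9}

/-- the line number `i` of the cyclic plane: `{0,1,3,9} + i`. -/
def h9_line (i : ZMod 13) : Finset (ZMod 13) := h9_D0.image (· + i)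

/-- the 13 lines of the cyclic plane of order 3. -/
def h9_B0 : Set (Finset (ZMod 13)) := Set.range h9_line

/-- incidence as a Boolean. -/
def h9_inc (p i : ZMod 13) : Bool := decide (p - i = 0 ∨ p - i = 1 ∨ p - i = 3 ∨ p - i = 9)

theorem h9_mem_line {p i : ZMod 13} : p ∈ h9_line i ↔ h9_inc p i = true := by
  revert p i; decide

/-- the table giving, for a nonzero difference `δ = b - a`, the element `d ∈ D0` with `d + δ ∈ D0`. -/
def h9_tab (δ : ZMod 13) : ZMod 13 :=
  match δ.val with
  | 1 => 0 | 3 => 0 | 9 => 0
  | 12 => 1 | 2 => 1 | 8 => 1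
  | 10 => 3 | 11 => 3 | 6 => 3
  | 4 => 9 | 5 => 9 | 7 => 9
  | _ => 0

/-- the index of the line through two distinct points. -/
def h9_join (a b : ZMod 13) : ZMod 13 := a - h9_tab (b - a)

theorem h9_join_spec : ∀ a b : ZMod 13, a ≠ b →
    h9_inc a (h9_join a b) = true ∧ h9_inc b (h9_join a b) = true := by decide

theorem h9_join_unique : ∀ a b i : ZMod 13, a ≠ b →
    h9_inc a i = true → h9_inc b i = true → i = h9_join a b := by decide

/-- two distinct lines meet in exactly one point. -/
theorem h9_meet_unique : ∀ i j p q : ZMod 13, i ≠ j →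
    h9_inc p i = true → h9_inc p j = true → h9_inc q i = true → h9_inc q j = true → p = q := by
  decide

end Cfsg.Agent.L33U
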