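import Cfsg.Agent.L33U.H9_Cyclic
import Cfsg.Agent.L33U.H9_AutBound

/-!
# Groups of order 5616 acting faithfully on a Steiner system S(2,4,13) (S2916, piece P9)
-/

set_option autoImplicit false

namespace Cfsg.Agent.L33U

open Cfsg
open scoped Pointwise

/-- an element of order 13 moving `ω0` gives a bijection `ZMod 13 ≃ Ω` onto a 13-point set. -/
theorem h9_exists_cycle_equiv {G Ω : Type*} [Group G] [Fintype Ω] [MulAction G Ω]
    (hΩ : Fintype.card Ω = 13) (s : G) (hs : orderOf s = 13) (ω0 : Ω) (hω : s • ω0 ≠ ω0) :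
    ∃ e : ZMod 13 ≃ Ω, ∀ i, e (i + 1) = s • e i := by
  have hs13 : s ^ 13 = 1 := by rw [← hs]; exact pow_orderOf_eq_one s
  have key : ∀ k : ℕ, 0 < k → k < 13 → s ^ k • ω0 ≠ ω0 := by
    intro k hk0 hk13 hfix
    have hcop : Nat.Coprime k 13 := by
      rw [Nat.coprime_comm]
      exact (Nat.Prime.coprime_iff_not_dvd (by norm_num)).mpr (fun h => by
        have := Nat.le_of_dvd hk0 h; omega)
    obtain ⟨m, -, hm⟩ := Nat.exists_mul_mod_eq_one_of_coprime hcop (by norm_num)
    have h1 : s = (s ^ k) ^ m := by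
      rw [← pow_mul, ← pow_mod_orderOf, hs, hm, pow_one]
    have h2 : (s ^ k) ^ m • ω0 = ω0 := by
      have : s ^ k ∈ MulAction.stabilizer G ω0 := hfix
      exact pow_mem this m
    rw [← h1] at h2
    exact hω h2
  let e0 : ZMod 13 → Ω := fun i => s ^ i.val • ω0
  have hinj : Function.Injective e0 := by
    have aux : ∀ a b : ℕ, a < b → b < 13 → s ^ a • ω0 ≠ s ^ b • ω0 := by
      intro a b hab hb h
      have hba : s ^ b = s ^ a * s ^ (b - a) := by rw [← pow_add]; congr 1; omega
      rw [hba, mul_smul] at h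
      have := MulAction.injective (s ^ a) h
      exact key (b - a) (by omega) (by omega) this.symm
    intro i j hij
    by_contra hne
    have hv : i.val ≠ j.val := fun h => hne (ZMod.val_injective 13 h)
    have hi : i.val < 13 := ZMod.val_lt i
    have hj : j.val < 13 := ZMod.val_lt j
    rcases Nat.lt_or_gt_of_ne hv with h | h
    · exact aux _ _ h hj hij
    · exact aux _ _ h hi hij.symm
  have hbij : Function.Bijective e0 := by
    rw [Fintype.bijective_iff_injective_and_card]
    refine ⟨hinj, ?_⟩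
    rw [hΩ, ZMod.card]
  refine ⟨Equiv.ofBijective e0 hbij, fun i => ?_⟩
  show s ^ (i + 1).val • ω0 = s • s ^ i.val • ω0
  rw [← mul_smul, ← pow_succ']
  congr 1
  rw [ZMod.val_add, ← pow_mod_orderOf (n := i.val + 1), hs]
  congr 2

/-- **P9.**  A group of order 5616 acting faithfully on 13 points and preserving a Steiner
system `S(2,4,13)` is isomorphic to the automorphism group of the cyclic plane of order 3. -/
theorem h9_plane {G Ω : Type*} [Group G] [Fintype Ω] [DecidableEq Ω] [MulAction G Ω]
    [FaithfulSMul G Ω] (hΩ : Fintype.card Ω = 13) (hG : Nat.card G = 5616)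
    (B : Set (Finset Ω)) (hB : IsSteinerSystem 2 4 B)
    (hinv : ∀ g : G, ∀ b ∈ B, b.image (fun ω => g • ω) ∈ B) :
    Nonempty (G ≃* setSystemAut h9_B0) := by
  classical
  have : Finite G := Nat.finite_of_card_ne_zero (by rw [hG]; norm_num)
  -- an element of order 13
  obtain ⟨s, hs⟩ := exists_prime_orderOf_dvd_card' (G := G) 13 (by rw [hG]; norm_num)
  have hs1 : s ≠ 1 := by
    intro h; rw [h, orderOf_one] at hs; norm_num at hs
  obtain ⟨ω0, hω⟩ : ∃ ω0 : Ω, s • ω0 ≠ ω0 := by
    by_contra hcon
    push Not at hcon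
    exact hs1 (FaithfulSMul.eq_of_smul_eq_smul (α := Ω) (fun ω => by rw [hcon ω, one_smul]))
  obtain ⟨e, he⟩ := h9_exists_cycle_equiv hΩ s hs ω0 hω
  -- pull back the blocks
  let B' : Set (Finset (ZMod 13)) := {b | b.map e.toEmbedding ∈ B}
  have hB' : IsSteinerSystem 2 4 B' := by
    refine ⟨fun b hb => ?_, fun t ht => ?_⟩
    · have := hB.1 _ hb
      rwa [Finset.card_map] at this
    · obtain ⟨X, ⟨hXB, hXs⟩, hXu⟩ := hB.2 (t.map e.toEmbedding) (by rw [Finset.card_map]; exact ht)
      have hXe : (X.map e.symm.toEmbedding).map e.toEmbedding = X := by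
        rw [Finset.map_map]
        ext x; simp
      refine ⟨X.map e.symm.toEmbedding, ⟨?_, ?_⟩, ?_⟩
      · show (X.map e.symm.toEmbedding).map e.toEmbedding ∈ B
        rw [hXe]; exact hXB
      · rw [← Finset.map_subset_map (f := e.toEmbedding), hXe]; exact hXs
      · rintro b2 ⟨hb2, hb2s⟩
        have := hXu (b2.map e.toEmbedding) ⟨hb2, Finset.map_subset_map.mpr hb2s⟩
        rw [← this, Finset.map_map]
        ext x; simp
  have hinv' : ∀ b ∈ B', h9_tr b 1 ∈ B' := by
    intro b hb
    show (h9_tr b 1).map e.toEmbedding ∈ B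
    have := hinv s _ hb
    convert this using 1
    unfold h9_tr
    rw [Finset.map_eq_image, Finset.map_eq_image, Finset.image_image, Finset.image_image]
    apply Finset.image_congr
    intro x _
    simp only [Function.comp, Equiv.coe_toEmbedding]
    exact he x
  obtain ⟨π, hπ⟩ := h9_cyclic B' hB' hinv'
  -- the good identification
  let e' : ZMod 13 ≃ Ω := π.trans e
  have hline : ∀ i, (h9_line i).map e'.toEmbedding ∈ B := by
    intro i
    have : (h9_line i).image π ∈ B' := (hπ _).mpr ⟨i, rfl⟩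
    have h2 : ((h9_line i).image π).map e.toEmbedding ∈ B := this
    convert h2 using 1
    rw [Finset.map_eq_image, Finset.map_eq_image, Finset.image_image]
    rfl
  have hblock : ∀ X ∈ B, ∃ i, X = (h9_line i).map e'.toEmbedding := by
    intro X hX
    have hXe : (X.map e.symm.toEmbedding).map e.toEmbedding = X := by
      rw [Finset.map_map]
      ext x; simp
    have : X.map e.symm.toEmbedding ∈ B' := by
      show (X.map e.symm.toEmbedding).map e.toEmbedding ∈ B
      rw [hXe]; exact hX
    obtain ⟨i, hi⟩ := (hπ _).mp this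
    refine ⟨i, ?_⟩
    rw [← hXe, hi, Finset.map_eq_image, Finset.map_eq_image, Finset.image_image]
    rfl
  -- the homomorphism
  let φ : G →* Equiv.Perm (ZMod 13) :=
    (e'.symm.permCongrHom.toMonoidHom).comp (MulAction.toPermHom G Ω)
  have hφ_apply : ∀ g x, φ g x = e'.symm (g • e' x) := fun g x => rfl
  have hφinj : Function.Injective φ := by
    intro g h hgh
    have : MulAction.toPermHom G Ω g = MulAction.toPermHom G Ω h :=
      e'.symm.permCongrHom.injective hgh
    exact MulAction.toPerm_injective this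
  have hφmem : ∀ g, φ g ∈ setSystemAut h9_B0 := by
    intro g
    show φ g ∈ MulAction.stabilizer (Equiv.Perm (ZMod 13)) (Set.range h9_line)
    rw [MulAction.mem_stabilizer_set_iff_smul_set_subset (Set.finite_range _)]
    rintro _ ⟨_, ⟨i, rfl⟩, rfl⟩
    obtain ⟨j, hj⟩ := hblock _ (hinv g _ (hline i))
    refine ⟨j, ?_⟩
    apply Finset.map_injective e'.toEmbedding
    rw [← hj]
    ext x
    simp only [Finset.mem_image, Finset.mem_map, Equiv.coe_toEmbedding, Finset.mem_smul_finset]
    constructor
    · rintro ⟨a, ⟨y, hy, rfl⟩, rfl⟩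
      refine ⟨φ g y, ⟨y, hy, rfl⟩, ?_⟩
      rw [hφ_apply]; simp
    · rintro ⟨a, ⟨y, hy, rfl⟩, rfl⟩
      refine ⟨e' y, ⟨y, hy, rfl⟩, ?_⟩
      show g • e' y = e' (φ g y)
      rw [hφ_apply]; simp
  let φ' : G →* setSystemAut h9_B0 := φ.codRestrict _ hφmem
  have hφ'inj : Function.Injective φ' := by
    intro g h hgh
    exact hφinj (congrArg Subtype.val hgh)
  have hcard : Nat.card G = Nat.card (setSystemAut h9_B0) := by
    apply le_antisymm
    · exact Nat.card_le_card_of_injective φ' hφ'inj
    · rw [hG]; exact h9_card_aut_le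
  have hbij : Function.Bijective φ' := (Nat.bijective_iff_injective_and_card φ').mpr ⟨hφ'inj, hcard⟩
  exact ⟨MulEquiv.ofBijective φ' hbij⟩

end Cfsg.Agent.L33U
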